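import Cfsg.Agent.Lib.InvolSL.Upper

/-!
A certificate for the classes of involutions of type E6.
-/

set_option autoImplicit false

namespace CfsgLib.InvolSL.E6

/-- Entries of a representative. -/
def ent0_0 : List (ℕ × Entry) := [
  (0, ⟨none, [1, 3, 4, 2, 3, 0, 2, 1, 3, 4, 5, 4, 3, 2, 1, 3, 4, 0, 2, 3, 1]⟩),
  (1, ⟨none, [1, 3, 4, 2, 3, 0, 2, 1, 3, 4, 5, 4, 3, 2, 1, 3, 4, 0, 2, 3]⟩),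
  (2, ⟨none, [1, 3, 4, 2, 3, 0, 2, 1, 3, 4, 5, 4, 3, 2, 1, 3, 4, 0, 2]⟩),
  (3, ⟨none, [1, 3, 4, 2, 3, 0, 2, 1, 3, 4, 5, 4, 3, 2, 1, 3, 0, 2]⟩),
  (4, ⟨none, [1, 3, 4, 5, 2, 3, 0, 2, 1, 3, 4, 3, 2, 1, 3, 0, 2]⟩),
  (5, ⟨none, [1, 3, 4, 2, 3, 0, 2, 1, 3, 4, 5, 4, 3, 2, 1, 3, 4, 0]⟩),
  (6, ⟨none, [1, 3, 4, 2, 3, 0, 2, 1, 3, 4, 5, 4, 3, 2, 1, 3, 0]⟩),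
  (7, ⟨none, [1, 3, 4, 5, 2, 3, 0, 2, 1, 3, 4, 3, 2, 1, 3, 0]⟩),
  (8, ⟨none, [1, 3, 4, 2, 3, 0, 2, 1, 3, 4, 5, 4, 3, 2, 1, 0]⟩),
  (9, ⟨none, [1, 3, 4, 5, 2, 3, 0, 2, 1, 3, 4, 3, 2, 1, 0]⟩),
  (10, ⟨none, [1, 3, 4, 5, 2, 3, 4, 0, 2, 1, 3, 2, 1, 0]⟩),
  (11, ⟨none, [1, 3, 4, 2, 3, 0, 2, 1, 3, 4, 5, 4, 3, 2, 0]⟩),
  (12, ⟨none, [1, 3, 4, 5, 2, 3, 0, 2, 1, 3, 4, 3, 2, 0]⟩),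
  (13, ⟨none, [1, 3, 4, 5, 2, 3, 4, 0, 2, 1, 3, 2, 0]⟩),
  (14, ⟨none, [1, 3, 4, 5, 2, 3, 4, 1, 3, 0, 2, 0]⟩),
  (15, ⟨none, [1, 3, 4, 5, 2, 3, 4, 1, 3, 2, 0]⟩),
  (16, ⟨none, [1, 3, 4, 2, 3, 0, 2, 1, 3, 4, 5, 4, 3, 2, 1, 3, 4]⟩),
  (17, ⟨none, [1, 3, 4, 2, 3, 0, 2, 1, 3, 4, 5, 4, 3, 2, 1, 3]⟩),
  (18, ⟨none, [1, 3, 4, 5, 2, 3, 0, 2, 1, 3, 4, 3, 2, 1, 3]⟩),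
  (19, ⟨none, [1, 3, 4, 2, 3, 0, 2, 1, 3, 4, 5, 4, 3, 2, 1]⟩),
  (20, ⟨none, [1, 3, 4, 5, 2, 3, 0, 2, 1, 3, 4, 3, 2, 1]⟩),
  (21, ⟨none, [1, 3, 4, 5, 2, 3, 4, 0, 2, 1, 3, 2, 1]⟩),
  (22, ⟨none, [1, 3, 4, 2, 3, 0, 2, 1, 3, 4, 5, 4, 3, 1]⟩),
  (23, ⟨none, [1, 3, 4, 5, 2, 3, 0, 2, 1, 3, 4, 3, 1]⟩),
  (24, ⟨none, [1, 3, 4, 5, 2, 3, 4, 0, 2, 1, 3, 1]⟩),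
  (25, ⟨none, [1, 3, 4, 5, 2, 3, 4, 0, 2, 3, 1]⟩),
  (26, ⟨none, [1, 3, 4, 2, 3, 0, 2, 1, 3, 4, 5, 4, 3, 2]⟩),
  (27, ⟨none, [1, 3, 4, 5, 2, 3, 0, 2, 1, 3, 4, 3, 2]⟩),
  (28, ⟨none, [1, 3, 4, 5, 2, 3, 4, 0, 2, 1, 3, 2]⟩),
  (29, ⟨none, [1, 3, 4, 5, 2, 3, 4, 1, 3, 0, 2]⟩),
  (30, ⟨none, [1, 3, 4, 2, 3, 0, 2, 1, 3, 4, 5, 4, 3]⟩),
  (31, ⟨none, [1, 3, 4, 5, 2, 3, 0, 2, 1, 3, 4, 3]⟩),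
  (32, ⟨none, [1, 3, 4, 5, 2, 3, 4, 0, 2, 1, 3]⟩),
  (33, ⟨none, [1, 3, 4, 2, 3, 0, 2, 1, 3, 4, 5, 4]⟩),
  (34, ⟨none, [1, 3, 4, 5, 2, 3, 0, 2, 1, 3, 4]⟩),
  (35, ⟨none, [1, 3, 4, 2, 3, 0, 2, 1, 3, 4, 5]⟩),
  (36, ⟨none, [1, 3, 4, 2, 3, 0, 2, 1, 3, 4]⟩),
  (37, ⟨none, [1, 3, 4, 5, 2, 3, 0, 2, 1, 3]⟩),
  (38, ⟨none, [1, 3, 4, 2, 3, 0, 2, 1, 3]⟩),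
  (39, ⟨none, [1, 3, 4, 5, 2, 3, 4, 0, 2, 1]⟩)]

/-- Entries of a representative. -/
def ent0_1 : List (ℕ × Entry) := [
  (40, ⟨none, [1, 3, 4, 5, 2, 3, 0, 2, 1]⟩),
  (41, ⟨none, [1, 3, 4, 2, 3, 0, 2, 1]⟩),
  (42, ⟨none, [1, 3, 4, 5, 2, 3, 4, 1, 3, 0]⟩),
  (43, ⟨none, [1, 3, 4, 5, 2, 3, 4, 1, 0]⟩),
  (44, ⟨none, [1, 3, 4, 5, 2, 3, 1, 0]⟩),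
  (45, ⟨none, [1, 3, 4, 2, 3, 1, 0]⟩),
  (46, ⟨none, [1, 3, 4, 5, 2, 3, 4, 0, 2, 3]⟩),
  (47, ⟨none, [1, 3, 4, 5, 2, 3, 4, 0, 2]⟩),
  (48, ⟨none, [1, 3, 4, 5, 2, 3, 0, 2]⟩),
  (49, ⟨none, [1, 3, 4, 2, 3, 0, 2]⟩),
  (50, ⟨none, [1, 3, 4, 5, 2, 3, 4, 0]⟩),
  (51, ⟨none, [1, 3, 4, 5, 2, 3, 0]⟩),
  (52, ⟨none, [1, 3, 4, 2, 3, 0]⟩),
  (53, ⟨none, [1, 3, 4, 5, 2, 0]⟩),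
  (54, ⟨none, [1, 3, 4, 2, 0]⟩),
  (55, ⟨none, [1, 3, 2, 0]⟩),
  (56, ⟨none, [1, 3, 4, 5, 2, 3, 4, 1, 3, 2]⟩),
  (57, ⟨none, [1, 3, 4, 5, 2, 3, 4, 1, 3]⟩),
  (58, ⟨none, [1, 3, 4, 5, 2, 3, 4, 1]⟩),
  (59, ⟨none, [1, 3, 4, 5, 2, 3, 1]⟩),
  (60, ⟨none, [1, 3, 4, 2, 3, 1]⟩),
  (61, ⟨none, [1, 3, 4, 5, 2, 3, 4]⟩),
  (62, ⟨none, [1, 3, 4, 5, 2, 3]⟩),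
  (63, ⟨none, [1, 3, 4, 2, 3]⟩),
  (64, ⟨none, [1, 3, 4, 5, 2]⟩),
  (65, ⟨none, [1, 3, 4, 2]⟩),
  (66, ⟨none, [1, 3, 2]⟩),
  (67, ⟨none, [1, 3, 4, 5]⟩),
  (68, ⟨none, [1, 3, 4]⟩),
  (69, ⟨none, [1, 3]⟩),
  (70, ⟨none, [1]⟩),
  (71, ⟨none, []⟩)]

/-- All entries of a representative. -/
def ent0 : List (ℕ × Entry) := ent0_0 ++ ent0_1

/-- Entries of a representative. -/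
def ent1_0 : List (ℕ × Entry) := [
  (11, ⟨none, [4, 3, 1, 1, 3, 4, 2, 3, 0, 2, 1, 3, 4, 5, 4, 3, 2, 0]⟩),
  (12, ⟨none, [4, 3, 1, 1, 3, 4, 5, 2, 3, 0, 2, 1, 3, 4, 3, 2, 0]⟩),
  (13, ⟨none, [4, 3, 1, 1, 3, 4, 5, 2, 3, 4, 0, 2, 1, 3, 2, 0]⟩),
  (14, ⟨none, [4, 3, 1, 1, 3, 4, 5, 2, 3, 4, 1, 3, 0, 2, 0]⟩),
  (15, ⟨none, [4, 3, 1, 1, 3, 4, 5, 2, 3, 4, 1, 3, 2, 0]⟩),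
  (26, ⟨none, [4, 3, 1, 1, 3, 4, 2, 3, 0, 2, 1, 3, 4, 5, 4, 3, 2]⟩),
  (27, ⟨none, [4, 3, 1, 1, 3, 4, 5, 2, 3, 0, 2, 1, 3, 4, 3, 2]⟩),
  (28, ⟨none, [4, 3, 1, 1, 3, 4, 5, 2, 3, 4, 0, 2, 1, 3, 2]⟩),
  (29, ⟨none, [4, 3, 1, 1, 3, 4, 5, 2, 3, 4, 1, 3, 0, 2]⟩),
  (30, ⟨none, [4, 3, 1, 1, 3, 4, 2, 3, 0, 2, 1, 3, 4, 5, 4, 3]⟩),
  (31, ⟨none, [4, 3, 1, 1, 3, 4, 5, 2, 3, 0, 2, 1, 3, 4, 3]⟩),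
  (32, ⟨none, [4, 3, 1, 1, 3, 4, 5, 2, 3, 4, 0, 2, 1, 3]⟩),
  (33, ⟨none, [4, 3, 1, 1, 3, 4, 2, 3, 0, 2, 1, 3, 4, 5, 4]⟩),
  (34, ⟨none, [4, 3, 1, 1, 3, 4, 5, 2, 3, 0, 2, 1, 3, 4]⟩),
  (35, ⟨none, [4, 3, 1, 1, 3, 4, 2, 3, 0, 2, 1, 3, 4, 5]⟩),
  (36, ⟨none, [4, 3, 1, 1, 3, 4, 2, 3, 0, 2, 1, 3, 4]⟩),
  (37, ⟨none, [4, 3, 1, 1, 3, 4, 5, 2, 3, 0, 2, 1, 3]⟩),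
  (38, ⟨none, [4, 3, 1, 1, 3, 4, 2, 3, 0, 2, 1, 3]⟩),
  (39, ⟨none, [4, 3, 1, 1, 3, 4, 5, 2, 3, 4, 0, 2, 1]⟩),
  (40, ⟨none, [4, 3, 1, 1, 3, 4, 5, 2, 3, 0, 2, 1]⟩),
  (41, ⟨none, [4, 3, 1, 1, 3, 4, 2, 3, 0, 2, 1]⟩),
  (42, ⟨none, [4, 3, 1, 1, 3, 4, 5, 2, 3, 4, 1, 3, 0]⟩),
  (43, ⟨none, [4, 3, 1, 1, 3, 4, 5, 2, 3, 4, 1, 0]⟩),
  (44, ⟨none, [4, 3, 1, 1, 3, 4, 5, 2, 3, 1, 0]⟩),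
  (45, ⟨none, [4, 3, 1, 1, 3, 4, 2, 3, 1, 0]⟩),
  (56, ⟨none, [4, 3, 1, 1, 3, 4, 5, 2, 3, 4, 1, 3, 2]⟩),
  (57, ⟨none, [4, 3, 1, 1, 3, 4, 5, 2, 3, 4, 1, 3]⟩),
  (58, ⟨none, [4, 3, 1, 1, 3, 4, 5, 2, 3, 4, 1]⟩),
  (59, ⟨none, [4, 3, 1, 1, 3, 4, 5, 2, 3, 1]⟩),
  (60, ⟨none, [4, 3, 1, 1, 3, 4, 2, 3, 1]⟩)]

/-- All entries of a representative. -/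
def ent1 : List (ℕ × Entry) := ent1_0

/-- Entries of a representative. -/
def ent2_0 : List (ℕ × Entry) := [
  (18, ⟨none, [0, 2, 3, 1, 0, 5, 1, 3, 4, 5, 2, 3, 0, 2, 1, 3, 4, 3, 2, 1, 3]⟩),
  (20, ⟨none, [0, 2, 3, 1, 0, 5, 1, 3, 4, 5, 2, 3, 0, 2, 1, 3, 4, 3, 2, 1]⟩),
  (24, ⟨none, [0, 2, 3, 1, 0, 0, 1, 3, 4, 5, 2, 3, 4, 0, 2, 1, 3, 1]⟩),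
  (25, ⟨none, [0, 2, 3, 1, 0, 0, 1, 3, 4, 5, 2, 3, 4, 0, 2, 3, 1]⟩),
  (27, ⟨none, [0, 2, 3, 1, 0, 5, 1, 3, 4, 5, 2, 3, 0, 2, 1, 3, 4, 3, 2]⟩),
  (32, ⟨none, [0, 2, 3, 1, 0, 0, 1, 3, 4, 5, 2, 3, 4, 0, 2, 1, 3]⟩),
  (39, ⟨none, [0, 2, 3, 1, 0, 0, 1, 3, 4, 5, 2, 3, 4, 0, 2, 1]⟩),
  (44, ⟨none, [0, 2, 3, 1, 0, 5, 1, 3, 4, 5, 2, 3, 1, 0]⟩),
  (46, ⟨none, [0, 2, 3, 1, 0, 0, 1, 3, 4, 5, 2, 3, 4, 0, 2, 3]⟩),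
  (47, ⟨none, [0, 2, 3, 1, 0, 0, 1, 3, 4, 5, 2, 3, 4, 0, 2]⟩),
  (51, ⟨none, [0, 2, 3, 1, 0, 5, 1, 3, 4, 5, 2, 3, 0]⟩),
  (53, ⟨none, [0, 2, 3, 1, 0, 5, 1, 3, 4, 5, 2, 0]⟩)]

/-- All entries of a representative. -/
def ent2 : List (ℕ × Entry) := ent2_0

/-- Entries of a representative. -/
def ent3_0 : List (ℕ × Entry) := [
  (25, ⟨some (25, 55, 65, 67, 10), [0, 2, 3, 1, 0, 0, 1, 3, 2, 0]⟩),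
  (46, ⟨some (46, 55, 65, 67, 13), [0, 2, 3, 1, 0, 0, 1, 3, 2, 0]⟩)]

/-- All entries of a representative. -/
def ent3 : List (ℕ × Entry) := ent3_0

/-- The certificate. -/
def cert : List (List ℕ × List (ℕ × Entry)) := [([], ent0), ([71], ent1), ([68, 66], ent2), ([55, 65, 67], ent3)]

end CfsgLib.InvolSL.E6
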