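import Cfsg.Agent.Lib.InvolSL.Rank

/-!
A certificate for the orbits of orthogonal roots of the twisted type E6.
-/

set_option autoImplicit false

namespace CfsgLib.InvolSL.E6T

/-- A step on a set of orthogonal roots. -/
inductive Move where
  /-- a pair of roots is replaced by two fixed roots -/
  | pair (g a b : ℕ)
  /-- four fixed roots give three -/
  | quad (a b d k p : ℕ)
  /-- a word in the reflections of the orbits of nodes -/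
  | word (w : List ℕ)

/-- The transitions from a class. -/
def trans0 : List (ℕ × List ℕ) := [
  (0, []),
  (1, [1]),
  (2, [1, 3]),
  (3, []),
  (4, [0]),
  (5, []),
  (6, [1, 3, 2]),
  (7, [0, 2]),
  (8, [1, 3, 2, 3]),
  (9, [0, 2, 3]),
  (10, [0, 2, 3, 2]),
  (11, [1, 3, 2, 3, 1]),
  (12, [0, 2, 3, 1]),
  (13, [0, 2, 3, 1, 2]),
  (14, [0, 2, 3, 1, 2, 3]),
  (15, [0, 2, 3, 1, 2, 3, 2]),
  (16, [0]),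
  (17, [0, 2]),
  (18, [1, 3, 2, 0]),
  (19, [0, 2, 3]),
  (20, [1, 3, 2, 0, 3]),
  (21, [0, 2, 3, 2, 0]),
  (22, [0, 2, 3, 2]),
  (23, [0, 2, 3, 2, 0]),
  (24, [1, 3, 2, 0, 3, 2]),
  (25, [1, 3, 2, 0, 3, 2, 3]),
  (26, [0, 2, 3, 1]),
  (27, [1, 3, 2, 0, 3, 1]),
  (28, [0, 2, 3, 1, 2, 0]),
  (29, [0, 2, 3, 1, 2, 0, 3]),
  (30, [0, 2, 3, 1, 2]),
  (31, [0, 2, 3, 1, 2, 0]),
  (32, [1, 3, 2, 0, 3, 1, 2]),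
  (33, [0, 2, 3, 1, 2, 3]),
  (34, [0, 2, 3, 1, 2, 0, 3]),
  (35, [0, 2, 3, 1, 2, 3, 2]),
  (36, [0, 2, 3, 1, 2, 3, 2, 0]),
  (37, [0, 2, 3, 1, 2, 0, 3, 2]),
  (38, [0, 2, 3, 1, 2, 0, 3, 2, 0]),
  (39, [1, 3, 2, 0, 3, 1, 2, 3]),
  (40, [0, 2, 3, 1, 2, 0, 3, 2, 3]),
  (41, [0, 2, 3, 1, 2, 0, 3, 2, 0, 3]),
  (42, [0, 2, 3, 1, 2, 0, 3, 2]),
  (43, [0, 2, 3, 1, 2, 0, 3, 2, 3]),
  (44, [1, 3, 2, 0, 3, 1, 2, 3, 2]),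
  (45, [0, 2, 3, 1, 2, 0, 3, 2, 0, 3, 2]),
  (46, [1, 3, 2, 0, 3, 2, 3, 1]),
  (47, [1, 3, 2, 0, 3, 1, 2, 3, 1]),
  (48, [0, 2, 3, 1, 2, 0, 3, 2, 3, 1]),
  (49, [0, 2, 3, 1, 2, 0, 3, 2, 0, 3, 1]),
  (50, [0, 2, 3, 1, 2, 0, 3, 2, 3, 1]),
  (51, [1, 3, 2, 0, 3, 1, 2, 3, 1, 2]),
  (52, [0, 2, 3, 1, 2, 0, 3, 2, 0, 3, 1, 2]),
  (53, [1, 3, 2, 0, 3, 1, 2, 3, 1, 2, 3]),
  (54, [0, 2, 3, 1, 2, 0, 3, 2, 0, 3, 1, 2, 3]),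
  (55, [0, 2, 3, 1, 2, 0, 3, 2, 0, 3, 1, 2, 3, 2]),
  (56, [0, 2, 3, 1, 2, 3, 2, 0]),
  (57, [0, 2, 3, 1, 2, 0, 3, 2, 0]),
  (58, [0, 2, 3, 1, 2, 0, 3, 2, 0, 3]),
  (59, [0, 2, 3, 1, 2, 0, 3, 2, 0, 3, 2]),
  (60, [1, 3, 2, 0, 3, 1, 2, 3, 2, 0]),
  (61, [0, 2, 3, 1, 2, 0, 3, 2, 0, 3, 1]),
  (62, [0, 2, 3, 1, 2, 0, 3, 2, 0, 3, 1, 2]),
  (63, [1, 3, 2, 0, 3, 1, 2, 3, 1, 2, 0]),
  (64, [0, 2, 3, 1, 2, 0, 3, 2, 0, 3, 1, 2, 3]),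
  (65, [1, 3, 2, 0, 3, 1, 2, 3, 1, 2, 0, 3]),
  (66, [0, 2, 3, 1, 2, 0, 3, 2, 0, 3, 1, 2, 3, 2, 0]),
  (67, [0, 2, 3, 1, 2, 0, 3, 2, 0, 3, 1, 2, 3, 2]),
  (68, [0, 2, 3, 1, 2, 0, 3, 2, 0, 3, 1, 2, 3, 2, 0]),
  (69, [1, 3, 2, 0, 3, 1, 2, 3, 1, 2, 0, 3, 2]),
  (70, [1, 3, 2, 0, 3, 1, 2, 3, 1, 2, 0, 3, 2, 3]),
  (71, [1, 3, 2, 0, 3, 1, 2, 3, 1, 2, 0, 3, 2, 3, 1])]

/-- The transitions from a class. -/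
def trans1 : List (ℕ × List ℕ) := [
  (11, []),
  (12, []),
  (13, [2]),
  (14, [2, 3]),
  (15, [2, 3, 2]),
  (26, []),
  (27, [0]),
  (28, [2, 0]),
  (29, [2, 0, 3]),
  (30, [2]),
  (31, [2, 0]),
  (32, [0, 2]),
  (33, [2, 3]),
  (34, [2, 0, 3]),
  (35, [2, 3, 2]),
  (36, [2, 3, 2, 0]),
  (37, [2, 0, 3, 2]),
  (38, [2, 0, 3, 2, 0]),
  (39, [0, 2, 3]),
  (40, [2, 0, 3, 2, 3]),
  (41, [2, 0, 3, 2, 0, 3]),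
  (42, [2, 0, 3, 2]),
  (43, [2, 0, 3, 2, 3]),
  (44, [0, 2, 3, 2]),
  (45, [2, 0, 3, 2, 0, 3, 2]),
  (56, [2, 3, 2, 0]),
  (57, [2, 0, 3, 2, 0]),
  (58, [2, 0, 3, 2, 0, 3]),
  (59, [2, 0, 3, 2, 0, 3, 2]),
  (60, [0, 2, 3, 2, 0])]

/-- The transitions from a class. -/
def trans2 : List (ℕ × List ℕ) := [
  (18, [1, 3, 2, 0]),
  (20, [1, 3, 2, 0, 3]),
  (24, [1, 3, 2, 0, 3, 2]),
  (25, [1, 3, 2, 0, 3, 2, 3]),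
  (27, [1, 3, 2, 0, 3, 1]),
  (32, [1, 3, 2, 0, 3, 1, 2]),
  (39, [1, 3, 2, 0, 3, 1, 2, 3]),
  (44, [1, 3, 2, 0, 3, 1, 2, 3, 2]),
  (46, [1, 3, 2, 0, 3, 2, 3, 1]),
  (47, [1, 3, 2, 0, 3, 1, 2, 3, 1]),
  (51, [1, 3, 2, 0, 3, 1, 2, 3, 1, 2]),
  (53, [1, 3, 2, 0, 3, 1, 2, 3, 1, 2, 3])]

/-- The transitions from a class. -/
def trans3 : List (ℕ × List ℕ) := [
  (27, []),
  (28, []),
  (29, [3]),
  (31, []),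
  (32, [2]),
  (34, [3]),
  (37, [3, 2]),
  (39, [2, 3]),
  (40, [3, 2, 3]),
  (42, [3, 2]),
  (43, [3, 2, 3]),
  (44, [2, 3, 2])]

/-- The transitions from a class. -/
def trans4 : List (ℕ × List ℕ) := [
  (32, [0, 2]),
  (39, [0, 2, 3])]

/-- The transitions from a class. -/
def trans5 : List (ℕ × List ℕ) := [
  (32, []),
  (39, [3])]

/-- The transitions from a class. -/
def trans6 : List (ℕ × List ℕ) := [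
]

/-- The transitions from a class. -/
def trans7 : List (ℕ × List ℕ) := [
]

/-- All transitions. -/
def trans : List (List ℕ × List (ℕ × List ℕ)) := [([], trans0), ([0], trans1), ([3, 5], trans2), ([0, 11], trans3), ([0, 12, 26], trans4), ([0, 11, 27], trans5), ([0, 11, 28, 31], trans6), ([0, 11, 27, 32], trans7)]

/-- The reduction of each nontrivial class to a representative. -/
def finals : List (List ℕ × List Move × List ℕ) := [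
  ([0], [], [0]),
  ([3, 5], [.pair 3 0 11], [0, 11]),
  ([0, 11], [], [0, 11]),
  ([0, 12, 26], [.pair 12 11 27], [0, 11, 27]),
  ([0, 11, 27], [], [0, 11, 27]),
  ([0, 11, 28, 31], [.pair 28 27 32, .quad 0 27 32 11 20, .word [1, 2, 0, 3, 2, 3, 1]], [0, 11, 27]),
  ([0, 11, 27, 32], [.quad 0 27 32 11 20, .word [1, 2, 0, 3, 2, 3, 1]], [0, 11, 27])]

end CfsgLib.InvolSL.E6T
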