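import Cfsg.Agent.Lib.InvolSL.Upper

/-!
A certificate for the classes of involutions of type E7.
-/

set_option autoImplicit false

namespace CfsgLib.InvolSL.E7

/-- Entries of a representative. -/
def ent0_0 : List (ℕ × Entry) := [
  (0, ⟨none, [0, 2, 3, 4, 5, 1, 3, 4, 2, 3, 0, 2, 1, 3, 4, 5, 6, 5, 4, 3, 2, 1, 3, 4, 5, 0, 2, 3, 4, 1, 3, 2, 0]⟩),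
  (1, ⟨none, [0, 2, 3, 4, 5, 1, 3, 4, 2, 3, 0, 2, 1, 3, 4, 5, 6, 5, 4, 3, 2, 1, 3, 4, 5, 0, 2, 3, 4, 1, 3, 2]⟩),
  (2, ⟨none, [0, 2, 3, 4, 5, 1, 3, 4, 2, 3, 0, 2, 1, 3, 4, 5, 6, 5, 4, 3, 2, 1, 3, 4, 5, 0, 2, 3, 4, 1, 3]⟩),
  (3, ⟨none, [0, 2, 3, 4, 5, 1, 3, 4, 2, 3, 0, 2, 1, 3, 4, 5, 6, 5, 4, 3, 2, 1, 3, 4, 5, 0, 2, 3, 4, 1]⟩),
  (4, ⟨none, [0, 2, 3, 4, 5, 1, 3, 4, 2, 3, 0, 2, 1, 3, 4, 5, 6, 5, 4, 3, 2, 1, 3, 4, 5, 0, 2, 3, 1]⟩),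
  (5, ⟨none, [0, 2, 3, 4, 5, 1, 3, 4, 2, 3, 0, 2, 1, 3, 4, 5, 6, 5, 4, 3, 2, 1, 3, 4, 0, 2, 3, 1]⟩),
  (6, ⟨none, [0, 2, 3, 4, 5, 6, 1, 3, 4, 2, 3, 0, 2, 1, 3, 4, 5, 4, 3, 2, 1, 3, 4, 0, 2, 3, 1]⟩),
  (7, ⟨none, [0, 2, 3, 4, 5, 1, 3, 4, 2, 3, 0, 2, 1, 3, 4, 5, 6, 5, 4, 3, 2, 1, 3, 4, 5, 0, 2, 3, 4]⟩),
  (8, ⟨none, [0, 2, 3, 4, 5, 1, 3, 4, 2, 3, 0, 2, 1, 3, 4, 5, 6, 5, 4, 3, 2, 1, 3, 4, 5, 0, 2, 3]⟩),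
  (9, ⟨none, [0, 2, 3, 4, 5, 1, 3, 4, 2, 3, 0, 2, 1, 3, 4, 5, 6, 5, 4, 3, 2, 1, 3, 4, 0, 2, 3]⟩),
  (10, ⟨none, [0, 2, 3, 4, 5, 6, 1, 3, 4, 2, 3, 0, 2, 1, 3, 4, 5, 4, 3, 2, 1, 3, 4, 0, 2, 3]⟩),
  (11, ⟨none, [0, 2, 3, 4, 5, 1, 3, 4, 2, 3, 0, 2, 1, 3, 4, 5, 6, 5, 4, 3, 2, 1, 3, 4, 5, 0, 2]⟩),
  (12, ⟨none, [0, 2, 3, 4, 5, 1, 3, 4, 2, 3, 0, 2, 1, 3, 4, 5, 6, 5, 4, 3, 2, 1, 3, 4, 0, 2]⟩),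
  (13, ⟨none, [0, 2, 3, 4, 5, 6, 1, 3, 4, 2, 3, 0, 2, 1, 3, 4, 5, 4, 3, 2, 1, 3, 4, 0, 2]⟩),
  (14, ⟨none, [0, 2, 3, 4, 5, 1, 3, 4, 2, 3, 0, 2, 1, 3, 4, 5, 6, 5, 4, 3, 2, 1, 3, 0, 2]⟩),
  (15, ⟨none, [0, 2, 3, 4, 5, 6, 1, 3, 4, 2, 3, 0, 2, 1, 3, 4, 5, 4, 3, 2, 1, 3, 0, 2]⟩),
  (16, ⟨none, [0, 2, 3, 4, 5, 6, 1, 3, 4, 5, 2, 3, 0, 2, 1, 3, 4, 3, 2, 1, 3, 0, 2]⟩),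
  (17, ⟨none, [0, 2, 3, 4, 5, 1, 3, 4, 2, 3, 0, 2, 1, 3, 4, 5, 6, 5, 4, 3, 2, 1, 3, 4, 5, 0]⟩),
  (18, ⟨none, [0, 2, 3, 4, 5, 1, 3, 4, 2, 3, 0, 2, 1, 3, 4, 5, 6, 5, 4, 3, 2, 1, 3, 4, 0]⟩),
  (19, ⟨none, [0, 2, 3, 4, 5, 6, 1, 3, 4, 2, 3, 0, 2, 1, 3, 4, 5, 4, 3, 2, 1, 3, 4, 0]⟩),
  (20, ⟨none, [0, 2, 3, 4, 5, 1, 3, 4, 2, 3, 0, 2, 1, 3, 4, 5, 6, 5, 4, 3, 2, 1, 3, 0]⟩),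
  (21, ⟨none, [0, 2, 3, 4, 5, 6, 1, 3, 4, 2, 3, 0, 2, 1, 3, 4, 5, 4, 3, 2, 1, 3, 0]⟩),
  (22, ⟨none, [0, 2, 3, 4, 5, 6, 1, 3, 4, 5, 2, 3, 0, 2, 1, 3, 4, 3, 2, 1, 3, 0]⟩),
  (23, ⟨none, [0, 2, 3, 4, 5, 1, 3, 4, 2, 3, 0, 2, 1, 3, 4, 5, 6, 5, 4, 3, 2, 1, 0]⟩),
  (24, ⟨none, [0, 2, 3, 4, 5, 6, 1, 3, 4, 2, 3, 0, 2, 1, 3, 4, 5, 4, 3, 2, 1, 0]⟩),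
  (25, ⟨none, [0, 2, 3, 4, 5, 6, 1, 3, 4, 5, 2, 3, 0, 2, 1, 3, 4, 3, 2, 1, 0]⟩),
  (26, ⟨none, [0, 2, 3, 4, 5, 6, 1, 3, 4, 5, 2, 3, 4, 0, 2, 1, 3, 2, 1, 0]⟩),
  (27, ⟨none, [0, 2, 3, 4, 5, 1, 3, 4, 2, 3, 0, 2, 1, 3, 4, 5, 6, 5, 4, 3, 2, 0]⟩),
  (28, ⟨none, [0, 2, 3, 4, 5, 6, 1, 3, 4, 2, 3, 0, 2, 1, 3, 4, 5, 4, 3, 2, 0]⟩),
  (29, ⟨none, [0, 2, 3, 4, 5, 6, 1, 3, 4, 5, 2, 3, 0, 2, 1, 3, 4, 3, 2, 0]⟩),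
  (30, ⟨none, [0, 2, 3, 4, 5, 6, 1, 3, 4, 5, 2, 3, 4, 0, 2, 1, 3, 2, 0]⟩),
  (31, ⟨none, [0, 2, 3, 4, 5, 6, 1, 3, 4, 5, 2, 3, 4, 1, 3, 0, 2, 0]⟩),
  (32, ⟨none, [0, 2, 3, 4, 5, 6, 1, 3, 4, 5, 2, 3, 4, 1, 3, 2, 0]⟩),
  (33, ⟨none, [0, 2, 3, 4, 5, 1, 3, 4, 2, 3, 0, 2, 1, 3, 4, 5, 6, 5, 4, 3, 2, 1, 3, 4, 5]⟩),
  (34, ⟨none, [0, 2, 3, 4, 5, 1, 3, 4, 2, 3, 0, 2, 1, 3, 4, 5, 6, 5, 4, 3, 2, 1, 3, 4]⟩),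
  (35, ⟨none, [0, 2, 3, 4, 5, 6, 1, 3, 4, 2, 3, 0, 2, 1, 3, 4, 5, 4, 3, 2, 1, 3, 4]⟩),
  (36, ⟨none, [0, 2, 3, 4, 5, 1, 3, 4, 2, 3, 0, 2, 1, 3, 4, 5, 6, 5, 4, 3, 2, 1, 3]⟩),
  (37, ⟨none, [0, 2, 3, 4, 5, 6, 1, 3, 4, 2, 3, 0, 2, 1, 3, 4, 5, 4, 3, 2, 1, 3]⟩),
  (38, ⟨none, [0, 2, 3, 4, 5, 6, 1, 3, 4, 5, 2, 3, 0, 2, 1, 3, 4, 3, 2, 1, 3]⟩),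
  (39, ⟨none, [0, 2, 3, 4, 5, 1, 3, 4, 2, 3, 0, 2, 1, 3, 4, 5, 6, 5, 4, 3, 2, 1]⟩)]

/-- Entries of a representative. -/
def ent0_1 : List (ℕ × Entry) := [
  (40, ⟨none, [0, 2, 3, 4, 5, 6, 1, 3, 4, 2, 3, 0, 2, 1, 3, 4, 5, 4, 3, 2, 1]⟩),
  (41, ⟨none, [0, 2, 3, 4, 5, 6, 1, 3, 4, 5, 2, 3, 0, 2, 1, 3, 4, 3, 2, 1]⟩),
  (42, ⟨none, [0, 2, 3, 4, 5, 6, 1, 3, 4, 5, 2, 3, 4, 0, 2, 1, 3, 2, 1]⟩),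
  (43, ⟨none, [0, 2, 3, 4, 5, 1, 3, 4, 2, 3, 0, 2, 1, 3, 4, 5, 6, 5, 4, 3, 1]⟩),
  (44, ⟨none, [0, 2, 3, 4, 5, 6, 1, 3, 4, 2, 3, 0, 2, 1, 3, 4, 5, 4, 3, 1]⟩),
  (45, ⟨none, [0, 2, 3, 4, 5, 6, 1, 3, 4, 5, 2, 3, 0, 2, 1, 3, 4, 3, 1]⟩),
  (46, ⟨none, [0, 2, 3, 4, 5, 6, 1, 3, 4, 5, 2, 3, 4, 0, 2, 1, 3, 1]⟩),
  (47, ⟨none, [0, 2, 3, 4, 5, 6, 1, 3, 4, 5, 2, 3, 4, 0, 2, 3, 1]⟩),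
  (48, ⟨none, [0, 2, 3, 4, 5, 1, 3, 4, 2, 3, 0, 2, 1, 3, 4, 5, 6, 5, 4, 3, 2]⟩),
  (49, ⟨none, [0, 2, 3, 4, 5, 6, 1, 3, 4, 2, 3, 0, 2, 1, 3, 4, 5, 4, 3, 2]⟩),
  (50, ⟨none, [0, 2, 3, 4, 5, 6, 1, 3, 4, 5, 2, 3, 0, 2, 1, 3, 4, 3, 2]⟩),
  (51, ⟨none, [0, 2, 3, 4, 5, 6, 1, 3, 4, 5, 2, 3, 4, 0, 2, 1, 3, 2]⟩),
  (52, ⟨none, [0, 2, 3, 4, 5, 6, 1, 3, 4, 5, 2, 3, 4, 1, 3, 0, 2]⟩),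
  (53, ⟨none, [0, 2, 3, 4, 5, 1, 3, 4, 2, 3, 0, 2, 1, 3, 4, 5, 6, 5, 4, 3]⟩),
  (54, ⟨none, [0, 2, 3, 4, 5, 6, 1, 3, 4, 2, 3, 0, 2, 1, 3, 4, 5, 4, 3]⟩),
  (55, ⟨none, [0, 2, 3, 4, 5, 6, 1, 3, 4, 5, 2, 3, 0, 2, 1, 3, 4, 3]⟩),
  (56, ⟨none, [0, 2, 3, 4, 5, 6, 1, 3, 4, 5, 2, 3, 4, 0, 2, 1, 3]⟩),
  (57, ⟨none, [0, 2, 3, 4, 5, 1, 3, 4, 2, 3, 0, 2, 1, 3, 4, 5, 6, 5, 4]⟩),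
  (58, ⟨none, [0, 2, 3, 4, 5, 6, 1, 3, 4, 2, 3, 0, 2, 1, 3, 4, 5, 4]⟩),
  (59, ⟨none, [0, 2, 3, 4, 5, 6, 1, 3, 4, 5, 2, 3, 0, 2, 1, 3, 4]⟩),
  (60, ⟨none, [0, 2, 3, 4, 5, 1, 3, 4, 2, 3, 0, 2, 1, 3, 4, 5, 6, 5]⟩),
  (61, ⟨none, [0, 2, 3, 4, 5, 6, 1, 3, 4, 2, 3, 0, 2, 1, 3, 4, 5]⟩),
  (62, ⟨none, [0, 2, 3, 4, 5, 1, 3, 4, 2, 3, 0, 2, 1, 3, 4, 5, 6]⟩),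
  (63, ⟨none, [0, 2, 3, 4, 5, 1, 3, 4, 2, 3, 0, 2, 1, 3, 4, 5]⟩),
  (64, ⟨none, [0, 2, 3, 4, 5, 6, 1, 3, 4, 2, 3, 0, 2, 1, 3, 4]⟩),
  (65, ⟨none, [0, 2, 3, 4, 5, 1, 3, 4, 2, 3, 0, 2, 1, 3, 4]⟩),
  (66, ⟨none, [0, 2, 3, 4, 5, 6, 1, 3, 4, 5, 2, 3, 0, 2, 1, 3]⟩),
  (67, ⟨none, [0, 2, 3, 4, 5, 6, 1, 3, 4, 2, 3, 0, 2, 1, 3]⟩),
  (68, ⟨none, [0, 2, 3, 4, 5, 1, 3, 4, 2, 3, 0, 2, 1, 3]⟩),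
  (69, ⟨none, [0, 2, 3, 4, 5, 6, 1, 3, 4, 5, 2, 3, 4, 0, 2, 1]⟩),
  (70, ⟨none, [0, 2, 3, 4, 5, 6, 1, 3, 4, 5, 2, 3, 0, 2, 1]⟩),
  (71, ⟨none, [0, 2, 3, 4, 5, 6, 1, 3, 4, 2, 3, 0, 2, 1]⟩),
  (72, ⟨none, [0, 2, 3, 4, 5, 1, 3, 4, 2, 3, 0, 2, 1]⟩),
  (73, ⟨none, [0, 2, 3, 4, 5, 6, 1, 3, 4, 5, 2, 3, 4, 1, 3, 0]⟩),
  (74, ⟨none, [0, 2, 3, 4, 5, 6, 1, 3, 4, 5, 2, 3, 4, 1, 0]⟩),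
  (75, ⟨none, [0, 2, 3, 4, 5, 6, 1, 3, 4, 5, 2, 3, 1, 0]⟩),
  (76, ⟨none, [0, 2, 3, 4, 5, 6, 1, 3, 4, 2, 3, 1, 0]⟩),
  (77, ⟨none, [0, 2, 3, 4, 5, 1, 3, 4, 2, 3, 1, 0]⟩),
  (78, ⟨none, [0, 2, 3, 4, 5, 6, 1, 3, 4, 5, 2, 3, 4, 0, 2, 3]⟩),
  (79, ⟨none, [0, 2, 3, 4, 5, 6, 1, 3, 4, 5, 2, 3, 4, 0, 2]⟩)]

/-- Entries of a representative. -/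
def ent0_2 : List (ℕ × Entry) := [
  (80, ⟨none, [0, 2, 3, 4, 5, 6, 1, 3, 4, 5, 2, 3, 0, 2]⟩),
  (81, ⟨none, [0, 2, 3, 4, 5, 6, 1, 3, 4, 2, 3, 0, 2]⟩),
  (82, ⟨none, [0, 2, 3, 4, 5, 1, 3, 4, 2, 3, 0, 2]⟩),
  (83, ⟨none, [0, 2, 3, 4, 5, 6, 1, 3, 4, 5, 2, 3, 4, 0]⟩),
  (84, ⟨none, [0, 2, 3, 4, 5, 6, 1, 3, 4, 5, 2, 3, 0]⟩),
  (85, ⟨none, [0, 2, 3, 4, 5, 6, 1, 3, 4, 2, 3, 0]⟩),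
  (86, ⟨none, [0, 2, 3, 4, 5, 1, 3, 4, 2, 3, 0]⟩),
  (87, ⟨none, [0, 2, 3, 4, 5, 6, 1, 3, 4, 5, 2, 0]⟩),
  (88, ⟨none, [0, 2, 3, 4, 5, 6, 1, 3, 4, 2, 0]⟩),
  (89, ⟨none, [0, 2, 3, 4, 5, 1, 3, 4, 2, 0]⟩),
  (90, ⟨none, [0, 2, 3, 4, 5, 6, 1, 3, 2, 0]⟩),
  (91, ⟨none, [0, 2, 3, 4, 5, 1, 3, 2, 0]⟩),
  (92, ⟨none, [0, 2, 3, 4, 1, 3, 2, 0]⟩),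
  (93, ⟨none, [0, 2, 3, 4, 5, 6, 1, 3, 4, 5, 2, 3, 4, 1, 3, 2]⟩),
  (94, ⟨none, [0, 2, 3, 4, 5, 6, 1, 3, 4, 5, 2, 3, 4, 1, 3]⟩),
  (95, ⟨none, [0, 2, 3, 4, 5, 6, 1, 3, 4, 5, 2, 3, 4, 1]⟩),
  (96, ⟨none, [0, 2, 3, 4, 5, 6, 1, 3, 4, 5, 2, 3, 1]⟩),
  (97, ⟨none, [0, 2, 3, 4, 5, 6, 1, 3, 4, 2, 3, 1]⟩),
  (98, ⟨none, [0, 2, 3, 4, 5, 1, 3, 4, 2, 3, 1]⟩),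
  (99, ⟨none, [0, 2, 3, 4, 5, 6, 1, 3, 4, 5, 2, 3, 4]⟩),
  (100, ⟨none, [0, 2, 3, 4, 5, 6, 1, 3, 4, 5, 2, 3]⟩),
  (101, ⟨none, [0, 2, 3, 4, 5, 6, 1, 3, 4, 2, 3]⟩),
  (102, ⟨none, [0, 2, 3, 4, 5, 1, 3, 4, 2, 3]⟩),
  (103, ⟨none, [0, 2, 3, 4, 5, 6, 1, 3, 4, 5, 2]⟩),
  (104, ⟨none, [0, 2, 3, 4, 5, 6, 1, 3, 4, 2]⟩),
  (105, ⟨none, [0, 2, 3, 4, 5, 1, 3, 4, 2]⟩),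
  (106, ⟨none, [0, 2, 3, 4, 5, 6, 1, 3, 2]⟩),
  (107, ⟨none, [0, 2, 3, 4, 5, 1, 3, 2]⟩),
  (108, ⟨none, [0, 2, 3, 4, 1, 3, 2]⟩),
  (109, ⟨none, [0, 2, 3, 4, 5, 6, 1, 3, 4, 5]⟩),
  (110, ⟨none, [0, 2, 3, 4, 5, 6, 1, 3, 4]⟩),
  (111, ⟨none, [0, 2, 3, 4, 5, 1, 3, 4]⟩),
  (112, ⟨none, [0, 2, 3, 4, 5, 6, 1, 3]⟩),
  (113, ⟨none, [0, 2, 3, 4, 5, 1, 3]⟩),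
  (114, ⟨none, [0, 2, 3, 4, 1, 3]⟩),
  (115, ⟨none, [0, 2, 3, 4, 5, 6, 1]⟩),
  (116, ⟨none, [0, 2, 3, 4, 5, 1]⟩),
  (117, ⟨none, [0, 2, 3, 4, 1]⟩),
  (118, ⟨none, [0, 2, 3, 1]⟩),
  (119, ⟨none, [0, 2, 3, 4, 5, 6]⟩)]

/-- Entries of a representative. -/
def ent0_3 : List (ℕ × Entry) := [
  (120, ⟨none, [0, 2, 3, 4, 5]⟩),
  (121, ⟨none, [0, 2, 3, 4]⟩),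
  (122, ⟨none, [0, 2, 3]⟩),
  (123, ⟨none, [0, 2]⟩),
  (124, ⟨none, [0]⟩),
  (125, ⟨none, []⟩)]

/-- All entries of a representative. -/
def ent0 : List (ℕ × Entry) := ent0_0 ++ ent0_1 ++ ent0_2 ++ ent0_3

/-- Entries of a representative. -/
def ent1_0 : List (ℕ × Entry) := [
  (33, ⟨none, [0, 2, 3, 4, 5, 1, 3, 4, 2, 3, 0, 2, 1, 3, 4, 5, 6, 5, 4, 3, 2, 1, 3, 4, 5]⟩),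
  (34, ⟨none, [0, 2, 3, 4, 5, 1, 3, 4, 2, 3, 0, 2, 1, 3, 4, 5, 6, 5, 4, 3, 2, 1, 3, 4]⟩),
  (35, ⟨none, [0, 2, 3, 4, 5, 6, 1, 3, 4, 2, 3, 0, 2, 1, 3, 4, 5, 4, 3, 2, 1, 3, 4]⟩),
  (36, ⟨none, [0, 2, 3, 4, 5, 1, 3, 4, 2, 3, 0, 2, 1, 3, 4, 5, 6, 5, 4, 3, 2, 1, 3]⟩),
  (37, ⟨none, [0, 2, 3, 4, 5, 6, 1, 3, 4, 2, 3, 0, 2, 1, 3, 4, 5, 4, 3, 2, 1, 3]⟩),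
  (38, ⟨none, [0, 2, 3, 4, 5, 6, 1, 3, 4, 5, 2, 3, 0, 2, 1, 3, 4, 3, 2, 1, 3]⟩),
  (39, ⟨none, [0, 2, 3, 4, 5, 1, 3, 4, 2, 3, 0, 2, 1, 3, 4, 5, 6, 5, 4, 3, 2, 1]⟩),
  (40, ⟨none, [0, 2, 3, 4, 5, 6, 1, 3, 4, 2, 3, 0, 2, 1, 3, 4, 5, 4, 3, 2, 1]⟩),
  (41, ⟨none, [0, 2, 3, 4, 5, 6, 1, 3, 4, 5, 2, 3, 0, 2, 1, 3, 4, 3, 2, 1]⟩),
  (42, ⟨none, [0, 2, 3, 4, 5, 6, 1, 3, 4, 5, 2, 3, 4, 0, 2, 1, 3, 2, 1]⟩),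
  (43, ⟨none, [0, 2, 3, 4, 5, 1, 3, 4, 2, 3, 0, 2, 1, 3, 4, 5, 6, 5, 4, 3, 1]⟩),
  (44, ⟨none, [0, 2, 3, 4, 5, 6, 1, 3, 4, 2, 3, 0, 2, 1, 3, 4, 5, 4, 3, 1]⟩),
  (45, ⟨none, [0, 2, 3, 4, 5, 6, 1, 3, 4, 5, 2, 3, 0, 2, 1, 3, 4, 3, 1]⟩),
  (46, ⟨none, [0, 2, 3, 4, 5, 6, 1, 3, 4, 5, 2, 3, 4, 0, 2, 1, 3, 1]⟩),
  (47, ⟨none, [0, 2, 3, 4, 5, 6, 1, 3, 4, 5, 2, 3, 4, 0, 2, 3, 1]⟩),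
  (48, ⟨none, [0, 2, 3, 4, 5, 1, 3, 4, 2, 3, 0, 2, 1, 3, 4, 5, 6, 5, 4, 3, 2]⟩),
  (49, ⟨none, [0, 2, 3, 4, 5, 6, 1, 3, 4, 2, 3, 0, 2, 1, 3, 4, 5, 4, 3, 2]⟩),
  (50, ⟨none, [0, 2, 3, 4, 5, 6, 1, 3, 4, 5, 2, 3, 0, 2, 1, 3, 4, 3, 2]⟩),
  (51, ⟨none, [0, 2, 3, 4, 5, 6, 1, 3, 4, 5, 2, 3, 4, 0, 2, 1, 3, 2]⟩),
  (52, ⟨none, [0, 2, 3, 4, 5, 6, 1, 3, 4, 5, 2, 3, 4, 1, 3, 0, 2]⟩),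
  (53, ⟨none, [0, 2, 3, 4, 5, 1, 3, 4, 2, 3, 0, 2, 1, 3, 4, 5, 6, 5, 4, 3]⟩),
  (54, ⟨none, [0, 2, 3, 4, 5, 6, 1, 3, 4, 2, 3, 0, 2, 1, 3, 4, 5, 4, 3]⟩),
  (55, ⟨none, [0, 2, 3, 4, 5, 6, 1, 3, 4, 5, 2, 3, 0, 2, 1, 3, 4, 3]⟩),
  (56, ⟨none, [0, 2, 3, 4, 5, 6, 1, 3, 4, 5, 2, 3, 4, 0, 2, 1, 3]⟩),
  (57, ⟨none, [0, 2, 3, 4, 5, 1, 3, 4, 2, 3, 0, 2, 1, 3, 4, 5, 6, 5, 4]⟩),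
  (58, ⟨none, [0, 2, 3, 4, 5, 6, 1, 3, 4, 2, 3, 0, 2, 1, 3, 4, 5, 4]⟩),
  (59, ⟨none, [0, 2, 3, 4, 5, 6, 1, 3, 4, 5, 2, 3, 0, 2, 1, 3, 4]⟩),
  (60, ⟨none, [0, 2, 3, 4, 5, 1, 3, 4, 2, 3, 0, 2, 1, 3, 4, 5, 6, 5]⟩),
  (61, ⟨none, [0, 2, 3, 4, 5, 6, 1, 3, 4, 2, 3, 0, 2, 1, 3, 4, 5]⟩),
  (62, ⟨none, [0, 2, 3, 4, 5, 1, 3, 4, 2, 3, 0, 2, 1, 3, 4, 5, 6]⟩),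
  (63, ⟨none, [0, 2, 3, 4, 5, 1, 3, 4, 2, 3, 0, 2, 1, 3, 4, 5]⟩),
  (64, ⟨none, [0, 2, 3, 4, 5, 6, 1, 3, 4, 2, 3, 0, 2, 1, 3, 4]⟩),
  (65, ⟨none, [0, 2, 3, 4, 5, 1, 3, 4, 2, 3, 0, 2, 1, 3, 4]⟩),
  (66, ⟨none, [0, 2, 3, 4, 5, 6, 1, 3, 4, 5, 2, 3, 0, 2, 1, 3]⟩),
  (67, ⟨none, [0, 2, 3, 4, 5, 6, 1, 3, 4, 2, 3, 0, 2, 1, 3]⟩),
  (68, ⟨none, [0, 2, 3, 4, 5, 1, 3, 4, 2, 3, 0, 2, 1, 3]⟩),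
  (69, ⟨none, [0, 2, 3, 4, 5, 6, 1, 3, 4, 5, 2, 3, 4, 0, 2, 1]⟩),
  (70, ⟨none, [0, 2, 3, 4, 5, 6, 1, 3, 4, 5, 2, 3, 0, 2, 1]⟩),
  (71, ⟨none, [0, 2, 3, 4, 5, 6, 1, 3, 4, 2, 3, 0, 2, 1]⟩),
  (72, ⟨none, [0, 2, 3, 4, 5, 1, 3, 4, 2, 3, 0, 2, 1]⟩)]

/-- Entries of a representative. -/
def ent1_1 : List (ℕ × Entry) := [
  (73, ⟨none, [0, 2, 3, 4, 5, 6, 1, 3, 4, 5, 2, 3, 4, 1, 3, 0]⟩),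
  (74, ⟨none, [0, 2, 3, 4, 5, 6, 1, 3, 4, 5, 2, 3, 4, 1, 0]⟩),
  (75, ⟨none, [0, 2, 3, 4, 5, 6, 1, 3, 4, 5, 2, 3, 1, 0]⟩),
  (76, ⟨none, [0, 2, 3, 4, 5, 6, 1, 3, 4, 2, 3, 1, 0]⟩),
  (77, ⟨none, [0, 2, 3, 4, 5, 1, 3, 4, 2, 3, 1, 0]⟩),
  (78, ⟨none, [0, 2, 3, 4, 5, 6, 1, 3, 4, 5, 2, 3, 4, 0, 2, 3]⟩),
  (79, ⟨none, [0, 2, 3, 4, 5, 6, 1, 3, 4, 5, 2, 3, 4, 0, 2]⟩),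
  (80, ⟨none, [0, 2, 3, 4, 5, 6, 1, 3, 4, 5, 2, 3, 0, 2]⟩),
  (81, ⟨none, [0, 2, 3, 4, 5, 6, 1, 3, 4, 2, 3, 0, 2]⟩),
  (82, ⟨none, [0, 2, 3, 4, 5, 1, 3, 4, 2, 3, 0, 2]⟩),
  (83, ⟨none, [0, 2, 3, 4, 5, 6, 1, 3, 4, 5, 2, 3, 4, 0]⟩),
  (84, ⟨none, [0, 2, 3, 4, 5, 6, 1, 3, 4, 5, 2, 3, 0]⟩),
  (85, ⟨none, [0, 2, 3, 4, 5, 6, 1, 3, 4, 2, 3, 0]⟩),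
  (86, ⟨none, [0, 2, 3, 4, 5, 1, 3, 4, 2, 3, 0]⟩),
  (87, ⟨none, [0, 2, 3, 4, 5, 6, 1, 3, 4, 5, 2, 0]⟩),
  (88, ⟨none, [0, 2, 3, 4, 5, 6, 1, 3, 4, 2, 0]⟩),
  (89, ⟨none, [0, 2, 3, 4, 5, 1, 3, 4, 2, 0]⟩),
  (90, ⟨none, [0, 2, 3, 4, 5, 6, 1, 3, 2, 0]⟩),
  (91, ⟨none, [0, 2, 3, 4, 5, 1, 3, 2, 0]⟩),
  (92, ⟨none, [0, 2, 3, 4, 1, 3, 2, 0]⟩)]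

/-- All entries of a representative. -/
def ent1 : List (ℕ × Entry) := ent1_0 ++ ent1_1

/-- Entries of a representative. -/
def ent2_0 : List (ℕ × Entry) := [
  (38, ⟨none, [0, 2, 3, 4, 5, 6, 1, 3, 4, 5, 2, 3, 0, 2, 1, 3, 4, 3, 2, 1, 3]⟩),
  (41, ⟨none, [0, 2, 3, 4, 5, 6, 1, 3, 4, 5, 2, 3, 0, 2, 1, 3, 4, 3, 2, 1]⟩),
  (42, ⟨none, [0, 2, 3, 4, 5, 6, 1, 3, 4, 5, 2, 3, 4, 0, 2, 1, 3, 2, 1]⟩),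
  (45, ⟨none, [0, 2, 3, 4, 5, 6, 1, 3, 4, 5, 2, 3, 0, 2, 1, 3, 4, 3, 1]⟩),
  (46, ⟨none, [0, 2, 3, 4, 5, 6, 1, 3, 4, 5, 2, 3, 4, 0, 2, 1, 3, 1]⟩),
  (47, ⟨none, [0, 2, 3, 4, 5, 6, 1, 3, 4, 5, 2, 3, 4, 0, 2, 3, 1]⟩),
  (50, ⟨none, [0, 2, 3, 4, 5, 6, 1, 3, 4, 5, 2, 3, 0, 2, 1, 3, 4, 3, 2]⟩),
  (51, ⟨none, [0, 2, 3, 4, 5, 6, 1, 3, 4, 5, 2, 3, 4, 0, 2, 1, 3, 2]⟩),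
  (52, ⟨none, [0, 2, 3, 4, 5, 6, 1, 3, 4, 5, 2, 3, 4, 1, 3, 0, 2]⟩),
  (55, ⟨none, [0, 2, 3, 4, 5, 6, 1, 3, 4, 5, 2, 3, 0, 2, 1, 3, 4, 3]⟩),
  (56, ⟨none, [0, 2, 3, 4, 5, 6, 1, 3, 4, 5, 2, 3, 4, 0, 2, 1, 3]⟩),
  (59, ⟨none, [0, 2, 3, 4, 5, 6, 1, 3, 4, 5, 2, 3, 0, 2, 1, 3, 4]⟩),
  (62, ⟨none, [0, 2, 3, 4, 5, 1, 3, 4, 2, 3, 0, 2, 1, 3, 4, 5, 6]⟩),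
  (63, ⟨none, [0, 2, 3, 4, 5, 1, 3, 4, 2, 3, 0, 2, 1, 3, 4, 5]⟩),
  (66, ⟨none, [0, 2, 3, 4, 5, 6, 1, 3, 4, 5, 2, 3, 0, 2, 1, 3]⟩),
  (69, ⟨none, [0, 2, 3, 4, 5, 6, 1, 3, 4, 5, 2, 3, 4, 0, 2, 1]⟩),
  (70, ⟨none, [0, 2, 3, 4, 5, 6, 1, 3, 4, 5, 2, 3, 0, 2, 1]⟩),
  (73, ⟨none, [0, 2, 3, 4, 5, 6, 1, 3, 4, 5, 2, 3, 4, 1, 3, 0]⟩),
  (74, ⟨none, [0, 2, 3, 4, 5, 6, 1, 3, 4, 5, 2, 3, 4, 1, 0]⟩),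
  (75, ⟨none, [0, 2, 3, 4, 5, 6, 1, 3, 4, 5, 2, 3, 1, 0]⟩),
  (78, ⟨none, [0, 2, 3, 4, 5, 6, 1, 3, 4, 5, 2, 3, 4, 0, 2, 3]⟩),
  (79, ⟨none, [0, 2, 3, 4, 5, 6, 1, 3, 4, 5, 2, 3, 4, 0, 2]⟩),
  (80, ⟨none, [0, 2, 3, 4, 5, 6, 1, 3, 4, 5, 2, 3, 0, 2]⟩),
  (83, ⟨none, [0, 2, 3, 4, 5, 6, 1, 3, 4, 5, 2, 3, 4, 0]⟩),
  (84, ⟨none, [0, 2, 3, 4, 5, 6, 1, 3, 4, 5, 2, 3, 0]⟩),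
  (87, ⟨none, [0, 2, 3, 4, 5, 6, 1, 3, 4, 5, 2, 0]⟩)]

/-- All entries of a representative. -/
def ent2 : List (ℕ × Entry) := ent2_0

/-- Entries of a representative. -/
def ent3_0 : List (ℕ × Entry) := [
  (47, ⟨none, [5, 6, 4, 5, 0, 2, 3, 4, 5, 6, 1, 3, 4, 5, 2, 3, 4, 0, 2, 3, 1]⟩),
  (52, ⟨some (52, 125, 92, 87, 93), []⟩),
  (59, ⟨none, [0, 2, 3, 4, 5, 6, 1, 3, 4, 5, 2, 3, 0, 2, 1, 3, 4]⟩),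
  (62, ⟨none, [0, 2, 3, 4, 5, 1, 3, 4, 2, 3, 0, 2, 1, 3, 4, 5, 6]⟩),
  (63, ⟨none, [0, 2, 3, 4, 5, 1, 3, 4, 2, 3, 0, 2, 1, 3, 4, 5]⟩),
  (66, ⟨none, [0, 2, 3, 4, 5, 6, 1, 3, 4, 5, 2, 3, 0, 2, 1, 3]⟩),
  (73, ⟨some (73, 125, 92, 87, 94), []⟩),
  (78, ⟨none, [5, 6, 4, 5, 0, 2, 3, 4, 5, 6, 1, 3, 4, 5, 2, 3, 4, 0, 2, 3]⟩)]

/-- All entries of a representative. -/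
def ent3 : List (ℕ × Entry) := ent3_0

/-- Entries of a representative. -/
def ent4_0 : List (ℕ × Entry) := [
  (38, ⟨none, [3, 2, 1, 3, 4, 3, 2, 1, 3]⟩),
  (41, ⟨none, [3, 2, 1, 3, 4, 3, 2, 1]⟩),
  (42, ⟨none, [3, 4, 2, 1, 3, 2, 1]⟩),
  (45, ⟨none, [3, 2, 1, 3, 4, 3, 1]⟩),
  (46, ⟨none, [3, 4, 2, 1, 3, 1]⟩),
  (47, ⟨none, [3, 4, 2, 3, 1]⟩),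
  (50, ⟨none, [3, 2, 1, 3, 4, 3, 2]⟩),
  (51, ⟨none, [3, 4, 2, 1, 3, 2]⟩),
  (52, ⟨none, [3, 4, 1, 3, 2]⟩),
  (55, ⟨none, [3, 2, 1, 3, 4, 3]⟩),
  (56, ⟨none, [3, 4, 2, 1, 3]⟩),
  (59, ⟨none, [3, 2, 1, 3, 4]⟩),
  (66, ⟨none, [3, 2, 1, 3]⟩),
  (69, ⟨none, [3, 4, 2, 1]⟩),
  (70, ⟨none, [3, 2, 1]⟩),
  (73, ⟨none, [3, 4, 1, 3]⟩),
  (74, ⟨none, [3, 4, 1]⟩),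
  (75, ⟨none, [3, 1]⟩),
  (78, ⟨none, [3, 4, 2, 3]⟩),
  (79, ⟨none, [3, 4, 2]⟩),
  (80, ⟨none, [3, 2]⟩),
  (83, ⟨none, [3, 4]⟩),
  (84, ⟨none, [3]⟩),
  (87, ⟨none, []⟩)]

/-- All entries of a representative. -/
def ent4 : List (ℕ × Entry) := ent4_0

/-- Entries of a representative. -/
def ent5_0 : List (ℕ × Entry) := [
  (47, ⟨some (47, 125, 63, 87, 97), [5, 4, 3, 2, 1, 3, 4, 5]⟩),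
  (52, ⟨some (52, 125, 92, 87, 93), []⟩),
  (59, ⟨some (59, 92, 63, 87, 64), [5, 4, 3, 2, 1, 3, 4, 5, 0, 2, 3, 4, 1, 3, 2, 0]⟩),
  (66, ⟨some (66, 92, 63, 87, 67), [5, 4, 3, 2, 1, 3, 4, 5, 0, 2, 3, 4, 1, 3, 2, 0]⟩),
  (73, ⟨some (73, 125, 92, 87, 94), []⟩),
  (78, ⟨some (78, 125, 63, 87, 101), [5, 4, 3, 2, 1, 3, 4, 5]⟩)]

/-- All entries of a representative. -/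
def ent5 : List (ℕ × Entry) := ent5_0

/-- The certificate. -/
def cert : List (List ℕ × List (ℕ × Entry)) := [([], ent0), ([125], ent1), ([125, 92], ent2), ([125, 92, 87], ent3), ([125, 92, 63], ent4), ([125, 92, 63, 87], ent5)]

end CfsgLib.InvolSL.E7
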