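import Cfsg.Agent.Lib.InvolSL.Upper

/-!
A certificate for the classes of involutions of type E8.
-/

set_option autoImplicit false

namespace CfsgLib.InvolSL.E8

/-- Entries of a representative. -/
def ent0_0 : List (ℕ × Entry) := [
  (0, ⟨none, [7, 6, 5, 4, 3, 2, 1, 3, 4, 5, 6, 0, 2, 3, 4, 5, 1, 3, 4, 2, 3, 0, 2, 1, 3, 4, 5, 6, 7, 6, 5, 4, 3, 2, 1, 3, 4, 5, 6, 0, 2, 3, 4, 5, 1, 3, 4, 2, 3, 0, 2, 1, 3, 4, 5, 6, 7]⟩),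
  (1, ⟨none, [7, 6, 5, 4, 3, 2, 1, 3, 4, 5, 6, 0, 2, 3, 4, 5, 1, 3, 4, 2, 3, 0, 2, 1, 3, 4, 5, 6, 7, 6, 5, 4, 3, 2, 1, 3, 4, 5, 6, 0, 2, 3, 4, 5, 1, 3, 4, 2, 3, 0, 2, 1, 3, 4, 5, 6]⟩),
  (2, ⟨none, [7, 6, 5, 4, 3, 2, 1, 3, 4, 5, 6, 0, 2, 3, 4, 5, 1, 3, 4, 2, 3, 0, 2, 1, 3, 4, 5, 6, 7, 6, 5, 4, 3, 2, 1, 3, 4, 5, 6, 0, 2, 3, 4, 5, 1, 3, 4, 2, 3, 0, 2, 1, 3, 4, 5]⟩),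
  (3, ⟨none, [7, 6, 5, 4, 3, 2, 1, 3, 4, 5, 6, 0, 2, 3, 4, 5, 1, 3, 4, 2, 3, 0, 2, 1, 3, 4, 5, 6, 7, 6, 5, 4, 3, 2, 1, 3, 4, 5, 6, 0, 2, 3, 4, 5, 1, 3, 4, 2, 3, 0, 2, 1, 3, 4]⟩),
  (4, ⟨none, [7, 6, 5, 4, 3, 2, 1, 3, 4, 5, 6, 0, 2, 3, 4, 5, 1, 3, 4, 2, 3, 0, 2, 1, 3, 4, 5, 6, 7, 6, 5, 4, 3, 2, 1, 3, 4, 5, 6, 0, 2, 3, 4, 5, 1, 3, 4, 2, 3, 0, 2, 1, 3]⟩),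
  (5, ⟨none, [7, 6, 5, 4, 3, 2, 1, 3, 4, 5, 6, 0, 2, 3, 4, 5, 1, 3, 4, 2, 3, 0, 2, 1, 3, 4, 5, 6, 7, 6, 5, 4, 3, 2, 1, 3, 4, 5, 6, 0, 2, 3, 4, 5, 1, 3, 4, 2, 3, 0, 2, 1]⟩),
  (6, ⟨none, [7, 6, 5, 4, 3, 2, 1, 3, 4, 5, 6, 0, 2, 3, 4, 5, 1, 3, 4, 2, 3, 0, 2, 1, 3, 4, 5, 6, 7, 6, 5, 4, 3, 2, 1, 3, 4, 5, 6, 0, 2, 3, 4, 5, 1, 3, 4, 2, 3, 1, 0]⟩),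
  (7, ⟨none, [7, 6, 5, 4, 3, 2, 1, 3, 4, 5, 6, 0, 2, 3, 4, 5, 1, 3, 4, 2, 3, 0, 2, 1, 3, 4, 5, 6, 7, 6, 5, 4, 3, 2, 1, 3, 4, 5, 6, 0, 2, 3, 4, 5, 1, 3, 4, 2, 3, 0, 2]⟩),
  (8, ⟨none, [7, 6, 5, 4, 3, 2, 1, 3, 4, 5, 6, 0, 2, 3, 4, 5, 1, 3, 4, 2, 3, 0, 2, 1, 3, 4, 5, 6, 7, 6, 5, 4, 3, 2, 1, 3, 4, 5, 6, 0, 2, 3, 4, 5, 1, 3, 4, 2, 3, 0]⟩),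
  (9, ⟨none, [7, 6, 5, 4, 3, 2, 1, 3, 4, 5, 6, 0, 2, 3, 4, 5, 1, 3, 4, 2, 3, 0, 2, 1, 3, 4, 5, 6, 7, 6, 5, 4, 3, 2, 1, 3, 4, 5, 6, 0, 2, 3, 4, 5, 1, 3, 4, 2, 0]⟩),
  (10, ⟨none, [7, 6, 5, 4, 3, 2, 1, 3, 4, 5, 6, 0, 2, 3, 4, 5, 1, 3, 4, 2, 3, 0, 2, 1, 3, 4, 5, 6, 7, 6, 5, 4, 3, 2, 1, 3, 4, 5, 6, 0, 2, 3, 4, 5, 1, 3, 2, 0]⟩),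
  (11, ⟨none, [7, 6, 5, 4, 3, 2, 1, 3, 4, 5, 6, 0, 2, 3, 4, 5, 1, 3, 4, 2, 3, 0, 2, 1, 3, 4, 5, 6, 7, 6, 5, 4, 3, 2, 1, 3, 4, 5, 6, 0, 2, 3, 4, 1, 3, 2, 0]⟩),
  (12, ⟨none, [7, 6, 5, 4, 3, 2, 1, 3, 4, 5, 6, 0, 2, 3, 4, 5, 1, 3, 4, 2, 3, 0, 2, 1, 3, 4, 5, 6, 7, 6, 5, 4, 3, 2, 1, 3, 4, 5, 0, 2, 3, 4, 1, 3, 2, 0]⟩),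
  (13, ⟨none, [7, 6, 5, 4, 3, 2, 1, 3, 4, 5, 6, 7, 0, 2, 3, 4, 5, 1, 3, 4, 2, 3, 0, 2, 1, 3, 4, 5, 6, 5, 4, 3, 2, 1, 3, 4, 5, 0, 2, 3, 4, 1, 3, 2, 0]⟩),
  (14, ⟨none, [7, 6, 5, 4, 3, 2, 1, 3, 4, 5, 6, 0, 2, 3, 4, 5, 1, 3, 4, 2, 3, 0, 2, 1, 3, 4, 5, 6, 7, 6, 5, 4, 3, 2, 1, 3, 4, 5, 6, 0, 2, 3, 4, 5, 1, 3, 4, 2, 3, 1]⟩),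
  (15, ⟨none, [7, 6, 5, 4, 3, 2, 1, 3, 4, 5, 6, 0, 2, 3, 4, 5, 1, 3, 4, 2, 3, 0, 2, 1, 3, 4, 5, 6, 7, 6, 5, 4, 3, 2, 1, 3, 4, 5, 6, 0, 2, 3, 4, 5, 1, 3, 4, 2, 3]⟩),
  (16, ⟨none, [7, 6, 5, 4, 3, 2, 1, 3, 4, 5, 6, 0, 2, 3, 4, 5, 1, 3, 4, 2, 3, 0, 2, 1, 3, 4, 5, 6, 7, 6, 5, 4, 3, 2, 1, 3, 4, 5, 6, 0, 2, 3, 4, 5, 1, 3, 4, 2]⟩),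
  (17, ⟨none, [7, 6, 5, 4, 3, 2, 1, 3, 4, 5, 6, 0, 2, 3, 4, 5, 1, 3, 4, 2, 3, 0, 2, 1, 3, 4, 5, 6, 7, 6, 5, 4, 3, 2, 1, 3, 4, 5, 6, 0, 2, 3, 4, 5, 1, 3, 2]⟩),
  (18, ⟨none, [7, 6, 5, 4, 3, 2, 1, 3, 4, 5, 6, 0, 2, 3, 4, 5, 1, 3, 4, 2, 3, 0, 2, 1, 3, 4, 5, 6, 7, 6, 5, 4, 3, 2, 1, 3, 4, 5, 6, 0, 2, 3, 4, 1, 3, 2]⟩),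
  (19, ⟨none, [7, 6, 5, 4, 3, 2, 1, 3, 4, 5, 6, 0, 2, 3, 4, 5, 1, 3, 4, 2, 3, 0, 2, 1, 3, 4, 5, 6, 7, 6, 5, 4, 3, 2, 1, 3, 4, 5, 0, 2, 3, 4, 1, 3, 2]⟩),
  (20, ⟨none, [7, 6, 5, 4, 3, 2, 1, 3, 4, 5, 6, 7, 0, 2, 3, 4, 5, 1, 3, 4, 2, 3, 0, 2, 1, 3, 4, 5, 6, 5, 4, 3, 2, 1, 3, 4, 5, 0, 2, 3, 4, 1, 3, 2]⟩),
  (21, ⟨none, [7, 6, 5, 4, 3, 2, 1, 3, 4, 5, 6, 0, 2, 3, 4, 5, 1, 3, 4, 2, 3, 0, 2, 1, 3, 4, 5, 6, 7, 6, 5, 4, 3, 2, 1, 3, 4, 5, 6, 0, 2, 3, 4, 5, 1, 3, 4]⟩),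
  (22, ⟨none, [7, 6, 5, 4, 3, 2, 1, 3, 4, 5, 6, 0, 2, 3, 4, 5, 1, 3, 4, 2, 3, 0, 2, 1, 3, 4, 5, 6, 7, 6, 5, 4, 3, 2, 1, 3, 4, 5, 6, 0, 2, 3, 4, 5, 1, 3]⟩),
  (23, ⟨none, [7, 6, 5, 4, 3, 2, 1, 3, 4, 5, 6, 0, 2, 3, 4, 5, 1, 3, 4, 2, 3, 0, 2, 1, 3, 4, 5, 6, 7, 6, 5, 4, 3, 2, 1, 3, 4, 5, 6, 0, 2, 3, 4, 1, 3]⟩),
  (24, ⟨none, [7, 6, 5, 4, 3, 2, 1, 3, 4, 5, 6, 0, 2, 3, 4, 5, 1, 3, 4, 2, 3, 0, 2, 1, 3, 4, 5, 6, 7, 6, 5, 4, 3, 2, 1, 3, 4, 5, 0, 2, 3, 4, 1, 3]⟩),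
  (25, ⟨none, [7, 6, 5, 4, 3, 2, 1, 3, 4, 5, 6, 7, 0, 2, 3, 4, 5, 1, 3, 4, 2, 3, 0, 2, 1, 3, 4, 5, 6, 5, 4, 3, 2, 1, 3, 4, 5, 0, 2, 3, 4, 1, 3]⟩),
  (26, ⟨none, [7, 6, 5, 4, 3, 2, 1, 3, 4, 5, 6, 0, 2, 3, 4, 5, 1, 3, 4, 2, 3, 0, 2, 1, 3, 4, 5, 6, 7, 6, 5, 4, 3, 2, 1, 3, 4, 5, 6, 0, 2, 3, 4, 5, 1]⟩),
  (27, ⟨none, [7, 6, 5, 4, 3, 2, 1, 3, 4, 5, 6, 0, 2, 3, 4, 5, 1, 3, 4, 2, 3, 0, 2, 1, 3, 4, 5, 6, 7, 6, 5, 4, 3, 2, 1, 3, 4, 5, 6, 0, 2, 3, 4, 1]⟩),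
  (28, ⟨none, [7, 6, 5, 4, 3, 2, 1, 3, 4, 5, 6, 0, 2, 3, 4, 5, 1, 3, 4, 2, 3, 0, 2, 1, 3, 4, 5, 6, 7, 6, 5, 4, 3, 2, 1, 3, 4, 5, 0, 2, 3, 4, 1]⟩),
  (29, ⟨none, [7, 6, 5, 4, 3, 2, 1, 3, 4, 5, 6, 7, 0, 2, 3, 4, 5, 1, 3, 4, 2, 3, 0, 2, 1, 3, 4, 5, 6, 5, 4, 3, 2, 1, 3, 4, 5, 0, 2, 3, 4, 1]⟩),
  (30, ⟨none, [7, 6, 5, 4, 3, 2, 1, 3, 4, 5, 6, 0, 2, 3, 4, 5, 1, 3, 4, 2, 3, 0, 2, 1, 3, 4, 5, 6, 7, 6, 5, 4, 3, 2, 1, 3, 4, 5, 6, 0, 2, 3, 1]⟩),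
  (31, ⟨none, [7, 6, 5, 4, 3, 2, 1, 3, 4, 5, 6, 0, 2, 3, 4, 5, 1, 3, 4, 2, 3, 0, 2, 1, 3, 4, 5, 6, 7, 6, 5, 4, 3, 2, 1, 3, 4, 5, 0, 2, 3, 1]⟩),
  (32, ⟨none, [7, 6, 5, 4, 3, 2, 1, 3, 4, 5, 6, 7, 0, 2, 3, 4, 5, 1, 3, 4, 2, 3, 0, 2, 1, 3, 4, 5, 6, 5, 4, 3, 2, 1, 3, 4, 5, 0, 2, 3, 1]⟩),
  (33, ⟨none, [7, 6, 5, 4, 3, 2, 1, 3, 4, 5, 6, 0, 2, 3, 4, 5, 1, 3, 4, 2, 3, 0, 2, 1, 3, 4, 5, 6, 7, 6, 5, 4, 3, 2, 1, 3, 4, 0, 2, 3, 1]⟩),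
  (34, ⟨none, [7, 6, 5, 4, 3, 2, 1, 3, 4, 5, 6, 7, 0, 2, 3, 4, 5, 1, 3, 4, 2, 3, 0, 2, 1, 3, 4, 5, 6, 5, 4, 3, 2, 1, 3, 4, 0, 2, 3, 1]⟩),
  (35, ⟨none, [7, 6, 5, 4, 3, 2, 1, 3, 4, 5, 6, 7, 0, 2, 3, 4, 5, 6, 1, 3, 4, 2, 3, 0, 2, 1, 3, 4, 5, 4, 3, 2, 1, 3, 4, 0, 2, 3, 1]⟩),
  (36, ⟨none, [7, 6, 5, 4, 3, 2, 1, 3, 4, 5, 6, 0, 2, 3, 4, 5, 1, 3, 4, 2, 3, 0, 2, 1, 3, 4, 5, 6, 7, 6, 5, 4, 3, 2, 1, 3, 4, 5, 6, 0, 2, 3, 4, 5]⟩),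
  (37, ⟨none, [7, 6, 5, 4, 3, 2, 1, 3, 4, 5, 6, 0, 2, 3, 4, 5, 1, 3, 4, 2, 3, 0, 2, 1, 3, 4, 5, 6, 7, 6, 5, 4, 3, 2, 1, 3, 4, 5, 6, 0, 2, 3, 4]⟩),
  (38, ⟨none, [7, 6, 5, 4, 3, 2, 1, 3, 4, 5, 6, 0, 2, 3, 4, 5, 1, 3, 4, 2, 3, 0, 2, 1, 3, 4, 5, 6, 7, 6, 5, 4, 3, 2, 1, 3, 4, 5, 0, 2, 3, 4]⟩),
  (39, ⟨none, [7, 6, 5, 4, 3, 2, 1, 3, 4, 5, 6, 7, 0, 2, 3, 4, 5, 1, 3, 4, 2, 3, 0, 2, 1, 3, 4, 5, 6, 5, 4, 3, 2, 1, 3, 4, 5, 0, 2, 3, 4]⟩)]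

/-- Entries of a representative. -/
def ent0_1 : List (ℕ × Entry) := [
  (40, ⟨none, [7, 6, 5, 4, 3, 2, 1, 3, 4, 5, 6, 0, 2, 3, 4, 5, 1, 3, 4, 2, 3, 0, 2, 1, 3, 4, 5, 6, 7, 6, 5, 4, 3, 2, 1, 3, 4, 5, 6, 0, 2, 3]⟩),
  (41, ⟨none, [7, 6, 5, 4, 3, 2, 1, 3, 4, 5, 6, 0, 2, 3, 4, 5, 1, 3, 4, 2, 3, 0, 2, 1, 3, 4, 5, 6, 7, 6, 5, 4, 3, 2, 1, 3, 4, 5, 0, 2, 3]⟩),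
  (42, ⟨none, [7, 6, 5, 4, 3, 2, 1, 3, 4, 5, 6, 7, 0, 2, 3, 4, 5, 1, 3, 4, 2, 3, 0, 2, 1, 3, 4, 5, 6, 5, 4, 3, 2, 1, 3, 4, 5, 0, 2, 3]⟩),
  (43, ⟨none, [7, 6, 5, 4, 3, 2, 1, 3, 4, 5, 6, 0, 2, 3, 4, 5, 1, 3, 4, 2, 3, 0, 2, 1, 3, 4, 5, 6, 7, 6, 5, 4, 3, 2, 1, 3, 4, 0, 2, 3]⟩),
  (44, ⟨none, [7, 6, 5, 4, 3, 2, 1, 3, 4, 5, 6, 7, 0, 2, 3, 4, 5, 1, 3, 4, 2, 3, 0, 2, 1, 3, 4, 5, 6, 5, 4, 3, 2, 1, 3, 4, 0, 2, 3]⟩),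
  (45, ⟨none, [7, 6, 5, 4, 3, 2, 1, 3, 4, 5, 6, 7, 0, 2, 3, 4, 5, 6, 1, 3, 4, 2, 3, 0, 2, 1, 3, 4, 5, 4, 3, 2, 1, 3, 4, 0, 2, 3]⟩),
  (46, ⟨none, [7, 6, 5, 4, 3, 2, 1, 3, 4, 5, 6, 0, 2, 3, 4, 5, 1, 3, 4, 2, 3, 0, 2, 1, 3, 4, 5, 6, 7, 6, 5, 4, 3, 2, 1, 3, 4, 5, 6, 0, 2]⟩),
  (47, ⟨none, [7, 6, 5, 4, 3, 2, 1, 3, 4, 5, 6, 0, 2, 3, 4, 5, 1, 3, 4, 2, 3, 0, 2, 1, 3, 4, 5, 6, 7, 6, 5, 4, 3, 2, 1, 3, 4, 5, 0, 2]⟩),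
  (48, ⟨none, [7, 6, 5, 4, 3, 2, 1, 3, 4, 5, 6, 7, 0, 2, 3, 4, 5, 1, 3, 4, 2, 3, 0, 2, 1, 3, 4, 5, 6, 5, 4, 3, 2, 1, 3, 4, 5, 0, 2]⟩),
  (49, ⟨none, [7, 6, 5, 4, 3, 2, 1, 3, 4, 5, 6, 0, 2, 3, 4, 5, 1, 3, 4, 2, 3, 0, 2, 1, 3, 4, 5, 6, 7, 6, 5, 4, 3, 2, 1, 3, 4, 0, 2]⟩),
  (50, ⟨none, [7, 6, 5, 4, 3, 2, 1, 3, 4, 5, 6, 7, 0, 2, 3, 4, 5, 1, 3, 4, 2, 3, 0, 2, 1, 3, 4, 5, 6, 5, 4, 3, 2, 1, 3, 4, 0, 2]⟩),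
  (51, ⟨none, [7, 6, 5, 4, 3, 2, 1, 3, 4, 5, 6, 7, 0, 2, 3, 4, 5, 6, 1, 3, 4, 2, 3, 0, 2, 1, 3, 4, 5, 4, 3, 2, 1, 3, 4, 0, 2]⟩),
  (52, ⟨none, [7, 6, 5, 4, 3, 2, 1, 3, 4, 5, 6, 0, 2, 3, 4, 5, 1, 3, 4, 2, 3, 0, 2, 1, 3, 4, 5, 6, 7, 6, 5, 4, 3, 2, 1, 3, 0, 2]⟩),
  (53, ⟨none, [7, 6, 5, 4, 3, 2, 1, 3, 4, 5, 6, 7, 0, 2, 3, 4, 5, 1, 3, 4, 2, 3, 0, 2, 1, 3, 4, 5, 6, 5, 4, 3, 2, 1, 3, 0, 2]⟩),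
  (54, ⟨none, [7, 6, 5, 4, 3, 2, 1, 3, 4, 5, 6, 7, 0, 2, 3, 4, 5, 6, 1, 3, 4, 2, 3, 0, 2, 1, 3, 4, 5, 4, 3, 2, 1, 3, 0, 2]⟩),
  (55, ⟨none, [7, 6, 5, 4, 3, 2, 1, 3, 4, 5, 6, 7, 0, 2, 3, 4, 5, 6, 1, 3, 4, 5, 2, 3, 0, 2, 1, 3, 4, 3, 2, 1, 3, 0, 2]⟩),
  (56, ⟨none, [7, 6, 5, 4, 3, 2, 1, 3, 4, 5, 6, 0, 2, 3, 4, 5, 1, 3, 4, 2, 3, 0, 2, 1, 3, 4, 5, 6, 7, 6, 5, 4, 3, 2, 1, 3, 4, 5, 6, 0]⟩),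
  (57, ⟨none, [7, 6, 5, 4, 3, 2, 1, 3, 4, 5, 6, 0, 2, 3, 4, 5, 1, 3, 4, 2, 3, 0, 2, 1, 3, 4, 5, 6, 7, 6, 5, 4, 3, 2, 1, 3, 4, 5, 0]⟩),
  (58, ⟨none, [7, 6, 5, 4, 3, 2, 1, 3, 4, 5, 6, 7, 0, 2, 3, 4, 5, 1, 3, 4, 2, 3, 0, 2, 1, 3, 4, 5, 6, 5, 4, 3, 2, 1, 3, 4, 5, 0]⟩),
  (59, ⟨none, [7, 6, 5, 4, 3, 2, 1, 3, 4, 5, 6, 0, 2, 3, 4, 5, 1, 3, 4, 2, 3, 0, 2, 1, 3, 4, 5, 6, 7, 6, 5, 4, 3, 2, 1, 3, 4, 0]⟩),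
  (60, ⟨none, [7, 6, 5, 4, 3, 2, 1, 3, 4, 5, 6, 7, 0, 2, 3, 4, 5, 1, 3, 4, 2, 3, 0, 2, 1, 3, 4, 5, 6, 5, 4, 3, 2, 1, 3, 4, 0]⟩),
  (61, ⟨none, [7, 6, 5, 4, 3, 2, 1, 3, 4, 5, 6, 7, 0, 2, 3, 4, 5, 6, 1, 3, 4, 2, 3, 0, 2, 1, 3, 4, 5, 4, 3, 2, 1, 3, 4, 0]⟩),
  (62, ⟨none, [7, 6, 5, 4, 3, 2, 1, 3, 4, 5, 6, 0, 2, 3, 4, 5, 1, 3, 4, 2, 3, 0, 2, 1, 3, 4, 5, 6, 7, 6, 5, 4, 3, 2, 1, 3, 0]⟩),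
  (63, ⟨none, [7, 6, 5, 4, 3, 2, 1, 3, 4, 5, 6, 7, 0, 2, 3, 4, 5, 1, 3, 4, 2, 3, 0, 2, 1, 3, 4, 5, 6, 5, 4, 3, 2, 1, 3, 0]⟩),
  (64, ⟨none, [7, 6, 5, 4, 3, 2, 1, 3, 4, 5, 6, 7, 0, 2, 3, 4, 5, 6, 1, 3, 4, 2, 3, 0, 2, 1, 3, 4, 5, 4, 3, 2, 1, 3, 0]⟩),
  (65, ⟨none, [7, 6, 5, 4, 3, 2, 1, 3, 4, 5, 6, 7, 0, 2, 3, 4, 5, 6, 1, 3, 4, 5, 2, 3, 0, 2, 1, 3, 4, 3, 2, 1, 3, 0]⟩),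
  (66, ⟨none, [7, 6, 5, 4, 3, 2, 1, 3, 4, 5, 6, 0, 2, 3, 4, 5, 1, 3, 4, 2, 3, 0, 2, 1, 3, 4, 5, 6, 7, 6, 5, 4, 3, 2, 1, 0]⟩),
  (67, ⟨none, [7, 6, 5, 4, 3, 2, 1, 3, 4, 5, 6, 7, 0, 2, 3, 4, 5, 1, 3, 4, 2, 3, 0, 2, 1, 3, 4, 5, 6, 5, 4, 3, 2, 1, 0]⟩),
  (68, ⟨none, [7, 6, 5, 4, 3, 2, 1, 3, 4, 5, 6, 7, 0, 2, 3, 4, 5, 6, 1, 3, 4, 2, 3, 0, 2, 1, 3, 4, 5, 4, 3, 2, 1, 0]⟩),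
  (69, ⟨none, [7, 6, 5, 4, 3, 2, 1, 3, 4, 5, 6, 7, 0, 2, 3, 4, 5, 6, 1, 3, 4, 5, 2, 3, 0, 2, 1, 3, 4, 3, 2, 1, 0]⟩),
  (70, ⟨none, [7, 6, 5, 4, 3, 2, 1, 3, 4, 5, 6, 7, 0, 2, 3, 4, 5, 6, 1, 3, 4, 5, 2, 3, 4, 0, 2, 1, 3, 2, 1, 0]⟩),
  (71, ⟨none, [7, 6, 5, 4, 3, 2, 1, 3, 4, 5, 6, 0, 2, 3, 4, 5, 1, 3, 4, 2, 3, 0, 2, 1, 3, 4, 5, 6, 7, 6, 5, 4, 3, 2, 0]⟩),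
  (72, ⟨none, [7, 6, 5, 4, 3, 2, 1, 3, 4, 5, 6, 7, 0, 2, 3, 4, 5, 1, 3, 4, 2, 3, 0, 2, 1, 3, 4, 5, 6, 5, 4, 3, 2, 0]⟩),
  (73, ⟨none, [7, 6, 5, 4, 3, 2, 1, 3, 4, 5, 6, 7, 0, 2, 3, 4, 5, 6, 1, 3, 4, 2, 3, 0, 2, 1, 3, 4, 5, 4, 3, 2, 0]⟩),
  (74, ⟨none, [7, 6, 5, 4, 3, 2, 1, 3, 4, 5, 6, 7, 0, 2, 3, 4, 5, 6, 1, 3, 4, 5, 2, 3, 0, 2, 1, 3, 4, 3, 2, 0]⟩),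
  (75, ⟨none, [7, 6, 5, 4, 3, 2, 1, 3, 4, 5, 6, 7, 0, 2, 3, 4, 5, 6, 1, 3, 4, 5, 2, 3, 4, 0, 2, 1, 3, 2, 0]⟩),
  (76, ⟨none, [7, 6, 5, 4, 3, 2, 1, 3, 4, 5, 6, 7, 0, 2, 3, 4, 5, 6, 1, 3, 4, 5, 2, 3, 4, 1, 3, 0, 2, 0]⟩),
  (77, ⟨none, [7, 6, 5, 4, 3, 2, 1, 3, 4, 5, 6, 7, 0, 2, 3, 4, 5, 6, 1, 3, 4, 5, 2, 3, 4, 1, 3, 2, 0]⟩),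
  (78, ⟨none, [7, 6, 5, 4, 3, 2, 1, 3, 4, 5, 6, 0, 2, 3, 4, 5, 1, 3, 4, 2, 3, 0, 2, 1, 3, 4, 5, 6, 7, 6, 5, 4, 3, 2, 1, 3, 4, 5, 6]⟩),
  (79, ⟨none, [7, 6, 5, 4, 3, 2, 1, 3, 4, 5, 6, 0, 2, 3, 4, 5, 1, 3, 4, 2, 3, 0, 2, 1, 3, 4, 5, 6, 7, 6, 5, 4, 3, 2, 1, 3, 4, 5]⟩)]

/-- Entries of a representative. -/
def ent0_2 : List (ℕ × Entry) := [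
  (80, ⟨none, [7, 6, 5, 4, 3, 2, 1, 3, 4, 5, 6, 7, 0, 2, 3, 4, 5, 1, 3, 4, 2, 3, 0, 2, 1, 3, 4, 5, 6, 5, 4, 3, 2, 1, 3, 4, 5]⟩),
  (81, ⟨none, [7, 6, 5, 4, 3, 2, 1, 3, 4, 5, 6, 0, 2, 3, 4, 5, 1, 3, 4, 2, 3, 0, 2, 1, 3, 4, 5, 6, 7, 6, 5, 4, 3, 2, 1, 3, 4]⟩),
  (82, ⟨none, [7, 6, 5, 4, 3, 2, 1, 3, 4, 5, 6, 7, 0, 2, 3, 4, 5, 1, 3, 4, 2, 3, 0, 2, 1, 3, 4, 5, 6, 5, 4, 3, 2, 1, 3, 4]⟩),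
  (83, ⟨none, [7, 6, 5, 4, 3, 2, 1, 3, 4, 5, 6, 7, 0, 2, 3, 4, 5, 6, 1, 3, 4, 2, 3, 0, 2, 1, 3, 4, 5, 4, 3, 2, 1, 3, 4]⟩),
  (84, ⟨none, [7, 6, 5, 4, 3, 2, 1, 3, 4, 5, 6, 0, 2, 3, 4, 5, 1, 3, 4, 2, 3, 0, 2, 1, 3, 4, 5, 6, 7, 6, 5, 4, 3, 2, 1, 3]⟩),
  (85, ⟨none, [7, 6, 5, 4, 3, 2, 1, 3, 4, 5, 6, 7, 0, 2, 3, 4, 5, 1, 3, 4, 2, 3, 0, 2, 1, 3, 4, 5, 6, 5, 4, 3, 2, 1, 3]⟩),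
  (86, ⟨none, [7, 6, 5, 4, 3, 2, 1, 3, 4, 5, 6, 7, 0, 2, 3, 4, 5, 6, 1, 3, 4, 2, 3, 0, 2, 1, 3, 4, 5, 4, 3, 2, 1, 3]⟩),
  (87, ⟨none, [7, 6, 5, 4, 3, 2, 1, 3, 4, 5, 6, 7, 0, 2, 3, 4, 5, 6, 1, 3, 4, 5, 2, 3, 0, 2, 1, 3, 4, 3, 2, 1, 3]⟩),
  (88, ⟨none, [7, 6, 5, 4, 3, 2, 1, 3, 4, 5, 6, 0, 2, 3, 4, 5, 1, 3, 4, 2, 3, 0, 2, 1, 3, 4, 5, 6, 7, 6, 5, 4, 3, 2, 1]⟩),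
  (89, ⟨none, [7, 6, 5, 4, 3, 2, 1, 3, 4, 5, 6, 7, 0, 2, 3, 4, 5, 1, 3, 4, 2, 3, 0, 2, 1, 3, 4, 5, 6, 5, 4, 3, 2, 1]⟩),
  (90, ⟨none, [7, 6, 5, 4, 3, 2, 1, 3, 4, 5, 6, 7, 0, 2, 3, 4, 5, 6, 1, 3, 4, 2, 3, 0, 2, 1, 3, 4, 5, 4, 3, 2, 1]⟩),
  (91, ⟨none, [7, 6, 5, 4, 3, 2, 1, 3, 4, 5, 6, 7, 0, 2, 3, 4, 5, 6, 1, 3, 4, 5, 2, 3, 0, 2, 1, 3, 4, 3, 2, 1]⟩),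
  (92, ⟨none, [7, 6, 5, 4, 3, 2, 1, 3, 4, 5, 6, 7, 0, 2, 3, 4, 5, 6, 1, 3, 4, 5, 2, 3, 4, 0, 2, 1, 3, 2, 1]⟩),
  (93, ⟨none, [7, 6, 5, 4, 3, 2, 1, 3, 4, 5, 6, 0, 2, 3, 4, 5, 1, 3, 4, 2, 3, 0, 2, 1, 3, 4, 5, 6, 7, 6, 5, 4, 3, 1]⟩),
  (94, ⟨none, [7, 6, 5, 4, 3, 2, 1, 3, 4, 5, 6, 7, 0, 2, 3, 4, 5, 1, 3, 4, 2, 3, 0, 2, 1, 3, 4, 5, 6, 5, 4, 3, 1]⟩),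
  (95, ⟨none, [7, 6, 5, 4, 3, 2, 1, 3, 4, 5, 6, 7, 0, 2, 3, 4, 5, 6, 1, 3, 4, 2, 3, 0, 2, 1, 3, 4, 5, 4, 3, 1]⟩),
  (96, ⟨none, [7, 6, 5, 4, 3, 2, 1, 3, 4, 5, 6, 7, 0, 2, 3, 4, 5, 6, 1, 3, 4, 5, 2, 3, 0, 2, 1, 3, 4, 3, 1]⟩),
  (97, ⟨none, [7, 6, 5, 4, 3, 2, 1, 3, 4, 5, 6, 7, 0, 2, 3, 4, 5, 6, 1, 3, 4, 5, 2, 3, 4, 0, 2, 1, 3, 1]⟩),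
  (98, ⟨none, [7, 6, 5, 4, 3, 2, 1, 3, 4, 5, 6, 7, 0, 2, 3, 4, 5, 6, 1, 3, 4, 5, 2, 3, 4, 0, 2, 3, 1]⟩),
  (99, ⟨none, [7, 6, 5, 4, 3, 2, 1, 3, 4, 5, 6, 0, 2, 3, 4, 5, 1, 3, 4, 2, 3, 0, 2, 1, 3, 4, 5, 6, 7, 6, 5, 4, 3, 2]⟩),
  (100, ⟨none, [7, 6, 5, 4, 3, 2, 1, 3, 4, 5, 6, 7, 0, 2, 3, 4, 5, 1, 3, 4, 2, 3, 0, 2, 1, 3, 4, 5, 6, 5, 4, 3, 2]⟩),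
  (101, ⟨none, [7, 6, 5, 4, 3, 2, 1, 3, 4, 5, 6, 7, 0, 2, 3, 4, 5, 6, 1, 3, 4, 2, 3, 0, 2, 1, 3, 4, 5, 4, 3, 2]⟩),
  (102, ⟨none, [7, 6, 5, 4, 3, 2, 1, 3, 4, 5, 6, 7, 0, 2, 3, 4, 5, 6, 1, 3, 4, 5, 2, 3, 0, 2, 1, 3, 4, 3, 2]⟩),
  (103, ⟨none, [7, 6, 5, 4, 3, 2, 1, 3, 4, 5, 6, 7, 0, 2, 3, 4, 5, 6, 1, 3, 4, 5, 2, 3, 4, 0, 2, 1, 3, 2]⟩),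
  (104, ⟨none, [7, 6, 5, 4, 3, 2, 1, 3, 4, 5, 6, 7, 0, 2, 3, 4, 5, 6, 1, 3, 4, 5, 2, 3, 4, 1, 3, 0, 2]⟩),
  (105, ⟨none, [7, 6, 5, 4, 3, 2, 1, 3, 4, 5, 6, 0, 2, 3, 4, 5, 1, 3, 4, 2, 3, 0, 2, 1, 3, 4, 5, 6, 7, 6, 5, 4, 3]⟩),
  (106, ⟨none, [7, 6, 5, 4, 3, 2, 1, 3, 4, 5, 6, 7, 0, 2, 3, 4, 5, 1, 3, 4, 2, 3, 0, 2, 1, 3, 4, 5, 6, 5, 4, 3]⟩),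
  (107, ⟨none, [7, 6, 5, 4, 3, 2, 1, 3, 4, 5, 6, 7, 0, 2, 3, 4, 5, 6, 1, 3, 4, 2, 3, 0, 2, 1, 3, 4, 5, 4, 3]⟩),
  (108, ⟨none, [7, 6, 5, 4, 3, 2, 1, 3, 4, 5, 6, 7, 0, 2, 3, 4, 5, 6, 1, 3, 4, 5, 2, 3, 0, 2, 1, 3, 4, 3]⟩),
  (109, ⟨none, [7, 6, 5, 4, 3, 2, 1, 3, 4, 5, 6, 7, 0, 2, 3, 4, 5, 6, 1, 3, 4, 5, 2, 3, 4, 0, 2, 1, 3]⟩),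
  (110, ⟨none, [7, 6, 5, 4, 3, 2, 1, 3, 4, 5, 6, 0, 2, 3, 4, 5, 1, 3, 4, 2, 3, 0, 2, 1, 3, 4, 5, 6, 7, 6, 5, 4]⟩),
  (111, ⟨none, [7, 6, 5, 4, 3, 2, 1, 3, 4, 5, 6, 7, 0, 2, 3, 4, 5, 1, 3, 4, 2, 3, 0, 2, 1, 3, 4, 5, 6, 5, 4]⟩),
  (112, ⟨none, [7, 6, 5, 4, 3, 2, 1, 3, 4, 5, 6, 7, 0, 2, 3, 4, 5, 6, 1, 3, 4, 2, 3, 0, 2, 1, 3, 4, 5, 4]⟩),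
  (113, ⟨none, [7, 6, 5, 4, 3, 2, 1, 3, 4, 5, 6, 7, 0, 2, 3, 4, 5, 6, 1, 3, 4, 5, 2, 3, 0, 2, 1, 3, 4]⟩),
  (114, ⟨none, [7, 6, 5, 4, 3, 2, 1, 3, 4, 5, 6, 0, 2, 3, 4, 5, 1, 3, 4, 2, 3, 0, 2, 1, 3, 4, 5, 6, 7, 6, 5]⟩),
  (115, ⟨none, [7, 6, 5, 4, 3, 2, 1, 3, 4, 5, 6, 7, 0, 2, 3, 4, 5, 1, 3, 4, 2, 3, 0, 2, 1, 3, 4, 5, 6, 5]⟩),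
  (116, ⟨none, [7, 6, 5, 4, 3, 2, 1, 3, 4, 5, 6, 7, 0, 2, 3, 4, 5, 6, 1, 3, 4, 2, 3, 0, 2, 1, 3, 4, 5]⟩),
  (117, ⟨none, [7, 6, 5, 4, 3, 2, 1, 3, 4, 5, 6, 0, 2, 3, 4, 5, 1, 3, 4, 2, 3, 0, 2, 1, 3, 4, 5, 6, 7, 6]⟩),
  (118, ⟨none, [7, 6, 5, 4, 3, 2, 1, 3, 4, 5, 6, 7, 0, 2, 3, 4, 5, 1, 3, 4, 2, 3, 0, 2, 1, 3, 4, 5, 6]⟩),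
  (119, ⟨none, [7, 6, 5, 4, 3, 2, 1, 3, 4, 5, 6, 0, 2, 3, 4, 5, 1, 3, 4, 2, 3, 0, 2, 1, 3, 4, 5, 6, 7]⟩)]

/-- Entries of a representative. -/
def ent0_3 : List (ℕ × Entry) := [
  (120, ⟨none, [7, 6, 5, 4, 3, 2, 1, 3, 4, 5, 6, 0, 2, 3, 4, 5, 1, 3, 4, 2, 3, 0, 2, 1, 3, 4, 5, 6]⟩),
  (121, ⟨none, [7, 6, 5, 4, 3, 2, 1, 3, 4, 5, 6, 7, 0, 2, 3, 4, 5, 1, 3, 4, 2, 3, 0, 2, 1, 3, 4, 5]⟩),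
  (122, ⟨none, [7, 6, 5, 4, 3, 2, 1, 3, 4, 5, 6, 0, 2, 3, 4, 5, 1, 3, 4, 2, 3, 0, 2, 1, 3, 4, 5]⟩),
  (123, ⟨none, [7, 6, 5, 4, 3, 2, 1, 3, 4, 5, 6, 7, 0, 2, 3, 4, 5, 6, 1, 3, 4, 2, 3, 0, 2, 1, 3, 4]⟩),
  (124, ⟨none, [7, 6, 5, 4, 3, 2, 1, 3, 4, 5, 6, 7, 0, 2, 3, 4, 5, 1, 3, 4, 2, 3, 0, 2, 1, 3, 4]⟩),
  (125, ⟨none, [7, 6, 5, 4, 3, 2, 1, 3, 4, 5, 6, 0, 2, 3, 4, 5, 1, 3, 4, 2, 3, 0, 2, 1, 3, 4]⟩),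
  (126, ⟨none, [7, 6, 5, 4, 3, 2, 1, 3, 4, 5, 6, 7, 0, 2, 3, 4, 5, 6, 1, 3, 4, 5, 2, 3, 0, 2, 1, 3]⟩),
  (127, ⟨none, [7, 6, 5, 4, 3, 2, 1, 3, 4, 5, 6, 7, 0, 2, 3, 4, 5, 6, 1, 3, 4, 2, 3, 0, 2, 1, 3]⟩),
  (128, ⟨none, [7, 6, 5, 4, 3, 2, 1, 3, 4, 5, 6, 7, 0, 2, 3, 4, 5, 1, 3, 4, 2, 3, 0, 2, 1, 3]⟩),
  (129, ⟨none, [7, 6, 5, 4, 3, 2, 1, 3, 4, 5, 6, 0, 2, 3, 4, 5, 1, 3, 4, 2, 3, 0, 2, 1, 3]⟩),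
  (130, ⟨none, [7, 6, 5, 4, 3, 2, 1, 3, 4, 5, 6, 7, 0, 2, 3, 4, 5, 6, 1, 3, 4, 5, 2, 3, 4, 0, 2, 1]⟩),
  (131, ⟨none, [7, 6, 5, 4, 3, 2, 1, 3, 4, 5, 6, 7, 0, 2, 3, 4, 5, 6, 1, 3, 4, 5, 2, 3, 0, 2, 1]⟩),
  (132, ⟨none, [7, 6, 5, 4, 3, 2, 1, 3, 4, 5, 6, 7, 0, 2, 3, 4, 5, 6, 1, 3, 4, 2, 3, 0, 2, 1]⟩),
  (133, ⟨none, [7, 6, 5, 4, 3, 2, 1, 3, 4, 5, 6, 7, 0, 2, 3, 4, 5, 1, 3, 4, 2, 3, 0, 2, 1]⟩),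
  (134, ⟨none, [7, 6, 5, 4, 3, 2, 1, 3, 4, 5, 6, 0, 2, 3, 4, 5, 1, 3, 4, 2, 3, 0, 2, 1]⟩),
  (135, ⟨none, [7, 6, 5, 4, 3, 2, 1, 3, 4, 5, 6, 7, 0, 2, 3, 4, 5, 6, 1, 3, 4, 5, 2, 3, 4, 1, 3, 0]⟩),
  (136, ⟨none, [7, 6, 5, 4, 3, 2, 1, 3, 4, 5, 6, 7, 0, 2, 3, 4, 5, 6, 1, 3, 4, 5, 2, 3, 4, 1, 0]⟩),
  (137, ⟨none, [7, 6, 5, 4, 3, 2, 1, 3, 4, 5, 6, 7, 0, 2, 3, 4, 5, 6, 1, 3, 4, 5, 2, 3, 1, 0]⟩),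
  (138, ⟨none, [7, 6, 5, 4, 3, 2, 1, 3, 4, 5, 6, 7, 0, 2, 3, 4, 5, 6, 1, 3, 4, 2, 3, 1, 0]⟩),
  (139, ⟨none, [7, 6, 5, 4, 3, 2, 1, 3, 4, 5, 6, 7, 0, 2, 3, 4, 5, 1, 3, 4, 2, 3, 1, 0]⟩),
  (140, ⟨none, [7, 6, 5, 4, 3, 2, 1, 3, 4, 5, 6, 0, 2, 3, 4, 5, 1, 3, 4, 2, 3, 1, 0]⟩),
  (141, ⟨none, [7, 6, 5, 4, 3, 2, 1, 3, 4, 5, 6, 7, 0, 2, 3, 4, 5, 6, 1, 3, 4, 5, 2, 3, 4, 0, 2, 3]⟩),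
  (142, ⟨none, [7, 6, 5, 4, 3, 2, 1, 3, 4, 5, 6, 7, 0, 2, 3, 4, 5, 6, 1, 3, 4, 5, 2, 3, 4, 0, 2]⟩),
  (143, ⟨none, [7, 6, 5, 4, 3, 2, 1, 3, 4, 5, 6, 7, 0, 2, 3, 4, 5, 6, 1, 3, 4, 5, 2, 3, 0, 2]⟩),
  (144, ⟨none, [7, 6, 5, 4, 3, 2, 1, 3, 4, 5, 6, 7, 0, 2, 3, 4, 5, 6, 1, 3, 4, 2, 3, 0, 2]⟩),
  (145, ⟨none, [7, 6, 5, 4, 3, 2, 1, 3, 4, 5, 6, 7, 0, 2, 3, 4, 5, 1, 3, 4, 2, 3, 0, 2]⟩),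
  (146, ⟨none, [7, 6, 5, 4, 3, 2, 1, 3, 4, 5, 6, 0, 2, 3, 4, 5, 1, 3, 4, 2, 3, 0, 2]⟩),
  (147, ⟨none, [7, 6, 5, 4, 3, 2, 1, 3, 4, 5, 6, 7, 0, 2, 3, 4, 5, 6, 1, 3, 4, 5, 2, 3, 4, 0]⟩),
  (148, ⟨none, [7, 6, 5, 4, 3, 2, 1, 3, 4, 5, 6, 7, 0, 2, 3, 4, 5, 6, 1, 3, 4, 5, 2, 3, 0]⟩),
  (149, ⟨none, [7, 6, 5, 4, 3, 2, 1, 3, 4, 5, 6, 7, 0, 2, 3, 4, 5, 6, 1, 3, 4, 2, 3, 0]⟩),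
  (150, ⟨none, [7, 6, 5, 4, 3, 2, 1, 3, 4, 5, 6, 7, 0, 2, 3, 4, 5, 1, 3, 4, 2, 3, 0]⟩),
  (151, ⟨none, [7, 6, 5, 4, 3, 2, 1, 3, 4, 5, 6, 0, 2, 3, 4, 5, 1, 3, 4, 2, 3, 0]⟩),
  (152, ⟨none, [7, 6, 5, 4, 3, 2, 1, 3, 4, 5, 6, 7, 0, 2, 3, 4, 5, 6, 1, 3, 4, 5, 2, 0]⟩),
  (153, ⟨none, [7, 6, 5, 4, 3, 2, 1, 3, 4, 5, 6, 7, 0, 2, 3, 4, 5, 6, 1, 3, 4, 2, 0]⟩),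
  (154, ⟨none, [7, 6, 5, 4, 3, 2, 1, 3, 4, 5, 6, 7, 0, 2, 3, 4, 5, 1, 3, 4, 2, 0]⟩),
  (155, ⟨none, [7, 6, 5, 4, 3, 2, 1, 3, 4, 5, 6, 0, 2, 3, 4, 5, 1, 3, 4, 2, 0]⟩),
  (156, ⟨none, [7, 6, 5, 4, 3, 2, 1, 3, 4, 5, 6, 7, 0, 2, 3, 4, 5, 6, 1, 3, 2, 0]⟩),
  (157, ⟨none, [7, 6, 5, 4, 3, 2, 1, 3, 4, 5, 6, 7, 0, 2, 3, 4, 5, 1, 3, 2, 0]⟩),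
  (158, ⟨none, [7, 6, 5, 4, 3, 2, 1, 3, 4, 5, 6, 0, 2, 3, 4, 5, 1, 3, 2, 0]⟩),
  (159, ⟨none, [7, 6, 5, 4, 3, 2, 1, 3, 4, 5, 6, 7, 0, 2, 3, 4, 1, 3, 2, 0]⟩)]

/-- Entries of a representative. -/
def ent0_4 : List (ℕ × Entry) := [
  (160, ⟨none, [7, 6, 5, 4, 3, 2, 1, 3, 4, 5, 6, 0, 2, 3, 4, 1, 3, 2, 0]⟩),
  (161, ⟨none, [7, 6, 5, 4, 3, 2, 1, 3, 4, 5, 0, 2, 3, 4, 1, 3, 2, 0]⟩),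
  (162, ⟨none, [7, 6, 5, 4, 3, 2, 1, 3, 4, 5, 6, 7, 0, 2, 3, 4, 5, 6, 1, 3, 4, 5, 2, 3, 4, 1, 3, 2]⟩),
  (163, ⟨none, [7, 6, 5, 4, 3, 2, 1, 3, 4, 5, 6, 7, 0, 2, 3, 4, 5, 6, 1, 3, 4, 5, 2, 3, 4, 1, 3]⟩),
  (164, ⟨none, [7, 6, 5, 4, 3, 2, 1, 3, 4, 5, 6, 7, 0, 2, 3, 4, 5, 6, 1, 3, 4, 5, 2, 3, 4, 1]⟩),
  (165, ⟨none, [7, 6, 5, 4, 3, 2, 1, 3, 4, 5, 6, 7, 0, 2, 3, 4, 5, 6, 1, 3, 4, 5, 2, 3, 1]⟩),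
  (166, ⟨none, [7, 6, 5, 4, 3, 2, 1, 3, 4, 5, 6, 7, 0, 2, 3, 4, 5, 6, 1, 3, 4, 2, 3, 1]⟩),
  (167, ⟨none, [7, 6, 5, 4, 3, 2, 1, 3, 4, 5, 6, 7, 0, 2, 3, 4, 5, 1, 3, 4, 2, 3, 1]⟩),
  (168, ⟨none, [7, 6, 5, 4, 3, 2, 1, 3, 4, 5, 6, 0, 2, 3, 4, 5, 1, 3, 4, 2, 3, 1]⟩),
  (169, ⟨none, [7, 6, 5, 4, 3, 2, 1, 3, 4, 5, 6, 7, 0, 2, 3, 4, 5, 6, 1, 3, 4, 5, 2, 3, 4]⟩),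
  (170, ⟨none, [7, 6, 5, 4, 3, 2, 1, 3, 4, 5, 6, 7, 0, 2, 3, 4, 5, 6, 1, 3, 4, 5, 2, 3]⟩),
  (171, ⟨none, [7, 6, 5, 4, 3, 2, 1, 3, 4, 5, 6, 7, 0, 2, 3, 4, 5, 6, 1, 3, 4, 2, 3]⟩),
  (172, ⟨none, [7, 6, 5, 4, 3, 2, 1, 3, 4, 5, 6, 7, 0, 2, 3, 4, 5, 1, 3, 4, 2, 3]⟩),
  (173, ⟨none, [7, 6, 5, 4, 3, 2, 1, 3, 4, 5, 6, 0, 2, 3, 4, 5, 1, 3, 4, 2, 3]⟩),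
  (174, ⟨none, [7, 6, 5, 4, 3, 2, 1, 3, 4, 5, 6, 7, 0, 2, 3, 4, 5, 6, 1, 3, 4, 5, 2]⟩),
  (175, ⟨none, [7, 6, 5, 4, 3, 2, 1, 3, 4, 5, 6, 7, 0, 2, 3, 4, 5, 6, 1, 3, 4, 2]⟩),
  (176, ⟨none, [7, 6, 5, 4, 3, 2, 1, 3, 4, 5, 6, 7, 0, 2, 3, 4, 5, 1, 3, 4, 2]⟩),
  (177, ⟨none, [7, 6, 5, 4, 3, 2, 1, 3, 4, 5, 6, 0, 2, 3, 4, 5, 1, 3, 4, 2]⟩),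
  (178, ⟨none, [7, 6, 5, 4, 3, 2, 1, 3, 4, 5, 6, 7, 0, 2, 3, 4, 5, 6, 1, 3, 2]⟩),
  (179, ⟨none, [7, 6, 5, 4, 3, 2, 1, 3, 4, 5, 6, 7, 0, 2, 3, 4, 5, 1, 3, 2]⟩),
  (180, ⟨none, [7, 6, 5, 4, 3, 2, 1, 3, 4, 5, 6, 0, 2, 3, 4, 5, 1, 3, 2]⟩),
  (181, ⟨none, [7, 6, 5, 4, 3, 2, 1, 3, 4, 5, 6, 7, 0, 2, 3, 4, 1, 3, 2]⟩),
  (182, ⟨none, [7, 6, 5, 4, 3, 2, 1, 3, 4, 5, 6, 0, 2, 3, 4, 1, 3, 2]⟩),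
  (183, ⟨none, [7, 6, 5, 4, 3, 2, 1, 3, 4, 5, 0, 2, 3, 4, 1, 3, 2]⟩),
  (184, ⟨none, [7, 6, 5, 4, 3, 2, 1, 3, 4, 5, 6, 7, 0, 2, 3, 4, 5, 6, 1, 3, 4, 5]⟩),
  (185, ⟨none, [7, 6, 5, 4, 3, 2, 1, 3, 4, 5, 6, 7, 0, 2, 3, 4, 5, 6, 1, 3, 4]⟩),
  (186, ⟨none, [7, 6, 5, 4, 3, 2, 1, 3, 4, 5, 6, 7, 0, 2, 3, 4, 5, 1, 3, 4]⟩),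
  (187, ⟨none, [7, 6, 5, 4, 3, 2, 1, 3, 4, 5, 6, 0, 2, 3, 4, 5, 1, 3, 4]⟩),
  (188, ⟨none, [7, 6, 5, 4, 3, 2, 1, 3, 4, 5, 6, 7, 0, 2, 3, 4, 5, 6, 1, 3]⟩),
  (189, ⟨none, [7, 6, 5, 4, 3, 2, 1, 3, 4, 5, 6, 7, 0, 2, 3, 4, 5, 1, 3]⟩),
  (190, ⟨none, [7, 6, 5, 4, 3, 2, 1, 3, 4, 5, 6, 0, 2, 3, 4, 5, 1, 3]⟩),
  (191, ⟨none, [7, 6, 5, 4, 3, 2, 1, 3, 4, 5, 6, 7, 0, 2, 3, 4, 1, 3]⟩),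
  (192, ⟨none, [7, 6, 5, 4, 3, 2, 1, 3, 4, 5, 6, 0, 2, 3, 4, 1, 3]⟩),
  (193, ⟨none, [7, 6, 5, 4, 3, 2, 1, 3, 4, 5, 0, 2, 3, 4, 1, 3]⟩),
  (194, ⟨none, [7, 6, 5, 4, 3, 2, 1, 3, 4, 5, 6, 7, 0, 2, 3, 4, 5, 6, 1]⟩),
  (195, ⟨none, [7, 6, 5, 4, 3, 2, 1, 3, 4, 5, 6, 7, 0, 2, 3, 4, 5, 1]⟩),
  (196, ⟨none, [7, 6, 5, 4, 3, 2, 1, 3, 4, 5, 6, 0, 2, 3, 4, 5, 1]⟩),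
  (197, ⟨none, [7, 6, 5, 4, 3, 2, 1, 3, 4, 5, 6, 7, 0, 2, 3, 4, 1]⟩),
  (198, ⟨none, [7, 6, 5, 4, 3, 2, 1, 3, 4, 5, 6, 0, 2, 3, 4, 1]⟩),
  (199, ⟨none, [7, 6, 5, 4, 3, 2, 1, 3, 4, 5, 0, 2, 3, 4, 1]⟩)]

/-- Entries of a representative. -/
def ent0_5 : List (ℕ × Entry) := [
  (200, ⟨none, [7, 6, 5, 4, 3, 2, 1, 3, 4, 5, 6, 7, 0, 2, 3, 1]⟩),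
  (201, ⟨none, [7, 6, 5, 4, 3, 2, 1, 3, 4, 5, 6, 0, 2, 3, 1]⟩),
  (202, ⟨none, [7, 6, 5, 4, 3, 2, 1, 3, 4, 5, 0, 2, 3, 1]⟩),
  (203, ⟨none, [7, 6, 5, 4, 3, 2, 1, 3, 4, 0, 2, 3, 1]⟩),
  (204, ⟨none, [7, 6, 5, 4, 3, 2, 1, 3, 4, 5, 6, 7, 0, 2, 3, 4, 5, 6]⟩),
  (205, ⟨none, [7, 6, 5, 4, 3, 2, 1, 3, 4, 5, 6, 7, 0, 2, 3, 4, 5]⟩),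
  (206, ⟨none, [7, 6, 5, 4, 3, 2, 1, 3, 4, 5, 6, 0, 2, 3, 4, 5]⟩),
  (207, ⟨none, [7, 6, 5, 4, 3, 2, 1, 3, 4, 5, 6, 7, 0, 2, 3, 4]⟩),
  (208, ⟨none, [7, 6, 5, 4, 3, 2, 1, 3, 4, 5, 6, 0, 2, 3, 4]⟩),
  (209, ⟨none, [7, 6, 5, 4, 3, 2, 1, 3, 4, 5, 0, 2, 3, 4]⟩),
  (210, ⟨none, [7, 6, 5, 4, 3, 2, 1, 3, 4, 5, 6, 7, 0, 2, 3]⟩),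
  (211, ⟨none, [7, 6, 5, 4, 3, 2, 1, 3, 4, 5, 6, 0, 2, 3]⟩),
  (212, ⟨none, [7, 6, 5, 4, 3, 2, 1, 3, 4, 5, 0, 2, 3]⟩),
  (213, ⟨none, [7, 6, 5, 4, 3, 2, 1, 3, 4, 0, 2, 3]⟩),
  (214, ⟨none, [7, 6, 5, 4, 3, 2, 1, 3, 4, 5, 6, 7, 0, 2]⟩),
  (215, ⟨none, [7, 6, 5, 4, 3, 2, 1, 3, 4, 5, 6, 0, 2]⟩),
  (216, ⟨none, [7, 6, 5, 4, 3, 2, 1, 3, 4, 5, 0, 2]⟩),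
  (217, ⟨none, [7, 6, 5, 4, 3, 2, 1, 3, 4, 0, 2]⟩),
  (218, ⟨none, [7, 6, 5, 4, 3, 2, 1, 3, 0, 2]⟩),
  (219, ⟨none, [7, 6, 5, 4, 3, 2, 1, 3, 4, 5, 6, 7, 0]⟩),
  (220, ⟨none, [7, 6, 5, 4, 3, 2, 1, 3, 4, 5, 6, 0]⟩),
  (221, ⟨none, [7, 6, 5, 4, 3, 2, 1, 3, 4, 5, 0]⟩),
  (222, ⟨none, [7, 6, 5, 4, 3, 2, 1, 3, 4, 0]⟩),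
  (223, ⟨none, [7, 6, 5, 4, 3, 2, 1, 3, 0]⟩),
  (224, ⟨none, [7, 6, 5, 4, 3, 2, 1, 0]⟩),
  (225, ⟨none, [7, 6, 5, 4, 3, 2, 0]⟩),
  (226, ⟨none, [7, 6, 5, 4, 3, 2, 1, 3, 4, 5, 6, 7]⟩),
  (227, ⟨none, [7, 6, 5, 4, 3, 2, 1, 3, 4, 5, 6]⟩),
  (228, ⟨none, [7, 6, 5, 4, 3, 2, 1, 3, 4, 5]⟩),
  (229, ⟨none, [7, 6, 5, 4, 3, 2, 1, 3, 4]⟩),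
  (230, ⟨none, [7, 6, 5, 4, 3, 2, 1, 3]⟩),
  (231, ⟨none, [7, 6, 5, 4, 3, 2, 1]⟩),
  (232, ⟨none, [7, 6, 5, 4, 3, 1]⟩),
  (233, ⟨none, [7, 6, 5, 4, 3, 2]⟩),
  (234, ⟨none, [7, 6, 5, 4, 3]⟩),
  (235, ⟨none, [7, 6, 5, 4]⟩),
  (236, ⟨none, [7, 6, 5]⟩),
  (237, ⟨none, [7, 6]⟩),
  (238, ⟨none, [7]⟩),
  (239, ⟨none, []⟩)]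

/-- All entries of a representative. -/
def ent0 : List (ℕ × Entry) := ent0_0 ++ ent0_1 ++ ent0_2 ++ ent0_3 ++ ent0_4 ++ ent0_5

/-- Entries of a representative. -/
def ent1_0 : List (ℕ × Entry) := [
  (13, ⟨none, [1, 3, 4, 5, 6, 7, 7, 6, 5, 4, 3, 2, 1, 3, 4, 5, 6, 7, 0, 2, 3, 4, 5, 1, 3, 4, 2, 3, 0, 2, 1, 3, 4, 5, 6, 5, 4, 3, 2, 1, 3, 4, 5, 0, 2, 3, 4, 1, 3, 2, 0]⟩),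
  (20, ⟨none, [1, 3, 4, 5, 6, 7, 7, 6, 5, 4, 3, 2, 1, 3, 4, 5, 6, 7, 0, 2, 3, 4, 5, 1, 3, 4, 2, 3, 0, 2, 1, 3, 4, 5, 6, 5, 4, 3, 2, 1, 3, 4, 5, 0, 2, 3, 4, 1, 3, 2]⟩),
  (25, ⟨none, [1, 3, 4, 5, 6, 7, 7, 6, 5, 4, 3, 2, 1, 3, 4, 5, 6, 7, 0, 2, 3, 4, 5, 1, 3, 4, 2, 3, 0, 2, 1, 3, 4, 5, 6, 5, 4, 3, 2, 1, 3, 4, 5, 0, 2, 3, 4, 1, 3]⟩),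
  (29, ⟨none, [1, 3, 4, 5, 6, 7, 7, 6, 5, 4, 3, 2, 1, 3, 4, 5, 6, 7, 0, 2, 3, 4, 5, 1, 3, 4, 2, 3, 0, 2, 1, 3, 4, 5, 6, 5, 4, 3, 2, 1, 3, 4, 5, 0, 2, 3, 4, 1]⟩),
  (32, ⟨none, [1, 3, 4, 5, 6, 7, 7, 6, 5, 4, 3, 2, 1, 3, 4, 5, 6, 7, 0, 2, 3, 4, 5, 1, 3, 4, 2, 3, 0, 2, 1, 3, 4, 5, 6, 5, 4, 3, 2, 1, 3, 4, 5, 0, 2, 3, 1]⟩),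
  (34, ⟨none, [1, 3, 4, 5, 6, 7, 7, 6, 5, 4, 3, 2, 1, 3, 4, 5, 6, 7, 0, 2, 3, 4, 5, 1, 3, 4, 2, 3, 0, 2, 1, 3, 4, 5, 6, 5, 4, 3, 2, 1, 3, 4, 0, 2, 3, 1]⟩),
  (35, ⟨none, [1, 3, 4, 5, 6, 7, 7, 6, 5, 4, 3, 2, 1, 3, 4, 5, 6, 7, 0, 2, 3, 4, 5, 6, 1, 3, 4, 2, 3, 0, 2, 1, 3, 4, 5, 4, 3, 2, 1, 3, 4, 0, 2, 3, 1]⟩),
  (39, ⟨none, [1, 3, 4, 5, 6, 7, 7, 6, 5, 4, 3, 2, 1, 3, 4, 5, 6, 7, 0, 2, 3, 4, 5, 1, 3, 4, 2, 3, 0, 2, 1, 3, 4, 5, 6, 5, 4, 3, 2, 1, 3, 4, 5, 0, 2, 3, 4]⟩),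
  (42, ⟨none, [1, 3, 4, 5, 6, 7, 7, 6, 5, 4, 3, 2, 1, 3, 4, 5, 6, 7, 0, 2, 3, 4, 5, 1, 3, 4, 2, 3, 0, 2, 1, 3, 4, 5, 6, 5, 4, 3, 2, 1, 3, 4, 5, 0, 2, 3]⟩),
  (44, ⟨none, [1, 3, 4, 5, 6, 7, 7, 6, 5, 4, 3, 2, 1, 3, 4, 5, 6, 7, 0, 2, 3, 4, 5, 1, 3, 4, 2, 3, 0, 2, 1, 3, 4, 5, 6, 5, 4, 3, 2, 1, 3, 4, 0, 2, 3]⟩),
  (45, ⟨none, [1, 3, 4, 5, 6, 7, 7, 6, 5, 4, 3, 2, 1, 3, 4, 5, 6, 7, 0, 2, 3, 4, 5, 6, 1, 3, 4, 2, 3, 0, 2, 1, 3, 4, 5, 4, 3, 2, 1, 3, 4, 0, 2, 3]⟩),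
  (48, ⟨none, [1, 3, 4, 5, 6, 7, 7, 6, 5, 4, 3, 2, 1, 3, 4, 5, 6, 7, 0, 2, 3, 4, 5, 1, 3, 4, 2, 3, 0, 2, 1, 3, 4, 5, 6, 5, 4, 3, 2, 1, 3, 4, 5, 0, 2]⟩),
  (50, ⟨none, [1, 3, 4, 5, 6, 7, 7, 6, 5, 4, 3, 2, 1, 3, 4, 5, 6, 7, 0, 2, 3, 4, 5, 1, 3, 4, 2, 3, 0, 2, 1, 3, 4, 5, 6, 5, 4, 3, 2, 1, 3, 4, 0, 2]⟩),
  (51, ⟨none, [1, 3, 4, 5, 6, 7, 7, 6, 5, 4, 3, 2, 1, 3, 4, 5, 6, 7, 0, 2, 3, 4, 5, 6, 1, 3, 4, 2, 3, 0, 2, 1, 3, 4, 5, 4, 3, 2, 1, 3, 4, 0, 2]⟩),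
  (53, ⟨none, [1, 3, 4, 5, 6, 7, 7, 6, 5, 4, 3, 2, 1, 3, 4, 5, 6, 7, 0, 2, 3, 4, 5, 1, 3, 4, 2, 3, 0, 2, 1, 3, 4, 5, 6, 5, 4, 3, 2, 1, 3, 0, 2]⟩),
  (54, ⟨none, [1, 3, 4, 5, 6, 7, 7, 6, 5, 4, 3, 2, 1, 3, 4, 5, 6, 7, 0, 2, 3, 4, 5, 6, 1, 3, 4, 2, 3, 0, 2, 1, 3, 4, 5, 4, 3, 2, 1, 3, 0, 2]⟩),
  (55, ⟨none, [1, 3, 4, 5, 6, 7, 7, 6, 5, 4, 3, 2, 1, 3, 4, 5, 6, 7, 0, 2, 3, 4, 5, 6, 1, 3, 4, 5, 2, 3, 0, 2, 1, 3, 4, 3, 2, 1, 3, 0, 2]⟩),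
  (58, ⟨none, [1, 3, 4, 5, 6, 7, 7, 6, 5, 4, 3, 2, 1, 3, 4, 5, 6, 7, 0, 2, 3, 4, 5, 1, 3, 4, 2, 3, 0, 2, 1, 3, 4, 5, 6, 5, 4, 3, 2, 1, 3, 4, 5, 0]⟩),
  (60, ⟨none, [1, 3, 4, 5, 6, 7, 7, 6, 5, 4, 3, 2, 1, 3, 4, 5, 6, 7, 0, 2, 3, 4, 5, 1, 3, 4, 2, 3, 0, 2, 1, 3, 4, 5, 6, 5, 4, 3, 2, 1, 3, 4, 0]⟩),
  (61, ⟨none, [1, 3, 4, 5, 6, 7, 7, 6, 5, 4, 3, 2, 1, 3, 4, 5, 6, 7, 0, 2, 3, 4, 5, 6, 1, 3, 4, 2, 3, 0, 2, 1, 3, 4, 5, 4, 3, 2, 1, 3, 4, 0]⟩),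
  (63, ⟨none, [1, 3, 4, 5, 6, 7, 7, 6, 5, 4, 3, 2, 1, 3, 4, 5, 6, 7, 0, 2, 3, 4, 5, 1, 3, 4, 2, 3, 0, 2, 1, 3, 4, 5, 6, 5, 4, 3, 2, 1, 3, 0]⟩),
  (64, ⟨none, [1, 3, 4, 5, 6, 7, 7, 6, 5, 4, 3, 2, 1, 3, 4, 5, 6, 7, 0, 2, 3, 4, 5, 6, 1, 3, 4, 2, 3, 0, 2, 1, 3, 4, 5, 4, 3, 2, 1, 3, 0]⟩),
  (65, ⟨none, [1, 3, 4, 5, 6, 7, 7, 6, 5, 4, 3, 2, 1, 3, 4, 5, 6, 7, 0, 2, 3, 4, 5, 6, 1, 3, 4, 5, 2, 3, 0, 2, 1, 3, 4, 3, 2, 1, 3, 0]⟩),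
  (67, ⟨none, [1, 3, 4, 5, 6, 7, 7, 6, 5, 4, 3, 2, 1, 3, 4, 5, 6, 7, 0, 2, 3, 4, 5, 1, 3, 4, 2, 3, 0, 2, 1, 3, 4, 5, 6, 5, 4, 3, 2, 1, 0]⟩),
  (68, ⟨none, [1, 3, 4, 5, 6, 7, 7, 6, 5, 4, 3, 2, 1, 3, 4, 5, 6, 7, 0, 2, 3, 4, 5, 6, 1, 3, 4, 2, 3, 0, 2, 1, 3, 4, 5, 4, 3, 2, 1, 0]⟩),
  (69, ⟨none, [1, 3, 4, 5, 6, 7, 7, 6, 5, 4, 3, 2, 1, 3, 4, 5, 6, 7, 0, 2, 3, 4, 5, 6, 1, 3, 4, 5, 2, 3, 0, 2, 1, 3, 4, 3, 2, 1, 0]⟩),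
  (70, ⟨none, [1, 3, 4, 5, 6, 7, 7, 6, 5, 4, 3, 2, 1, 3, 4, 5, 6, 7, 0, 2, 3, 4, 5, 6, 1, 3, 4, 5, 2, 3, 4, 0, 2, 1, 3, 2, 1, 0]⟩),
  (72, ⟨none, [1, 3, 4, 5, 6, 7, 7, 6, 5, 4, 3, 2, 1, 3, 4, 5, 6, 7, 0, 2, 3, 4, 5, 1, 3, 4, 2, 3, 0, 2, 1, 3, 4, 5, 6, 5, 4, 3, 2, 0]⟩),
  (73, ⟨none, [1, 3, 4, 5, 6, 7, 7, 6, 5, 4, 3, 2, 1, 3, 4, 5, 6, 7, 0, 2, 3, 4, 5, 6, 1, 3, 4, 2, 3, 0, 2, 1, 3, 4, 5, 4, 3, 2, 0]⟩),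
  (74, ⟨none, [1, 3, 4, 5, 6, 7, 7, 6, 5, 4, 3, 2, 1, 3, 4, 5, 6, 7, 0, 2, 3, 4, 5, 6, 1, 3, 4, 5, 2, 3, 0, 2, 1, 3, 4, 3, 2, 0]⟩),
  (75, ⟨none, [1, 3, 4, 5, 6, 7, 7, 6, 5, 4, 3, 2, 1, 3, 4, 5, 6, 7, 0, 2, 3, 4, 5, 6, 1, 3, 4, 5, 2, 3, 4, 0, 2, 1, 3, 2, 0]⟩),
  (76, ⟨none, [1, 3, 4, 5, 6, 7, 7, 6, 5, 4, 3, 2, 1, 3, 4, 5, 6, 7, 0, 2, 3, 4, 5, 6, 1, 3, 4, 5, 2, 3, 4, 1, 3, 0, 2, 0]⟩),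
  (77, ⟨none, [1, 3, 4, 5, 6, 7, 7, 6, 5, 4, 3, 2, 1, 3, 4, 5, 6, 7, 0, 2, 3, 4, 5, 6, 1, 3, 4, 5, 2, 3, 4, 1, 3, 2, 0]⟩),
  (80, ⟨none, [1, 3, 4, 5, 6, 7, 7, 6, 5, 4, 3, 2, 1, 3, 4, 5, 6, 7, 0, 2, 3, 4, 5, 1, 3, 4, 2, 3, 0, 2, 1, 3, 4, 5, 6, 5, 4, 3, 2, 1, 3, 4, 5]⟩),
  (82, ⟨none, [1, 3, 4, 5, 6, 7, 7, 6, 5, 4, 3, 2, 1, 3, 4, 5, 6, 7, 0, 2, 3, 4, 5, 1, 3, 4, 2, 3, 0, 2, 1, 3, 4, 5, 6, 5, 4, 3, 2, 1, 3, 4]⟩),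
  (83, ⟨none, [1, 3, 4, 5, 6, 7, 7, 6, 5, 4, 3, 2, 1, 3, 4, 5, 6, 7, 0, 2, 3, 4, 5, 6, 1, 3, 4, 2, 3, 0, 2, 1, 3, 4, 5, 4, 3, 2, 1, 3, 4]⟩),
  (85, ⟨none, [1, 3, 4, 5, 6, 7, 7, 6, 5, 4, 3, 2, 1, 3, 4, 5, 6, 7, 0, 2, 3, 4, 5, 1, 3, 4, 2, 3, 0, 2, 1, 3, 4, 5, 6, 5, 4, 3, 2, 1, 3]⟩),
  (86, ⟨none, [1, 3, 4, 5, 6, 7, 7, 6, 5, 4, 3, 2, 1, 3, 4, 5, 6, 7, 0, 2, 3, 4, 5, 6, 1, 3, 4, 2, 3, 0, 2, 1, 3, 4, 5, 4, 3, 2, 1, 3]⟩),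
  (87, ⟨none, [1, 3, 4, 5, 6, 7, 7, 6, 5, 4, 3, 2, 1, 3, 4, 5, 6, 7, 0, 2, 3, 4, 5, 6, 1, 3, 4, 5, 2, 3, 0, 2, 1, 3, 4, 3, 2, 1, 3]⟩),
  (89, ⟨none, [1, 3, 4, 5, 6, 7, 7, 6, 5, 4, 3, 2, 1, 3, 4, 5, 6, 7, 0, 2, 3, 4, 5, 1, 3, 4, 2, 3, 0, 2, 1, 3, 4, 5, 6, 5, 4, 3, 2, 1]⟩)]

/-- Entries of a representative. -/
def ent1_1 : List (ℕ × Entry) := [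
  (90, ⟨none, [1, 3, 4, 5, 6, 7, 7, 6, 5, 4, 3, 2, 1, 3, 4, 5, 6, 7, 0, 2, 3, 4, 5, 6, 1, 3, 4, 2, 3, 0, 2, 1, 3, 4, 5, 4, 3, 2, 1]⟩),
  (91, ⟨none, [1, 3, 4, 5, 6, 7, 7, 6, 5, 4, 3, 2, 1, 3, 4, 5, 6, 7, 0, 2, 3, 4, 5, 6, 1, 3, 4, 5, 2, 3, 0, 2, 1, 3, 4, 3, 2, 1]⟩),
  (92, ⟨none, [1, 3, 4, 5, 6, 7, 7, 6, 5, 4, 3, 2, 1, 3, 4, 5, 6, 7, 0, 2, 3, 4, 5, 6, 1, 3, 4, 5, 2, 3, 4, 0, 2, 1, 3, 2, 1]⟩),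
  (94, ⟨none, [1, 3, 4, 5, 6, 7, 7, 6, 5, 4, 3, 2, 1, 3, 4, 5, 6, 7, 0, 2, 3, 4, 5, 1, 3, 4, 2, 3, 0, 2, 1, 3, 4, 5, 6, 5, 4, 3, 1]⟩),
  (95, ⟨none, [1, 3, 4, 5, 6, 7, 7, 6, 5, 4, 3, 2, 1, 3, 4, 5, 6, 7, 0, 2, 3, 4, 5, 6, 1, 3, 4, 2, 3, 0, 2, 1, 3, 4, 5, 4, 3, 1]⟩),
  (96, ⟨none, [1, 3, 4, 5, 6, 7, 7, 6, 5, 4, 3, 2, 1, 3, 4, 5, 6, 7, 0, 2, 3, 4, 5, 6, 1, 3, 4, 5, 2, 3, 0, 2, 1, 3, 4, 3, 1]⟩),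
  (97, ⟨none, [1, 3, 4, 5, 6, 7, 7, 6, 5, 4, 3, 2, 1, 3, 4, 5, 6, 7, 0, 2, 3, 4, 5, 6, 1, 3, 4, 5, 2, 3, 4, 0, 2, 1, 3, 1]⟩),
  (98, ⟨none, [1, 3, 4, 5, 6, 7, 7, 6, 5, 4, 3, 2, 1, 3, 4, 5, 6, 7, 0, 2, 3, 4, 5, 6, 1, 3, 4, 5, 2, 3, 4, 0, 2, 3, 1]⟩),
  (100, ⟨none, [1, 3, 4, 5, 6, 7, 7, 6, 5, 4, 3, 2, 1, 3, 4, 5, 6, 7, 0, 2, 3, 4, 5, 1, 3, 4, 2, 3, 0, 2, 1, 3, 4, 5, 6, 5, 4, 3, 2]⟩),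
  (101, ⟨none, [1, 3, 4, 5, 6, 7, 7, 6, 5, 4, 3, 2, 1, 3, 4, 5, 6, 7, 0, 2, 3, 4, 5, 6, 1, 3, 4, 2, 3, 0, 2, 1, 3, 4, 5, 4, 3, 2]⟩),
  (102, ⟨none, [1, 3, 4, 5, 6, 7, 7, 6, 5, 4, 3, 2, 1, 3, 4, 5, 6, 7, 0, 2, 3, 4, 5, 6, 1, 3, 4, 5, 2, 3, 0, 2, 1, 3, 4, 3, 2]⟩),
  (103, ⟨none, [1, 3, 4, 5, 6, 7, 7, 6, 5, 4, 3, 2, 1, 3, 4, 5, 6, 7, 0, 2, 3, 4, 5, 6, 1, 3, 4, 5, 2, 3, 4, 0, 2, 1, 3, 2]⟩),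
  (104, ⟨none, [1, 3, 4, 5, 6, 7, 7, 6, 5, 4, 3, 2, 1, 3, 4, 5, 6, 7, 0, 2, 3, 4, 5, 6, 1, 3, 4, 5, 2, 3, 4, 1, 3, 0, 2]⟩),
  (106, ⟨none, [1, 3, 4, 5, 6, 7, 7, 6, 5, 4, 3, 2, 1, 3, 4, 5, 6, 7, 0, 2, 3, 4, 5, 1, 3, 4, 2, 3, 0, 2, 1, 3, 4, 5, 6, 5, 4, 3]⟩),
  (107, ⟨none, [1, 3, 4, 5, 6, 7, 7, 6, 5, 4, 3, 2, 1, 3, 4, 5, 6, 7, 0, 2, 3, 4, 5, 6, 1, 3, 4, 2, 3, 0, 2, 1, 3, 4, 5, 4, 3]⟩),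
  (108, ⟨none, [1, 3, 4, 5, 6, 7, 7, 6, 5, 4, 3, 2, 1, 3, 4, 5, 6, 7, 0, 2, 3, 4, 5, 6, 1, 3, 4, 5, 2, 3, 0, 2, 1, 3, 4, 3]⟩),
  (109, ⟨none, [1, 3, 4, 5, 6, 7, 7, 6, 5, 4, 3, 2, 1, 3, 4, 5, 6, 7, 0, 2, 3, 4, 5, 6, 1, 3, 4, 5, 2, 3, 4, 0, 2, 1, 3]⟩),
  (111, ⟨none, [1, 3, 4, 5, 6, 7, 7, 6, 5, 4, 3, 2, 1, 3, 4, 5, 6, 7, 0, 2, 3, 4, 5, 1, 3, 4, 2, 3, 0, 2, 1, 3, 4, 5, 6, 5, 4]⟩),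
  (112, ⟨none, [1, 3, 4, 5, 6, 7, 7, 6, 5, 4, 3, 2, 1, 3, 4, 5, 6, 7, 0, 2, 3, 4, 5, 6, 1, 3, 4, 2, 3, 0, 2, 1, 3, 4, 5, 4]⟩),
  (113, ⟨none, [1, 3, 4, 5, 6, 7, 7, 6, 5, 4, 3, 2, 1, 3, 4, 5, 6, 7, 0, 2, 3, 4, 5, 6, 1, 3, 4, 5, 2, 3, 0, 2, 1, 3, 4]⟩),
  (115, ⟨none, [1, 3, 4, 5, 6, 7, 7, 6, 5, 4, 3, 2, 1, 3, 4, 5, 6, 7, 0, 2, 3, 4, 5, 1, 3, 4, 2, 3, 0, 2, 1, 3, 4, 5, 6, 5]⟩),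
  (116, ⟨none, [1, 3, 4, 5, 6, 7, 7, 6, 5, 4, 3, 2, 1, 3, 4, 5, 6, 7, 0, 2, 3, 4, 5, 6, 1, 3, 4, 2, 3, 0, 2, 1, 3, 4, 5]⟩),
  (118, ⟨none, [1, 3, 4, 5, 6, 7, 7, 6, 5, 4, 3, 2, 1, 3, 4, 5, 6, 7, 0, 2, 3, 4, 5, 1, 3, 4, 2, 3, 0, 2, 1, 3, 4, 5, 6]⟩),
  (121, ⟨none, [1, 3, 4, 5, 6, 7, 7, 6, 5, 4, 3, 2, 1, 3, 4, 5, 6, 7, 0, 2, 3, 4, 5, 1, 3, 4, 2, 3, 0, 2, 1, 3, 4, 5]⟩),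
  (123, ⟨none, [1, 3, 4, 5, 6, 7, 7, 6, 5, 4, 3, 2, 1, 3, 4, 5, 6, 7, 0, 2, 3, 4, 5, 6, 1, 3, 4, 2, 3, 0, 2, 1, 3, 4]⟩),
  (124, ⟨none, [1, 3, 4, 5, 6, 7, 7, 6, 5, 4, 3, 2, 1, 3, 4, 5, 6, 7, 0, 2, 3, 4, 5, 1, 3, 4, 2, 3, 0, 2, 1, 3, 4]⟩),
  (126, ⟨none, [1, 3, 4, 5, 6, 7, 7, 6, 5, 4, 3, 2, 1, 3, 4, 5, 6, 7, 0, 2, 3, 4, 5, 6, 1, 3, 4, 5, 2, 3, 0, 2, 1, 3]⟩),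
  (127, ⟨none, [1, 3, 4, 5, 6, 7, 7, 6, 5, 4, 3, 2, 1, 3, 4, 5, 6, 7, 0, 2, 3, 4, 5, 6, 1, 3, 4, 2, 3, 0, 2, 1, 3]⟩),
  (128, ⟨none, [1, 3, 4, 5, 6, 7, 7, 6, 5, 4, 3, 2, 1, 3, 4, 5, 6, 7, 0, 2, 3, 4, 5, 1, 3, 4, 2, 3, 0, 2, 1, 3]⟩),
  (130, ⟨none, [1, 3, 4, 5, 6, 7, 7, 6, 5, 4, 3, 2, 1, 3, 4, 5, 6, 7, 0, 2, 3, 4, 5, 6, 1, 3, 4, 5, 2, 3, 4, 0, 2, 1]⟩),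
  (131, ⟨none, [1, 3, 4, 5, 6, 7, 7, 6, 5, 4, 3, 2, 1, 3, 4, 5, 6, 7, 0, 2, 3, 4, 5, 6, 1, 3, 4, 5, 2, 3, 0, 2, 1]⟩),
  (132, ⟨none, [1, 3, 4, 5, 6, 7, 7, 6, 5, 4, 3, 2, 1, 3, 4, 5, 6, 7, 0, 2, 3, 4, 5, 6, 1, 3, 4, 2, 3, 0, 2, 1]⟩),
  (133, ⟨none, [1, 3, 4, 5, 6, 7, 7, 6, 5, 4, 3, 2, 1, 3, 4, 5, 6, 7, 0, 2, 3, 4, 5, 1, 3, 4, 2, 3, 0, 2, 1]⟩),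
  (135, ⟨none, [1, 3, 4, 5, 6, 7, 7, 6, 5, 4, 3, 2, 1, 3, 4, 5, 6, 7, 0, 2, 3, 4, 5, 6, 1, 3, 4, 5, 2, 3, 4, 1, 3, 0]⟩),
  (136, ⟨none, [1, 3, 4, 5, 6, 7, 7, 6, 5, 4, 3, 2, 1, 3, 4, 5, 6, 7, 0, 2, 3, 4, 5, 6, 1, 3, 4, 5, 2, 3, 4, 1, 0]⟩),
  (137, ⟨none, [1, 3, 4, 5, 6, 7, 7, 6, 5, 4, 3, 2, 1, 3, 4, 5, 6, 7, 0, 2, 3, 4, 5, 6, 1, 3, 4, 5, 2, 3, 1, 0]⟩),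
  (138, ⟨none, [1, 3, 4, 5, 6, 7, 7, 6, 5, 4, 3, 2, 1, 3, 4, 5, 6, 7, 0, 2, 3, 4, 5, 6, 1, 3, 4, 2, 3, 1, 0]⟩),
  (139, ⟨none, [1, 3, 4, 5, 6, 7, 7, 6, 5, 4, 3, 2, 1, 3, 4, 5, 6, 7, 0, 2, 3, 4, 5, 1, 3, 4, 2, 3, 1, 0]⟩),
  (141, ⟨none, [1, 3, 4, 5, 6, 7, 7, 6, 5, 4, 3, 2, 1, 3, 4, 5, 6, 7, 0, 2, 3, 4, 5, 6, 1, 3, 4, 5, 2, 3, 4, 0, 2, 3]⟩),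
  (142, ⟨none, [1, 3, 4, 5, 6, 7, 7, 6, 5, 4, 3, 2, 1, 3, 4, 5, 6, 7, 0, 2, 3, 4, 5, 6, 1, 3, 4, 5, 2, 3, 4, 0, 2]⟩)]

/-- Entries of a representative. -/
def ent1_2 : List (ℕ × Entry) := [
  (143, ⟨none, [1, 3, 4, 5, 6, 7, 7, 6, 5, 4, 3, 2, 1, 3, 4, 5, 6, 7, 0, 2, 3, 4, 5, 6, 1, 3, 4, 5, 2, 3, 0, 2]⟩),
  (144, ⟨none, [1, 3, 4, 5, 6, 7, 7, 6, 5, 4, 3, 2, 1, 3, 4, 5, 6, 7, 0, 2, 3, 4, 5, 6, 1, 3, 4, 2, 3, 0, 2]⟩),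
  (145, ⟨none, [1, 3, 4, 5, 6, 7, 7, 6, 5, 4, 3, 2, 1, 3, 4, 5, 6, 7, 0, 2, 3, 4, 5, 1, 3, 4, 2, 3, 0, 2]⟩),
  (147, ⟨none, [1, 3, 4, 5, 6, 7, 7, 6, 5, 4, 3, 2, 1, 3, 4, 5, 6, 7, 0, 2, 3, 4, 5, 6, 1, 3, 4, 5, 2, 3, 4, 0]⟩),
  (148, ⟨none, [1, 3, 4, 5, 6, 7, 7, 6, 5, 4, 3, 2, 1, 3, 4, 5, 6, 7, 0, 2, 3, 4, 5, 6, 1, 3, 4, 5, 2, 3, 0]⟩),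
  (149, ⟨none, [1, 3, 4, 5, 6, 7, 7, 6, 5, 4, 3, 2, 1, 3, 4, 5, 6, 7, 0, 2, 3, 4, 5, 6, 1, 3, 4, 2, 3, 0]⟩),
  (150, ⟨none, [1, 3, 4, 5, 6, 7, 7, 6, 5, 4, 3, 2, 1, 3, 4, 5, 6, 7, 0, 2, 3, 4, 5, 1, 3, 4, 2, 3, 0]⟩),
  (152, ⟨none, [1, 3, 4, 5, 6, 7, 7, 6, 5, 4, 3, 2, 1, 3, 4, 5, 6, 7, 0, 2, 3, 4, 5, 6, 1, 3, 4, 5, 2, 0]⟩),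
  (153, ⟨none, [1, 3, 4, 5, 6, 7, 7, 6, 5, 4, 3, 2, 1, 3, 4, 5, 6, 7, 0, 2, 3, 4, 5, 6, 1, 3, 4, 2, 0]⟩),
  (154, ⟨none, [1, 3, 4, 5, 6, 7, 7, 6, 5, 4, 3, 2, 1, 3, 4, 5, 6, 7, 0, 2, 3, 4, 5, 1, 3, 4, 2, 0]⟩),
  (156, ⟨none, [1, 3, 4, 5, 6, 7, 7, 6, 5, 4, 3, 2, 1, 3, 4, 5, 6, 7, 0, 2, 3, 4, 5, 6, 1, 3, 2, 0]⟩),
  (157, ⟨none, [1, 3, 4, 5, 6, 7, 7, 6, 5, 4, 3, 2, 1, 3, 4, 5, 6, 7, 0, 2, 3, 4, 5, 1, 3, 2, 0]⟩),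
  (159, ⟨none, [1, 3, 4, 5, 6, 7, 7, 6, 5, 4, 3, 2, 1, 3, 4, 5, 6, 7, 0, 2, 3, 4, 1, 3, 2, 0]⟩),
  (162, ⟨none, [1, 3, 4, 5, 6, 7, 7, 6, 5, 4, 3, 2, 1, 3, 4, 5, 6, 7, 0, 2, 3, 4, 5, 6, 1, 3, 4, 5, 2, 3, 4, 1, 3, 2]⟩),
  (163, ⟨none, [1, 3, 4, 5, 6, 7, 7, 6, 5, 4, 3, 2, 1, 3, 4, 5, 6, 7, 0, 2, 3, 4, 5, 6, 1, 3, 4, 5, 2, 3, 4, 1, 3]⟩),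
  (164, ⟨none, [1, 3, 4, 5, 6, 7, 7, 6, 5, 4, 3, 2, 1, 3, 4, 5, 6, 7, 0, 2, 3, 4, 5, 6, 1, 3, 4, 5, 2, 3, 4, 1]⟩),
  (165, ⟨none, [1, 3, 4, 5, 6, 7, 7, 6, 5, 4, 3, 2, 1, 3, 4, 5, 6, 7, 0, 2, 3, 4, 5, 6, 1, 3, 4, 5, 2, 3, 1]⟩),
  (166, ⟨none, [1, 3, 4, 5, 6, 7, 7, 6, 5, 4, 3, 2, 1, 3, 4, 5, 6, 7, 0, 2, 3, 4, 5, 6, 1, 3, 4, 2, 3, 1]⟩),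
  (167, ⟨none, [1, 3, 4, 5, 6, 7, 7, 6, 5, 4, 3, 2, 1, 3, 4, 5, 6, 7, 0, 2, 3, 4, 5, 1, 3, 4, 2, 3, 1]⟩),
  (169, ⟨none, [1, 3, 4, 5, 6, 7, 7, 6, 5, 4, 3, 2, 1, 3, 4, 5, 6, 7, 0, 2, 3, 4, 5, 6, 1, 3, 4, 5, 2, 3, 4]⟩),
  (170, ⟨none, [1, 3, 4, 5, 6, 7, 7, 6, 5, 4, 3, 2, 1, 3, 4, 5, 6, 7, 0, 2, 3, 4, 5, 6, 1, 3, 4, 5, 2, 3]⟩),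
  (171, ⟨none, [1, 3, 4, 5, 6, 7, 7, 6, 5, 4, 3, 2, 1, 3, 4, 5, 6, 7, 0, 2, 3, 4, 5, 6, 1, 3, 4, 2, 3]⟩),
  (172, ⟨none, [1, 3, 4, 5, 6, 7, 7, 6, 5, 4, 3, 2, 1, 3, 4, 5, 6, 7, 0, 2, 3, 4, 5, 1, 3, 4, 2, 3]⟩),
  (174, ⟨none, [1, 3, 4, 5, 6, 7, 7, 6, 5, 4, 3, 2, 1, 3, 4, 5, 6, 7, 0, 2, 3, 4, 5, 6, 1, 3, 4, 5, 2]⟩),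
  (175, ⟨none, [1, 3, 4, 5, 6, 7, 7, 6, 5, 4, 3, 2, 1, 3, 4, 5, 6, 7, 0, 2, 3, 4, 5, 6, 1, 3, 4, 2]⟩),
  (176, ⟨none, [1, 3, 4, 5, 6, 7, 7, 6, 5, 4, 3, 2, 1, 3, 4, 5, 6, 7, 0, 2, 3, 4, 5, 1, 3, 4, 2]⟩),
  (178, ⟨none, [1, 3, 4, 5, 6, 7, 7, 6, 5, 4, 3, 2, 1, 3, 4, 5, 6, 7, 0, 2, 3, 4, 5, 6, 1, 3, 2]⟩),
  (179, ⟨none, [1, 3, 4, 5, 6, 7, 7, 6, 5, 4, 3, 2, 1, 3, 4, 5, 6, 7, 0, 2, 3, 4, 5, 1, 3, 2]⟩),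
  (181, ⟨none, [1, 3, 4, 5, 6, 7, 7, 6, 5, 4, 3, 2, 1, 3, 4, 5, 6, 7, 0, 2, 3, 4, 1, 3, 2]⟩),
  (184, ⟨none, [1, 3, 4, 5, 6, 7, 7, 6, 5, 4, 3, 2, 1, 3, 4, 5, 6, 7, 0, 2, 3, 4, 5, 6, 1, 3, 4, 5]⟩),
  (185, ⟨none, [1, 3, 4, 5, 6, 7, 7, 6, 5, 4, 3, 2, 1, 3, 4, 5, 6, 7, 0, 2, 3, 4, 5, 6, 1, 3, 4]⟩),
  (186, ⟨none, [1, 3, 4, 5, 6, 7, 7, 6, 5, 4, 3, 2, 1, 3, 4, 5, 6, 7, 0, 2, 3, 4, 5, 1, 3, 4]⟩),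
  (188, ⟨none, [1, 3, 4, 5, 6, 7, 7, 6, 5, 4, 3, 2, 1, 3, 4, 5, 6, 7, 0, 2, 3, 4, 5, 6, 1, 3]⟩),
  (189, ⟨none, [1, 3, 4, 5, 6, 7, 7, 6, 5, 4, 3, 2, 1, 3, 4, 5, 6, 7, 0, 2, 3, 4, 5, 1, 3]⟩),
  (191, ⟨none, [1, 3, 4, 5, 6, 7, 7, 6, 5, 4, 3, 2, 1, 3, 4, 5, 6, 7, 0, 2, 3, 4, 1, 3]⟩),
  (194, ⟨none, [1, 3, 4, 5, 6, 7, 7, 6, 5, 4, 3, 2, 1, 3, 4, 5, 6, 7, 0, 2, 3, 4, 5, 6, 1]⟩),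
  (195, ⟨none, [1, 3, 4, 5, 6, 7, 7, 6, 5, 4, 3, 2, 1, 3, 4, 5, 6, 7, 0, 2, 3, 4, 5, 1]⟩),
  (197, ⟨none, [1, 3, 4, 5, 6, 7, 7, 6, 5, 4, 3, 2, 1, 3, 4, 5, 6, 7, 0, 2, 3, 4, 1]⟩),
  (200, ⟨none, [1, 3, 4, 5, 6, 7, 7, 6, 5, 4, 3, 2, 1, 3, 4, 5, 6, 7, 0, 2, 3, 1]⟩),
  (204, ⟨none, [1, 3, 4, 5, 6, 7, 7, 6, 5, 4, 3, 2, 1, 3, 4, 5, 6, 7, 0, 2, 3, 4, 5, 6]⟩)]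

/-- Entries of a representative. -/
def ent1_3 : List (ℕ × Entry) := [
  (205, ⟨none, [1, 3, 4, 5, 6, 7, 7, 6, 5, 4, 3, 2, 1, 3, 4, 5, 6, 7, 0, 2, 3, 4, 5]⟩),
  (207, ⟨none, [1, 3, 4, 5, 6, 7, 7, 6, 5, 4, 3, 2, 1, 3, 4, 5, 6, 7, 0, 2, 3, 4]⟩),
  (210, ⟨none, [1, 3, 4, 5, 6, 7, 7, 6, 5, 4, 3, 2, 1, 3, 4, 5, 6, 7, 0, 2, 3]⟩),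
  (214, ⟨none, [1, 3, 4, 5, 6, 7, 7, 6, 5, 4, 3, 2, 1, 3, 4, 5, 6, 7, 0, 2]⟩),
  (219, ⟨none, [1, 3, 4, 5, 6, 7, 7, 6, 5, 4, 3, 2, 1, 3, 4, 5, 6, 7, 0]⟩),
  (226, ⟨none, [1, 3, 4, 5, 6, 7, 7, 6, 5, 4, 3, 2, 1, 3, 4, 5, 6, 7]⟩)]

/-- All entries of a representative. -/
def ent1 : List (ℕ × Entry) := ent1_0 ++ ent1_1 ++ ent1_2 ++ ent1_3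

/-- Entries of a representative. -/
def ent2_0 : List (ℕ × Entry) := [
  (78, ⟨none, [5, 4, 3, 1, 2, 3, 4, 5, 6, 7, 4, 3, 2, 0, 0, 2, 3, 4, 7, 6, 5, 4, 3, 2, 1, 3, 4, 5, 6, 0, 2, 3, 4, 5, 1, 3, 4, 2, 3, 0, 2, 1, 3, 4, 5, 6, 7, 6, 5, 4, 3, 2, 1, 3, 4, 5, 6]⟩),
  (79, ⟨none, [5, 4, 3, 1, 2, 3, 4, 5, 6, 7, 4, 3, 2, 0, 0, 2, 3, 4, 7, 6, 5, 4, 3, 2, 1, 3, 4, 5, 6, 0, 2, 3, 4, 5, 1, 3, 4, 2, 3, 0, 2, 1, 3, 4, 5, 6, 7, 6, 5, 4, 3, 2, 1, 3, 4, 5]⟩),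
  (80, ⟨none, [5, 4, 3, 1, 2, 3, 4, 5, 6, 7, 4, 3, 2, 0, 0, 2, 3, 4, 7, 6, 5, 4, 3, 2, 1, 3, 4, 5, 6, 7, 0, 2, 3, 4, 5, 1, 3, 4, 2, 3, 0, 2, 1, 3, 4, 5, 6, 5, 4, 3, 2, 1, 3, 4, 5]⟩),
  (81, ⟨none, [5, 4, 3, 1, 2, 3, 4, 5, 6, 7, 4, 3, 2, 0, 0, 2, 3, 4, 7, 6, 5, 4, 3, 2, 1, 3, 4, 5, 6, 0, 2, 3, 4, 5, 1, 3, 4, 2, 3, 0, 2, 1, 3, 4, 5, 6, 7, 6, 5, 4, 3, 2, 1, 3, 4]⟩),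
  (82, ⟨none, [5, 4, 3, 1, 2, 3, 4, 5, 6, 7, 4, 3, 2, 0, 0, 2, 3, 4, 7, 6, 5, 4, 3, 2, 1, 3, 4, 5, 6, 7, 0, 2, 3, 4, 5, 1, 3, 4, 2, 3, 0, 2, 1, 3, 4, 5, 6, 5, 4, 3, 2, 1, 3, 4]⟩),
  (83, ⟨none, [5, 4, 3, 1, 2, 3, 4, 5, 6, 7, 4, 3, 2, 0, 0, 2, 3, 4, 7, 6, 5, 4, 3, 2, 1, 3, 4, 5, 6, 7, 0, 2, 3, 4, 5, 6, 1, 3, 4, 2, 3, 0, 2, 1, 3, 4, 5, 4, 3, 2, 1, 3, 4]⟩),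
  (84, ⟨none, [5, 4, 3, 1, 2, 3, 4, 5, 6, 7, 4, 3, 2, 0, 0, 2, 3, 4, 7, 6, 5, 4, 3, 2, 1, 3, 4, 5, 6, 0, 2, 3, 4, 5, 1, 3, 4, 2, 3, 0, 2, 1, 3, 4, 5, 6, 7, 6, 5, 4, 3, 2, 1, 3]⟩),
  (85, ⟨none, [5, 4, 3, 1, 2, 3, 4, 5, 6, 7, 4, 3, 2, 0, 0, 2, 3, 4, 7, 6, 5, 4, 3, 2, 1, 3, 4, 5, 6, 7, 0, 2, 3, 4, 5, 1, 3, 4, 2, 3, 0, 2, 1, 3, 4, 5, 6, 5, 4, 3, 2, 1, 3]⟩),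
  (86, ⟨none, [5, 4, 3, 1, 2, 3, 4, 5, 6, 7, 4, 3, 2, 0, 0, 2, 3, 4, 7, 6, 5, 4, 3, 2, 1, 3, 4, 5, 6, 7, 0, 2, 3, 4, 5, 6, 1, 3, 4, 2, 3, 0, 2, 1, 3, 4, 5, 4, 3, 2, 1, 3]⟩),
  (87, ⟨none, [5, 4, 3, 1, 2, 3, 4, 5, 6, 7, 4, 3, 2, 0, 0, 2, 3, 4, 7, 6, 5, 4, 3, 2, 1, 3, 4, 5, 6, 7, 0, 2, 3, 4, 5, 6, 1, 3, 4, 5, 2, 3, 0, 2, 1, 3, 4, 3, 2, 1, 3]⟩),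
  (88, ⟨none, [5, 4, 3, 1, 2, 3, 4, 5, 6, 7, 4, 3, 2, 0, 0, 2, 3, 4, 7, 6, 5, 4, 3, 2, 1, 3, 4, 5, 6, 0, 2, 3, 4, 5, 1, 3, 4, 2, 3, 0, 2, 1, 3, 4, 5, 6, 7, 6, 5, 4, 3, 2, 1]⟩),
  (89, ⟨none, [5, 4, 3, 1, 2, 3, 4, 5, 6, 7, 4, 3, 2, 0, 0, 2, 3, 4, 7, 6, 5, 4, 3, 2, 1, 3, 4, 5, 6, 7, 0, 2, 3, 4, 5, 1, 3, 4, 2, 3, 0, 2, 1, 3, 4, 5, 6, 5, 4, 3, 2, 1]⟩),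
  (90, ⟨none, [5, 4, 3, 1, 2, 3, 4, 5, 6, 7, 4, 3, 2, 0, 0, 2, 3, 4, 7, 6, 5, 4, 3, 2, 1, 3, 4, 5, 6, 7, 0, 2, 3, 4, 5, 6, 1, 3, 4, 2, 3, 0, 2, 1, 3, 4, 5, 4, 3, 2, 1]⟩),
  (91, ⟨none, [5, 4, 3, 1, 2, 3, 4, 5, 6, 7, 4, 3, 2, 0, 0, 2, 3, 4, 7, 6, 5, 4, 3, 2, 1, 3, 4, 5, 6, 7, 0, 2, 3, 4, 5, 6, 1, 3, 4, 5, 2, 3, 0, 2, 1, 3, 4, 3, 2, 1]⟩),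
  (92, ⟨none, [5, 4, 3, 1, 2, 3, 4, 5, 6, 7, 4, 3, 2, 0, 0, 2, 3, 4, 7, 6, 5, 4, 3, 2, 1, 3, 4, 5, 6, 7, 0, 2, 3, 4, 5, 6, 1, 3, 4, 5, 2, 3, 4, 0, 2, 1, 3, 2, 1]⟩),
  (105, ⟨none, [5, 4, 3, 1, 2, 3, 4, 5, 6, 7, 4, 3, 2, 0, 0, 2, 3, 1, 7, 6, 5, 4, 3, 2, 1, 3, 4, 5, 6, 0, 2, 3, 4, 5, 1, 3, 4, 2, 3, 0, 2, 1, 3, 4, 5, 6, 7, 6, 5, 4, 3]⟩),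
  (106, ⟨none, [5, 4, 3, 1, 2, 3, 4, 5, 6, 7, 4, 3, 2, 0, 0, 2, 3, 1, 7, 6, 5, 4, 3, 2, 1, 3, 4, 5, 6, 7, 0, 2, 3, 4, 5, 1, 3, 4, 2, 3, 0, 2, 1, 3, 4, 5, 6, 5, 4, 3]⟩),
  (107, ⟨none, [5, 4, 3, 1, 2, 3, 4, 5, 6, 7, 4, 3, 2, 0, 0, 2, 3, 1, 7, 6, 5, 4, 3, 2, 1, 3, 4, 5, 6, 7, 0, 2, 3, 4, 5, 6, 1, 3, 4, 2, 3, 0, 2, 1, 3, 4, 5, 4, 3]⟩),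
  (108, ⟨none, [5, 4, 3, 1, 2, 3, 4, 5, 6, 7, 4, 3, 2, 0, 0, 2, 3, 1, 7, 6, 5, 4, 3, 2, 1, 3, 4, 5, 6, 7, 0, 2, 3, 4, 5, 6, 1, 3, 4, 5, 2, 3, 0, 2, 1, 3, 4, 3]⟩),
  (109, ⟨none, [5, 4, 3, 1, 2, 3, 4, 5, 6, 7, 4, 3, 2, 0, 0, 2, 3, 1, 7, 6, 5, 4, 3, 2, 1, 3, 4, 5, 6, 7, 0, 2, 3, 4, 5, 6, 1, 3, 4, 5, 2, 3, 4, 0, 2, 1, 3]⟩),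
  (110, ⟨none, [5, 4, 3, 1, 2, 3, 4, 5, 6, 7, 4, 3, 2, 0, 0, 2, 3, 1, 7, 6, 5, 4, 3, 2, 1, 3, 4, 5, 6, 0, 2, 3, 4, 5, 1, 3, 4, 2, 3, 0, 2, 1, 3, 4, 5, 6, 7, 6, 5, 4]⟩),
  (111, ⟨none, [5, 4, 3, 1, 2, 3, 4, 5, 6, 7, 4, 3, 2, 0, 0, 2, 3, 1, 7, 6, 5, 4, 3, 2, 1, 3, 4, 5, 6, 7, 0, 2, 3, 4, 5, 1, 3, 4, 2, 3, 0, 2, 1, 3, 4, 5, 6, 5, 4]⟩),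
  (112, ⟨none, [5, 4, 3, 1, 2, 3, 4, 5, 6, 7, 4, 3, 2, 0, 0, 2, 3, 1, 7, 6, 5, 4, 3, 2, 1, 3, 4, 5, 6, 7, 0, 2, 3, 4, 5, 6, 1, 3, 4, 2, 3, 0, 2, 1, 3, 4, 5, 4]⟩),
  (113, ⟨none, [5, 4, 3, 1, 2, 3, 4, 5, 6, 7, 4, 3, 2, 0, 0, 2, 3, 1, 7, 6, 5, 4, 3, 2, 1, 3, 4, 5, 6, 7, 0, 2, 3, 4, 5, 6, 1, 3, 4, 5, 2, 3, 0, 2, 1, 3, 4]⟩),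
  (114, ⟨none, [5, 4, 3, 1, 2, 3, 4, 5, 6, 7, 4, 3, 2, 0, 0, 2, 3, 1, 7, 6, 5, 4, 3, 2, 1, 3, 4, 5, 6, 0, 2, 3, 4, 5, 1, 3, 4, 2, 3, 0, 2, 1, 3, 4, 5, 6, 7, 6, 5]⟩),
  (115, ⟨none, [5, 4, 3, 1, 2, 3, 4, 5, 6, 7, 4, 3, 2, 0, 0, 2, 3, 1, 7, 6, 5, 4, 3, 2, 1, 3, 4, 5, 6, 7, 0, 2, 3, 4, 5, 1, 3, 4, 2, 3, 0, 2, 1, 3, 4, 5, 6, 5]⟩),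
  (116, ⟨none, [5, 4, 3, 1, 2, 3, 4, 5, 6, 7, 4, 3, 2, 0, 0, 2, 3, 1, 7, 6, 5, 4, 3, 2, 1, 3, 4, 5, 6, 7, 0, 2, 3, 4, 5, 6, 1, 3, 4, 2, 3, 0, 2, 1, 3, 4, 5]⟩),
  (117, ⟨none, [5, 4, 3, 1, 2, 3, 4, 5, 6, 7, 4, 3, 2, 0, 0, 2, 3, 1, 7, 6, 5, 4, 3, 2, 1, 3, 4, 5, 6, 0, 2, 3, 4, 5, 1, 3, 4, 2, 3, 0, 2, 1, 3, 4, 5, 6, 7, 6]⟩),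
  (118, ⟨none, [5, 4, 3, 1, 2, 3, 4, 5, 6, 7, 4, 3, 2, 0, 0, 2, 3, 1, 7, 6, 5, 4, 3, 2, 1, 3, 4, 5, 6, 7, 0, 2, 3, 4, 5, 1, 3, 4, 2, 3, 0, 2, 1, 3, 4, 5, 6]⟩),
  (119, ⟨none, [5, 4, 3, 1, 2, 3, 4, 5, 6, 7, 4, 3, 2, 0, 0, 2, 3, 1, 7, 6, 5, 4, 3, 2, 1, 3, 4, 5, 6, 0, 2, 3, 4, 5, 1, 3, 4, 2, 3, 0, 2, 1, 3, 4, 5, 6, 7]⟩),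
  (120, ⟨none, [5, 4, 3, 1, 2, 3, 4, 5, 6, 7, 4, 3, 2, 0, 0, 2, 3, 1, 7, 6, 5, 4, 3, 2, 1, 3, 4, 5, 6, 0, 2, 3, 4, 5, 1, 3, 4, 2, 3, 0, 2, 1, 3, 4, 5, 6]⟩),
  (121, ⟨none, [5, 4, 3, 1, 2, 3, 4, 5, 6, 7, 4, 3, 2, 0, 0, 2, 3, 1, 7, 6, 5, 4, 3, 2, 1, 3, 4, 5, 6, 7, 0, 2, 3, 4, 5, 1, 3, 4, 2, 3, 0, 2, 1, 3, 4, 5]⟩),
  (122, ⟨none, [5, 4, 3, 1, 2, 3, 4, 5, 6, 7, 4, 3, 2, 0, 0, 2, 3, 1, 7, 6, 5, 4, 3, 2, 1, 3, 4, 5, 6, 0, 2, 3, 4, 5, 1, 3, 4, 2, 3, 0, 2, 1, 3, 4, 5]⟩),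
  (123, ⟨none, [5, 4, 3, 1, 2, 3, 4, 5, 6, 7, 4, 3, 2, 0, 0, 2, 3, 1, 7, 6, 5, 4, 3, 2, 1, 3, 4, 5, 6, 7, 0, 2, 3, 4, 5, 6, 1, 3, 4, 2, 3, 0, 2, 1, 3, 4]⟩),
  (124, ⟨none, [5, 4, 3, 1, 2, 3, 4, 5, 6, 7, 4, 3, 2, 0, 0, 2, 3, 1, 7, 6, 5, 4, 3, 2, 1, 3, 4, 5, 6, 7, 0, 2, 3, 4, 5, 1, 3, 4, 2, 3, 0, 2, 1, 3, 4]⟩),
  (125, ⟨none, [5, 4, 3, 1, 2, 3, 4, 5, 6, 7, 4, 3, 2, 0, 0, 2, 3, 1, 7, 6, 5, 4, 3, 2, 1, 3, 4, 5, 6, 0, 2, 3, 4, 5, 1, 3, 4, 2, 3, 0, 2, 1, 3, 4]⟩),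
  (126, ⟨none, [5, 4, 3, 1, 2, 3, 4, 5, 6, 7, 4, 3, 2, 0, 0, 2, 3, 1, 7, 6, 5, 4, 3, 2, 1, 3, 4, 5, 6, 7, 0, 2, 3, 4, 5, 6, 1, 3, 4, 5, 2, 3, 0, 2, 1, 3]⟩),
  (127, ⟨none, [5, 4, 3, 1, 2, 3, 4, 5, 6, 7, 4, 3, 2, 0, 0, 2, 3, 1, 7, 6, 5, 4, 3, 2, 1, 3, 4, 5, 6, 7, 0, 2, 3, 4, 5, 6, 1, 3, 4, 2, 3, 0, 2, 1, 3]⟩),
  (128, ⟨none, [5, 4, 3, 1, 2, 3, 4, 5, 6, 7, 4, 3, 2, 0, 0, 2, 3, 1, 7, 6, 5, 4, 3, 2, 1, 3, 4, 5, 6, 7, 0, 2, 3, 4, 5, 1, 3, 4, 2, 3, 0, 2, 1, 3]⟩),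
  (129, ⟨none, [5, 4, 3, 1, 2, 3, 4, 5, 6, 7, 4, 3, 2, 0, 0, 2, 3, 1, 7, 6, 5, 4, 3, 2, 1, 3, 4, 5, 6, 0, 2, 3, 4, 5, 1, 3, 4, 2, 3, 0, 2, 1, 3]⟩)]

/-- Entries of a representative. -/
def ent2_1 : List (ℕ × Entry) := [
  (130, ⟨none, [5, 4, 3, 1, 2, 3, 4, 5, 6, 7, 4, 3, 2, 0, 0, 2, 3, 1, 7, 6, 5, 4, 3, 2, 1, 3, 4, 5, 6, 7, 0, 2, 3, 4, 5, 6, 1, 3, 4, 5, 2, 3, 4, 0, 2, 1]⟩),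
  (131, ⟨none, [5, 4, 3, 1, 2, 3, 4, 5, 6, 7, 4, 3, 2, 0, 0, 2, 3, 1, 7, 6, 5, 4, 3, 2, 1, 3, 4, 5, 6, 7, 0, 2, 3, 4, 5, 6, 1, 3, 4, 5, 2, 3, 0, 2, 1]⟩),
  (132, ⟨none, [5, 4, 3, 1, 2, 3, 4, 5, 6, 7, 4, 3, 2, 0, 0, 2, 3, 1, 7, 6, 5, 4, 3, 2, 1, 3, 4, 5, 6, 7, 0, 2, 3, 4, 5, 6, 1, 3, 4, 2, 3, 0, 2, 1]⟩),
  (133, ⟨none, [5, 4, 3, 1, 2, 3, 4, 5, 6, 7, 4, 3, 2, 0, 0, 2, 3, 1, 7, 6, 5, 4, 3, 2, 1, 3, 4, 5, 6, 7, 0, 2, 3, 4, 5, 1, 3, 4, 2, 3, 0, 2, 1]⟩),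
  (134, ⟨none, [5, 4, 3, 1, 2, 3, 4, 5, 6, 7, 4, 3, 2, 0, 0, 2, 3, 1, 7, 6, 5, 4, 3, 2, 1, 3, 4, 5, 6, 0, 2, 3, 4, 5, 1, 3, 4, 2, 3, 0, 2, 1]⟩),
  (147, ⟨none, [5, 4, 3, 1, 2, 3, 4, 5, 6, 7, 4, 3, 2, 0, 0, 2, 3, 4, 7, 6, 5, 4, 3, 2, 1, 3, 4, 5, 6, 7, 0, 2, 3, 4, 5, 6, 1, 3, 4, 5, 2, 3, 4, 0]⟩),
  (148, ⟨none, [5, 4, 3, 1, 2, 3, 4, 5, 6, 7, 4, 3, 2, 0, 0, 2, 3, 4, 7, 6, 5, 4, 3, 2, 1, 3, 4, 5, 6, 7, 0, 2, 3, 4, 5, 6, 1, 3, 4, 5, 2, 3, 0]⟩),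
  (149, ⟨none, [5, 4, 3, 1, 2, 3, 4, 5, 6, 7, 4, 3, 2, 0, 0, 2, 3, 4, 7, 6, 5, 4, 3, 2, 1, 3, 4, 5, 6, 7, 0, 2, 3, 4, 5, 6, 1, 3, 4, 2, 3, 0]⟩),
  (150, ⟨none, [5, 4, 3, 1, 2, 3, 4, 5, 6, 7, 4, 3, 2, 0, 0, 2, 3, 4, 7, 6, 5, 4, 3, 2, 1, 3, 4, 5, 6, 7, 0, 2, 3, 4, 5, 1, 3, 4, 2, 3, 0]⟩),
  (151, ⟨none, [5, 4, 3, 1, 2, 3, 4, 5, 6, 7, 4, 3, 2, 0, 0, 2, 3, 4, 7, 6, 5, 4, 3, 2, 1, 3, 4, 5, 6, 0, 2, 3, 4, 5, 1, 3, 4, 2, 3, 0]⟩),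
  (152, ⟨none, [5, 4, 3, 1, 2, 3, 4, 5, 6, 7, 4, 3, 2, 0, 0, 2, 3, 4, 7, 6, 5, 4, 3, 2, 1, 3, 4, 5, 6, 7, 0, 2, 3, 4, 5, 6, 1, 3, 4, 5, 2, 0]⟩),
  (153, ⟨none, [5, 4, 3, 1, 2, 3, 4, 5, 6, 7, 4, 3, 2, 0, 0, 2, 3, 4, 7, 6, 5, 4, 3, 2, 1, 3, 4, 5, 6, 7, 0, 2, 3, 4, 5, 6, 1, 3, 4, 2, 0]⟩),
  (154, ⟨none, [5, 4, 3, 1, 2, 3, 4, 5, 6, 7, 4, 3, 2, 0, 0, 2, 3, 4, 7, 6, 5, 4, 3, 2, 1, 3, 4, 5, 6, 7, 0, 2, 3, 4, 5, 1, 3, 4, 2, 0]⟩),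
  (155, ⟨none, [5, 4, 3, 1, 2, 3, 4, 5, 6, 7, 4, 3, 2, 0, 0, 2, 3, 4, 7, 6, 5, 4, 3, 2, 1, 3, 4, 5, 6, 0, 2, 3, 4, 5, 1, 3, 4, 2, 0]⟩),
  (156, ⟨none, [5, 4, 3, 1, 2, 3, 4, 5, 6, 7, 4, 3, 2, 0, 0, 2, 3, 4, 7, 6, 5, 4, 3, 2, 1, 3, 4, 5, 6, 7, 0, 2, 3, 4, 5, 6, 1, 3, 2, 0]⟩),
  (157, ⟨none, [5, 4, 3, 1, 2, 3, 4, 5, 6, 7, 4, 3, 2, 0, 0, 2, 3, 4, 7, 6, 5, 4, 3, 2, 1, 3, 4, 5, 6, 7, 0, 2, 3, 4, 5, 1, 3, 2, 0]⟩),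
  (158, ⟨none, [5, 4, 3, 1, 2, 3, 4, 5, 6, 7, 4, 3, 2, 0, 0, 2, 3, 4, 7, 6, 5, 4, 3, 2, 1, 3, 4, 5, 6, 0, 2, 3, 4, 5, 1, 3, 2, 0]⟩),
  (159, ⟨none, [5, 4, 3, 1, 2, 3, 4, 5, 6, 7, 4, 3, 2, 0, 0, 2, 3, 4, 7, 6, 5, 4, 3, 2, 1, 3, 4, 5, 6, 7, 0, 2, 3, 4, 1, 3, 2, 0]⟩),
  (160, ⟨none, [5, 4, 3, 1, 2, 3, 4, 5, 6, 7, 4, 3, 2, 0, 0, 2, 3, 4, 7, 6, 5, 4, 3, 2, 1, 3, 4, 5, 6, 0, 2, 3, 4, 1, 3, 2, 0]⟩),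
  (161, ⟨none, [5, 4, 3, 1, 2, 3, 4, 5, 6, 7, 4, 3, 2, 0, 0, 2, 3, 4, 7, 6, 5, 4, 3, 2, 1, 3, 4, 5, 0, 2, 3, 4, 1, 3, 2, 0]⟩)]

/-- All entries of a representative. -/
def ent2 : List (ℕ × Entry) := ent2_0 ++ ent2_1

/-- Entries of a representative. -/
def ent3_0 : List (ℕ × Entry) := [
  (35, ⟨none, [7, 6, 5, 4, 3, 1, 2, 3, 4, 5, 6, 7, 6, 5, 4, 3, 2, 0, 4, 5, 5, 6, 0, 2, 3, 4, 5, 6, 7, 6, 5, 4, 3, 2, 1, 3, 4, 5, 6, 7, 0, 2, 3, 4, 5, 6, 1, 3, 4, 2, 3, 0, 2, 1, 3, 4, 5, 4, 3, 2, 1, 3, 4, 0, 2, 3, 1]⟩),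
  (45, ⟨none, [7, 6, 5, 4, 3, 1, 2, 3, 4, 5, 6, 7, 6, 5, 4, 3, 2, 0, 4, 5, 5, 6, 0, 2, 3, 4, 5, 6, 7, 6, 5, 4, 3, 2, 1, 3, 4, 5, 6, 7, 0, 2, 3, 4, 5, 6, 1, 3, 4, 2, 3, 0, 2, 1, 3, 4, 5, 4, 3, 2, 1, 3, 4, 0, 2, 3]⟩),
  (51, ⟨none, [7, 6, 5, 4, 3, 1, 2, 3, 4, 5, 6, 7, 6, 5, 4, 3, 2, 0, 4, 5, 5, 6, 0, 2, 3, 4, 5, 6, 7, 6, 5, 4, 3, 2, 1, 3, 4, 5, 6, 7, 0, 2, 3, 4, 5, 6, 1, 3, 4, 2, 3, 0, 2, 1, 3, 4, 5, 4, 3, 2, 1, 3, 4, 0, 2]⟩),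
  (64, ⟨none, [7, 6, 5, 4, 3, 1, 2, 3, 4, 5, 6, 7, 6, 5, 4, 3, 2, 0, 4, 5, 5, 4, 0, 2, 3, 4, 5, 6, 7, 6, 5, 4, 3, 2, 1, 3, 4, 5, 6, 7, 0, 2, 3, 4, 5, 6, 1, 3, 4, 2, 3, 0, 2, 1, 3, 4, 5, 4, 3, 2, 1, 3, 0]⟩),
  (68, ⟨none, [7, 6, 5, 4, 3, 1, 2, 3, 4, 5, 6, 7, 6, 5, 4, 3, 2, 0, 4, 5, 5, 4, 0, 2, 3, 4, 5, 6, 7, 6, 5, 4, 3, 2, 1, 3, 4, 5, 6, 7, 0, 2, 3, 4, 5, 6, 1, 3, 4, 2, 3, 0, 2, 1, 3, 4, 5, 4, 3, 2, 1, 0]⟩),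
  (73, ⟨none, [7, 6, 5, 4, 3, 1, 2, 3, 4, 5, 6, 7, 6, 5, 4, 3, 2, 0, 4, 5, 5, 4, 0, 2, 3, 4, 5, 6, 7, 6, 5, 4, 3, 2, 1, 3, 4, 5, 6, 7, 0, 2, 3, 4, 5, 6, 1, 3, 4, 2, 3, 0, 2, 1, 3, 4, 5, 4, 3, 2, 0]⟩),
  (87, ⟨none, [7, 6, 5, 4, 3, 1, 2, 3, 4, 5, 6, 7, 6, 5, 4, 3, 2, 0, 4, 5, 5, 6, 0, 2, 3, 4, 1, 3, 7, 6, 5, 4, 3, 2, 1, 3, 4, 5, 6, 7, 0, 2, 3, 4, 5, 6, 1, 3, 4, 5, 2, 3, 0, 2, 1, 3, 4, 3, 2, 1, 3]⟩),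
  (91, ⟨none, [7, 6, 5, 4, 3, 1, 2, 3, 4, 5, 6, 7, 6, 5, 4, 3, 2, 0, 4, 5, 5, 6, 0, 2, 3, 4, 1, 3, 7, 6, 5, 4, 3, 2, 1, 3, 4, 5, 6, 7, 0, 2, 3, 4, 5, 6, 1, 3, 4, 5, 2, 3, 0, 2, 1, 3, 4, 3, 2, 1]⟩),
  (97, ⟨none, [7, 6, 5, 4, 3, 1, 2, 3, 4, 5, 6, 7, 6, 5, 4, 3, 2, 0, 4, 5, 5, 4, 0, 2, 3, 4, 1, 3, 7, 6, 5, 4, 3, 2, 1, 3, 4, 5, 6, 7, 0, 2, 3, 4, 5, 6, 1, 3, 4, 5, 2, 3, 4, 0, 2, 1, 3, 1]⟩),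
  (98, ⟨none, [7, 6, 5, 4, 3, 1, 2, 3, 4, 5, 6, 7, 6, 5, 4, 3, 2, 0, 4, 5, 5, 4, 0, 2, 3, 4, 1, 3, 7, 6, 5, 4, 3, 2, 1, 3, 4, 5, 6, 7, 0, 2, 3, 4, 5, 6, 1, 3, 4, 5, 2, 3, 4, 0, 2, 3, 1]⟩),
  (102, ⟨none, [7, 6, 5, 4, 3, 1, 2, 3, 4, 5, 6, 7, 6, 5, 4, 3, 2, 0, 4, 5, 5, 6, 0, 2, 3, 4, 1, 3, 7, 6, 5, 4, 3, 2, 1, 3, 4, 5, 6, 7, 0, 2, 3, 4, 5, 6, 1, 3, 4, 5, 2, 3, 0, 2, 1, 3, 4, 3, 2]⟩),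
  (109, ⟨none, [7, 6, 5, 4, 3, 1, 2, 3, 4, 5, 6, 7, 6, 5, 4, 3, 2, 0, 4, 5, 5, 4, 0, 2, 3, 4, 1, 3, 7, 6, 5, 4, 3, 2, 1, 3, 4, 5, 6, 7, 0, 2, 3, 4, 5, 6, 1, 3, 4, 5, 2, 3, 4, 0, 2, 1, 3]⟩),
  (119, ⟨some (119, 228, 222, 218, 79), [5, 4, 3, 1, 2, 3, 4, 5, 6, 7, 4, 3, 2, 0, 0, 2, 3, 4, 7, 6, 5, 4, 3, 2, 1, 3, 4, 5]⟩),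
  (120, ⟨some (120, 228, 222, 218, 80), [5, 4, 3, 1, 2, 3, 4, 5, 6, 7, 4, 3, 2, 0, 0, 2, 3, 4, 7, 6, 5, 4, 3, 2, 1, 3, 4, 5]⟩),
  (130, ⟨none, [7, 6, 5, 4, 3, 1, 2, 3, 4, 5, 6, 7, 6, 5, 4, 3, 2, 0, 4, 5, 5, 4, 0, 2, 3, 4, 1, 3, 7, 6, 5, 4, 3, 2, 1, 3, 4, 5, 6, 7, 0, 2, 3, 4, 5, 6, 1, 3, 4, 5, 2, 3, 4, 0, 2, 1]⟩),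
  (137, ⟨none, [7, 6, 5, 4, 3, 1, 2, 3, 4, 5, 6, 7, 6, 5, 4, 3, 2, 0, 4, 5, 5, 6, 0, 2, 3, 4, 1, 3, 7, 6, 5, 4, 3, 2, 1, 3, 4, 5, 6, 7, 0, 2, 3, 4, 5, 6, 1, 3, 4, 5, 2, 3, 1, 0]⟩),
  (141, ⟨none, [7, 6, 5, 4, 3, 1, 2, 3, 4, 5, 6, 7, 6, 5, 4, 3, 2, 0, 4, 5, 5, 4, 0, 2, 3, 4, 1, 3, 7, 6, 5, 4, 3, 2, 1, 3, 4, 5, 6, 7, 0, 2, 3, 4, 5, 6, 1, 3, 4, 5, 2, 3, 4, 0, 2, 3]⟩),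
  (142, ⟨none, [7, 6, 5, 4, 3, 1, 2, 3, 4, 5, 6, 7, 6, 5, 4, 3, 2, 0, 4, 5, 5, 4, 0, 2, 3, 4, 1, 3, 7, 6, 5, 4, 3, 2, 1, 3, 4, 5, 6, 7, 0, 2, 3, 4, 5, 6, 1, 3, 4, 5, 2, 3, 4, 0, 2]⟩),
  (148, ⟨none, [7, 6, 5, 4, 3, 1, 2, 3, 4, 5, 6, 7, 6, 5, 4, 3, 2, 0, 4, 5, 5, 6, 0, 2, 3, 4, 1, 3, 7, 6, 5, 4, 3, 2, 1, 3, 4, 5, 6, 7, 0, 2, 3, 4, 5, 6, 1, 3, 4, 5, 2, 3, 0]⟩),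
  (152, ⟨none, [7, 6, 5, 4, 3, 1, 2, 3, 4, 5, 6, 7, 6, 5, 4, 3, 2, 0, 4, 5, 5, 6, 0, 2, 3, 4, 1, 3, 7, 6, 5, 4, 3, 2, 1, 3, 4, 5, 6, 7, 0, 2, 3, 4, 5, 6, 1, 3, 4, 5, 2, 0]⟩),
  (166, ⟨none, [7, 6, 5, 4, 3, 1, 2, 3, 4, 5, 6, 7, 6, 5, 4, 3, 2, 0, 4, 5, 5, 4, 0, 2, 3, 4, 5, 6, 7, 6, 5, 4, 3, 2, 1, 3, 4, 5, 6, 7, 0, 2, 3, 4, 5, 6, 1, 3, 4, 2, 3, 1]⟩),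
  (171, ⟨none, [7, 6, 5, 4, 3, 1, 2, 3, 4, 5, 6, 7, 6, 5, 4, 3, 2, 0, 4, 5, 5, 4, 0, 2, 3, 4, 5, 6, 7, 6, 5, 4, 3, 2, 1, 3, 4, 5, 6, 7, 0, 2, 3, 4, 5, 6, 1, 3, 4, 2, 3]⟩),
  (175, ⟨none, [7, 6, 5, 4, 3, 1, 2, 3, 4, 5, 6, 7, 6, 5, 4, 3, 2, 0, 4, 5, 5, 4, 0, 2, 3, 4, 5, 6, 7, 6, 5, 4, 3, 2, 1, 3, 4, 5, 6, 7, 0, 2, 3, 4, 5, 6, 1, 3, 4, 2]⟩),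
  (188, ⟨none, [7, 6, 5, 4, 3, 1, 2, 3, 4, 5, 6, 7, 6, 5, 4, 3, 2, 0, 4, 5, 5, 6, 0, 2, 3, 4, 5, 6, 7, 6, 5, 4, 3, 2, 1, 3, 4, 5, 6, 7, 0, 2, 3, 4, 5, 6, 1, 3]⟩),
  (194, ⟨none, [7, 6, 5, 4, 3, 1, 2, 3, 4, 5, 6, 7, 6, 5, 4, 3, 2, 0, 4, 5, 5, 6, 0, 2, 3, 4, 5, 6, 7, 6, 5, 4, 3, 2, 1, 3, 4, 5, 6, 7, 0, 2, 3, 4, 5, 6, 1]⟩),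
  (204, ⟨none, [7, 6, 5, 4, 3, 1, 2, 3, 4, 5, 6, 7, 6, 5, 4, 3, 2, 0, 4, 5, 5, 6, 0, 2, 3, 4, 5, 6, 7, 6, 5, 4, 3, 2, 1, 3, 4, 5, 6, 7, 0, 2, 3, 4, 5, 6]⟩)]

/-- All entries of a representative. -/
def ent3 : List (ℕ × Entry) := ent3_0

/-- Entries of a representative. -/
def ent4_0 : List (ℕ × Entry) := [
  (71, ⟨some (71, 220, 213, 216, 56), [7, 6, 5, 4, 3, 1, 2, 3, 4, 5, 6, 7, 6, 5, 4, 3, 2, 0, 4, 5, 5, 4, 0, 2, 3, 4, 1, 3, 7, 6, 5, 4, 3, 2, 1, 3, 4, 5, 6, 0]⟩),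
  (100, ⟨some (100, 226, 213, 216, 78), [7, 6, 5, 4, 3, 1, 2, 3, 4, 5, 6, 7, 6, 5, 4, 3, 2, 0, 4, 5, 5, 4, 0, 2, 3, 4, 1, 3, 7, 6, 5, 4, 3, 2, 1, 3, 4, 5, 6, 7]⟩),
  (107, ⟨some (107, 226, 220, 213, 79), [7, 6, 5, 4, 3, 1, 2, 3, 4, 5, 6, 7, 6, 5, 4, 3, 2, 0, 4, 5, 5, 4, 0, 2, 3, 4, 5, 6, 7, 6, 5, 4, 3, 2, 1, 3, 4, 5, 6, 7]⟩),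
  (113, ⟨some (113, 226, 220, 216, 81), [7, 6, 5, 4, 3, 1, 2, 3, 4, 5, 6, 7, 6, 5, 4, 3, 2, 0, 4, 5, 5, 6, 0, 2, 3, 4, 5, 6, 7, 6, 5, 4, 3, 2, 1, 3, 4, 5, 6, 7]⟩),
  (126, ⟨some (126, 226, 220, 216, 84), [7, 6, 5, 4, 3, 1, 2, 3, 4, 5, 6, 7, 6, 5, 4, 3, 2, 0, 4, 5, 5, 6, 0, 2, 3, 4, 5, 6, 7, 6, 5, 4, 3, 2, 1, 3, 4, 5, 6, 7]⟩),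
  (132, ⟨some (132, 226, 220, 213, 88), [7, 6, 5, 4, 3, 1, 2, 3, 4, 5, 6, 7, 6, 5, 4, 3, 2, 0, 4, 5, 5, 4, 0, 2, 3, 4, 5, 6, 7, 6, 5, 4, 3, 2, 1, 3, 4, 5, 6, 7]⟩),
  (139, ⟨some (139, 226, 213, 216, 93), [7, 6, 5, 4, 3, 1, 2, 3, 4, 5, 6, 7, 6, 5, 4, 3, 2, 0, 4, 5, 5, 4, 0, 2, 3, 4, 1, 3, 7, 6, 5, 4, 3, 2, 1, 3, 4, 5, 6, 7]⟩),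
  (168, ⟨some (168, 220, 213, 216, 94), [7, 6, 5, 4, 3, 1, 2, 3, 4, 5, 6, 7, 6, 5, 4, 3, 2, 0, 4, 5, 5, 4, 0, 2, 3, 4, 1, 3, 7, 6, 5, 4, 3, 2, 1, 3, 4, 5, 6, 0]⟩)]

/-- All entries of a representative. -/
def ent4 : List (ℕ × Entry) := ent4_0

/-- The certificate. -/
def cert : List (List ℕ × List (ℕ × Entry)) := [([], ent0), ([239], ent1), ([232, 233], ent2), ([228, 222, 218], ent3), ([226, 220, 213, 216], ent4)]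

end CfsgLib.InvolSL.E8
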