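import Cfsg.Agent.Lib.InvolSL.Roots

/-!
Every involution of the positive unipotent group of a simply laced system in characteristic two is conjugate to a
product of root elements of mutually orthogonal roots.
-/

set_option autoImplicit false
set_option linter.unusedSectionVars false

namespace CfsgLib.InvolSL

namespace Sys

universe u v w

variable {ι : Type u} {n : ℕ} {F : Type v} [Field F] {G : Type w} [Group G] {R : Sys ι n F G}
  {A : Finset ι} {h : ι} [Inhabited ι] [Fintype ι]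

variable (R) in
/-- The product of a list of root elements. -/
def prodX (L : List (ι × F)) : G := (L.map fun p => R.x p.1 p.2).prod

theorem prodX_nil : R.prodX [] = 1 := rfl

theorem prodX_cons (p : ι × F) (L : List (ι × F)) : R.prodX (p :: L) = R.x p.1 p.2 * R.prodX L := rfl

theorem prodX_append (L M : List (ι × F)) : R.prodX (L ++ M) = R.prodX L * R.prodX M := by simp [prodX]

theorem prodX_mem {P : ι → Prop} {L : List (ι × F)} (hL : ∀ p ∈ L, P p.1) : R.prodX L ∈ R.gen P := by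
  refine list_prod_mem fun y hy => ?_
  obtain ⟨p, hp, rfl⟩ := List.mem_map.1 hy
  exact R.x_mem_gen (hL p hp) _

/-- A list of root elements at mutually orthogonal roots. -/
def Orth (R : Sys ι n F G) (L : List (ι × F)) : Prop := L.Pairwise fun p q => R.B p.1 q.1 = 0

theorem orth_commute {L : List (ι × F)} (hL : R.Orth L) :
    (L.map fun p => R.x p.1 p.2).Pairwise Commute := by
  rw [List.pairwise_map]
  exact hL.imp fun e => R.comm _ _ (le_of_eq e.symm) _ _

theorem prodX_perm {L M : List (ι × F)} (hL : R.Orth L) (e : L.Perm M) : R.prodX L = R.prodX M :=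
  (e.map _).prod_eq' (orth_commute hL)

theorem prodX_commute {L : List (ι × F)} {a : ι} (hL : ∀ p ∈ L, 0 ≤ R.B p.1 a) (u : F) :
    Commute (R.prodX L) (R.x a u) :=
  R.gen_commute (P := fun r => 0 ≤ R.B r a) (fun _ e => e) (prodX_mem hL) u

theorem prodX_sq {L : List (ι × F)} (hL : R.Orth L) : R.prodX L * R.prodX L = 1 := by
  induction L with
  | nil => simp [prodX_nil]
  | cons p L ih =>
      obtain ⟨h1, h2⟩ := List.pairwise_cons.1 hL
      have hc : Commute (R.prodX L) (R.x p.1 p.2) :=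
        prodX_commute (fun q hq => by rw [R.B_symm, h1 q hq]) _
      rw [prodX_cons]
      calc R.x p.1 p.2 * R.prodX L * (R.x p.1 p.2 * R.prodX L)
          = R.x p.1 p.2 * (R.prodX L * R.x p.1 p.2) * R.prodX L := by group
        _ = R.x p.1 p.2 * R.x p.1 p.2 * (R.prodX L * R.prodX L) := by rw [hc.eq]; group
        _ = 1 := by rw [ih h2, R.x_mul_self, one_mul]

theorem lay_B {r g : ι} (hr : R.Lev A h r) (hg : R.B g h = 1) : R.B g r = -1 ∨ R.B g r = 0 ∨ R.B g r = 1 := by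
  rcases R.B_cases g r with e | e | e | e | e
  · have := R.B_neg (R.opp g r e) h
    rw [hr.2, hg] at this
    omega
  · exact Or.inl e
  · exact Or.inr (Or.inl e)
  · exact Or.inr (Or.inr e)
  · rw [R.two_eq g r e, hr.2] at hg
    omega

/-- The commutator with a root element projects the coordinates one step along the root. -/
theorem Top.coef_comm (T : R.Top A h) {r : ι} (hr : R.Lev A h r) (t : F) {q : G}
    (hq : q ∈ R.gen (R.Rad A h)) {g : ι} (hg : R.B g h = 1) :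
    (∀ k, R.vec g = R.vec r + R.vec k → R.B g r = 1 →
      R.coef h (R.x r t * q * (R.x r t)⁻¹ * q⁻¹) g = t * R.coef h q k) ∧
    (R.B g r ≠ 1 → R.coef h (R.x r t * q * (R.x r t)⁻¹ * q⁻¹) g = 0) := by
  rw [coef_mul (A := A) (T.lev_conj hr t hq) (inv_mem hq), coef_inv (A := A) hq]
  obtain ⟨c1, c2⟩ := T.coef_conj hr t hq hg
  exact ⟨fun k hk e => by rw [c1 k hk e, add_right_comm, R.add_self_F, zero_add],
    fun e => by rw [c2 e, R.add_self_F]⟩

/-- Removing the coordinates not orthogonal to one of the roots of an involution's Levi part. -/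
theorem Top.clear_one (T : R.Top A h) {r : ι} (hr : R.Lev A h r) {t : F} (ht : t ≠ 0) {L : List (ι × F)}
    (hL : ∀ p ∈ L, R.Lev A h p.1) (hLr : ∀ p ∈ L, R.B p.1 r = 0) (ho : R.Orth L) {q : G}
    (hq : q ∈ R.gen (R.Rad A h)) (h2 : R.x r t * R.prodX L * q * (R.x r t * R.prodX L * q) = 1) :
    ∃ p ∈ R.gen (R.Rad A h), ∃ q' ∈ R.gen (R.Rad A h),
      p * (R.x r t * R.prodX L * q) * p⁻¹ = R.x r t * R.prodX L * q' ∧
      ∀ g, R.B g h = 1 → R.coef h q' g ≠ 0 → R.coef h q g ≠ 0 ∧ R.B g r = 0 := by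
  have ho' : R.Orth ((r, t) :: L) := List.pairwise_cons.2 ⟨fun p hp => by rw [R.B_symm]; exact hLr p hp, ho⟩
  set X' := R.prodX L with hX'
  have hX2 : X' * X' = 1 := prodX_sq ho
  have hXi : X'⁻¹ = X' := inv_eq_of_mul_eq_one_right hX2
  have hX'mem : X' ∈ R.gen (R.Lev A h) := prodX_mem hL
  obtain ⟨n', hn⟩ := R.neg r
  have hn' : R.Lev A h n' := ⟨R.perp_neg hn hr.1, by rw [R.B_neg hn, hr.2, neg_zero]⟩
  set x := R.x r t with hx
  set y := R.x n' t⁻¹
  have hcx : Commute X' x := prodX_commute (fun p hp => (hLr p hp).ge) t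
  have hcy : Commute X' y :=
    prodX_commute (fun p hp => by rw [R.B_symm, R.B_neg hn, R.B_symm, hLr p hp, neg_zero]) _
  set q₁ := X' * q * X'⁻¹ with hq1
  have q1m : q₁ ∈ R.gen (R.Rad A h) := T.lev_normalize hX'mem q hq
  have q2m : x * q₁ * x⁻¹ ∈ R.gen (R.Rad A h) := T.lev_conj hr t q1m
  -- the involution condition
  have hfix : x * q₁ * x⁻¹ = q⁻¹ := by
    rw [eq_inv_iff_mul_eq_one, ← h2, hq1, hXi, hx, R.x_inv, ← hx,
      show x * X' * q * (x * X' * q) = x * (X' * q * (x * X')) * q by group, ← hcx.eq]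
    group
  have fix : ∀ g, R.coef h (x * q₁ * x⁻¹) g = R.coef h q g := fun g => by rw [hfix, coef_inv (A := A) hq]
  set p := y * q₁ * y⁻¹ * q₁⁻¹ with hp
  have pm : p ∈ R.gen (R.Rad A h) := mul_mem (T.lev_conj hn' _ q1m) (inv_mem q1m)
  have hd : X' * p * X'⁻¹ = y * q * y⁻¹ * q⁻¹ := by
    have e : X' * q₁ * X'⁻¹ = q := by
      rw [hq1, hXi, show X' * (X' * q * X') * X' = (X' * X') * q * (X' * X') by group, hX2, one_mul, mul_one]
    rw [hp, show X' * (y * q₁ * y⁻¹ * q₁⁻¹) * X'⁻¹ = (X' * y * X'⁻¹) * (X' * q₁ * X'⁻¹) * (X' * y * X'⁻¹)⁻¹ *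
      (X' * q₁ * X'⁻¹)⁻¹ by group, e, hcy.eq, mul_inv_cancel_right]
  have dm : X' * p * X'⁻¹ ∈ R.gen (R.Rad A h) := T.lev_normalize hX'mem p pm
  refine ⟨p, pm, x * (X' * p * X'⁻¹) * x⁻¹ * q * p⁻¹, mul_mem (mul_mem (T.lev_conj hr t dm) hq) (inv_mem pm), ?_,
    fun g hg hne => ?_⟩
  · rw [hXi, hx, R.x_inv, ← hx]
    have e1 : x * x = 1 := R.x_mul_self r t
    have e3 : x * X' * (x * X') = 1 := by
      rw [hcx.mul_mul_mul_comm, e1, hX2, one_mul]
    rw [show x * X' * (x * (X' * p * X') * x * q * p⁻¹) = x * X' * (x * X') * p * (X' * x) * q * p⁻¹ by group, e3,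
      one_mul, hcx.eq]
    group
  · have m1 : x * (X' * p * X'⁻¹) * x⁻¹ ∈ R.gen (R.Rad A h) := T.lev_conj hr t dm
    rw [coef_mul (A := A) (mul_mem m1 hq) (inv_mem pm), coef_mul (A := A) m1 hq, coef_inv (A := A) pm] at hne
    -- the values of the three summands
    have pz : R.B g r ≠ -1 → R.coef h p g = 0 := fun e =>
      (T.coef_comm hn' t⁻¹ q1m hg).2 (by rw [R.B_symm, R.B_neg hn, R.B_symm]; omega)
    have dz : R.B g r ≠ -1 → R.coef h (X' * p * X'⁻¹) g = 0 := fun e => by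
      rw [hd]; exact (T.coef_comm hn' t⁻¹ hq hg).2 (by rw [R.B_symm, R.B_neg hn, R.B_symm]; omega)
    rcases lay_B hr hg with e | e | e
    · exfalso
      obtain ⟨k, hk⟩ := R.sum g r e
      have hk' : R.vec g = R.vec n' + R.vec k := by rw [hk, hn]; abel
      have hgn : R.B g n' = 1 := by rw [R.B_symm, R.B_neg hn, R.B_symm, e]; norm_num
      have hk1 : R.B k h = 1 := by rw [R.B_add hk, hr.2, hg]; norm_num
      have hkr : R.B k r = 1 := by rw [R.B_add hk, R.B_self, e]; norm_num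
      have hk'' : R.vec k = R.vec r + R.vec g := by rw [hk, add_comm]
      have f1 := fix k
      have f2 := fix g
      rw [(T.coef_conj hr t q1m hk1).1 g hk'' hkr] at f1
      rw [(T.coef_conj hr t q1m hg).2 (by omega)] at f2
      rw [(T.coef_conj hr t dm hg).2 (by omega), hd, (T.coef_comm hn' t⁻¹ hq hg).1 k hk' hgn,
        (T.coef_comm hn' t⁻¹ q1m hg).1 k hk' hgn] at hne
      apply hne
      rw [← f1, ← f2]
      field_simp
      linear_combination (R.coef h q₁ k + t * R.coef h q₁ g) * R.two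
    · rw [(T.coef_conj hr t dm hg).2 (by omega), dz (by omega), pz (by omega), zero_add, add_zero] at hne
      exact ⟨hne, e⟩
    · exfalso
      obtain ⟨k, hk⟩ := R.exists_sub e
      have hk' : R.vec g = R.vec r + R.vec k := by rw [hk]; abel
      have hk1 : R.B k h = 1 := by rw [R.B_sub hk, hr.2, hg]; norm_num
      have hkn : R.B k n' = 1 := by
        rw [R.B_symm, R.B_neg hn, R.B_symm, R.B_sub hk, R.B_self, e]; norm_num
      have hk'' : R.vec k = R.vec n' + R.vec g := by rw [hk, hn]; abel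
      rw [(T.coef_conj hr t dm hg).1 k hk' e, dz (by omega), hd,
        (T.coef_comm hn' t⁻¹ hq hk1).1 g hk'' hkn, pz (by omega)] at hne
      apply hne
      field_simp
      linear_combination R.coef h q g * R.two

/-- Removing all coordinates not orthogonal to the roots of an involution's Levi part. -/
theorem Top.clear_all (T : R.Top A h) {L : List (ι × F)} (hL : ∀ p ∈ L, R.Lev A h p.1)
    (ht : ∀ p ∈ L, p.2 ≠ 0) (ho : R.Orth L) :
    ∀ M : List (ι × F), (∀ p ∈ M, p ∈ L) → ∀ {q : G}, q ∈ R.gen (R.Rad A h) →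
      R.prodX L * q * (R.prodX L * q) = 1 →
      ∃ p ∈ R.gen (R.Rad A h), ∃ q' ∈ R.gen (R.Rad A h), p * (R.prodX L * q) * p⁻¹ = R.prodX L * q' ∧
        ∀ g, R.B g h = 1 → R.coef h q' g ≠ 0 → ∀ a ∈ M, R.B g a.1 = 0 := by
  intro M
  induction M with
  | nil => exact fun _ {q} hq _ => ⟨1, one_mem _, q, hq, by simp, by simp⟩
  | cons m M ih =>
      intro hsub q hq h2
      obtain ⟨p₁, hp₁, q₁, hq₁, e₁, s₁⟩ := ih (fun p hp => hsub p (List.mem_cons_of_mem _ hp)) hq h2
      have h2' : R.prodX L * q₁ * (R.prodX L * q₁) = 1 := by rw [← e₁, conj_mul, h2, mul_one, mul_inv_cancel]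
      classical
      have hm : m ∈ L := hsub m List.mem_cons_self
      have hperm := List.perm_cons_erase hm
      have hX : R.prodX L = R.x m.1 m.2 * R.prodX (L.erase m) := by rw [prodX_perm ho hperm, prodX_cons]
      have ho' : R.Orth (m :: L.erase m) :=
        List.Pairwise.perm ho hperm (fun {a b} e => (R.B_symm b.1 a.1).trans e)
      obtain ⟨h1, h3⟩ := List.pairwise_cons.1 ho'
      rw [hX] at h2'
      obtain ⟨p₂, hp₂, q₂, hq₂, e₂, s₂⟩ := T.clear_one (hL m hm) (ht m hm)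
        (fun p hp => hL p (List.mem_of_mem_erase hp)) (fun p hp => by rw [R.B_symm]; exact h1 p hp) h3 hq₁ h2'
      refine ⟨p₂ * p₁, mul_mem hp₂ hp₁, q₂, hq₂, ?_, fun g hg hne a ha => ?_⟩
      · rw [show p₂ * p₁ * (R.prodX L * q) * (p₂ * p₁)⁻¹ = p₂ * (p₁ * (R.prodX L * q) * p₁⁻¹) * p₂⁻¹ by group, e₁,
          hX, e₂]
      · obtain ⟨f1, f2⟩ := s₂ g hg hne
        rcases List.mem_cons.1 ha with rfl | ha
        · exact f2
        · exact s₁ g hg f1 a ha

variable (R) in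
/-- The conjugacy statement for the roots orthogonal to a set. -/
def Good (A : Finset ι) : Prop :=
  ∀ u ∈ R.gen (fun r => R.pos r ∧ R.Perp A r), u * u = 1 →
    ∃ g ∈ R.gen (R.Perp A), ∃ L : List (ι × F),
      (∀ p ∈ L, R.Perp A p.1 ∧ p.2 ≠ 0) ∧ R.Orth L ∧ g * u * g⁻¹ = R.prodX L

/-- Clearing the coordinates at the roots pairing positively with a given layer root. -/
theorem Top.clear_layer (T : R.Top A h) {g₀ : ι} (hg₀ : R.Lay A h g₀) :
    ∀ M : List ι, (∀ g ∈ M, R.Lay A h g ∧ R.B g g₀ = 1) → ∀ {q : G}, q ∈ R.gen (R.Rad A h) →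
      R.coef h q g₀ ≠ 0 →
      ∃ c ∈ R.gen (R.Perp A), c * q * c⁻¹ ∈ R.gen (R.Rad A h) ∧
        R.coef h (c * q * c⁻¹) g₀ = R.coef h q g₀ ∧ ∀ g ∈ M, R.coef h (c * q * c⁻¹) g = 0 := by
  intro M
  induction M with
  | nil => exact fun _ {q} hq _ => ⟨1, one_mem _, by simpa using hq, by simp, by simp⟩
  | cons m M ih =>
      intro hM q hq hne
      obtain ⟨c, hc, hcq, hc₀, hcM⟩ := ih (fun g hg => hM g (List.mem_cons_of_mem _ hg)) hq hne
      obtain ⟨hm, hm1⟩ := hM m List.mem_cons_self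
      obtain ⟨b, hb⟩ := R.exists_sub hm1
      have hbl : R.Lev A h b := ⟨R.perp_sub hb hm.1 hg₀.1, by rw [R.B_sub hb, hm.2, hg₀.2, sub_self]⟩
      have hbg : R.B b g₀ = -1 := by rw [R.B_sub hb, hm1, R.B_self]; norm_num
      set q' := c * q * c⁻¹
      set s := R.coef h q' m / R.coef h q g₀
      have hmb : R.B m b = 1 := by rw [R.B_symm, R.B_sub hb, R.B_self, R.B_symm g₀ m, hm1]; norm_num
      have hv : R.vec m = R.vec b + R.vec g₀ := by rw [hb]; abel
      refine ⟨R.x b s * c, mul_mem (R.x_mem_gen hbl.1 _) hc, ?_, ?_, fun g hg => ?_⟩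
      all_goals rw [show R.x b s * c * q * (R.x b s * c)⁻¹ = R.x b s * q' * (R.x b s)⁻¹ by
        simp only [q']; group]
      · exact T.lev_conj hbl s hcq
      · rw [(T.coef_conj hbl s hcq hg₀.2).2 (by rw [R.B_symm, hbg]; norm_num), hc₀]
      · by_cases e : g = m
        · subst e
          rw [(T.coef_conj hbl s hcq hm.2).1 g₀ hv hmb, hc₀, div_mul_cancel₀ _ hne, R.add_self_F]
        · have hgM : g ∈ M := (List.mem_cons.1 hg).resolve_left e
          obtain ⟨hgl, hg1⟩ := hM g hg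
          rw [(T.coef_conj hbl s hcq hgl.2).2, hcM g hgM]
          intro eb
          obtain ⟨k, hk⟩ := R.exists_sub eb
          have hk2 : R.B k g₀ = 2 := by rw [R.B_sub hk, hg1, hbg]; norm_num
          apply e
          apply R.inj
          rw [hv, ← R.two_eq k g₀ hk2, hk]
          abel

theorem layer_commute (T : R.Top A h) {g₀ : ι} (hg₀ : R.B g₀ h = 1) {y : G}
    (hy : y ∈ R.gen fun g => R.Lay A h g ∧ R.B g g₀ = 0) :
    y * y = 1 ∧ ∀ z ∈ R.gen (fun g => R.Lay A h g ∧ R.B g g₀ = 0), Commute z y := by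
  have hpair : ∀ r s, (R.Lay A h r ∧ R.B r g₀ = 0) → (R.Lay A h s ∧ R.B s g₀ = 0) → 0 ≤ R.B r s := by
    intro r s ⟨hr, hr0⟩ ⟨hs, hs0⟩
    rcases R.B_cases r s with e | e | e | e | e
    · have := R.B_neg (R.opp r s e) h; rw [hr.2, hs.2] at this; omega
    · obtain ⟨k, hk⟩ := R.sum r s e
      have hkh : R.B k h = 2 := by rw [R.B_add hk, hr.2, hs.2]; norm_num
      have := R.B_add hk g₀
      rw [R.two_eq k h hkh, R.B_symm, hg₀, hr0, hs0] at this
      omega
    all_goals omega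
  have hcomm : ∀ {y}, y ∈ R.gen (fun g => R.Lay A h g ∧ R.B g g₀ = 0) →
      ∀ z ∈ R.gen (fun g => R.Lay A h g ∧ R.B g g₀ = 0), Commute z y := by
    intro y hy z hz
    induction hy using Subgroup.closure_induction with
    | mem a ha => obtain ⟨s, u, hs, rfl⟩ := ha; exact R.gen_commute (fun r hr => hpair r s hr hs) hz u
    | one => exact Commute.one_right _
    | mul a b _ _ ha hb => exact ha.mul_right hb
    | inv a _ ha => exact ha.inv_right
  refine ⟨?_, hcomm hy⟩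
  induction hy using Subgroup.closure_induction with
  | mem a ha => obtain ⟨r, t, -, rfl⟩ := ha; exact R.x_mul_self r t
  | one => rw [one_mul]
  | mul a b ha hb iha ihb => rw [(hcomm ha b hb).mul_mul_mul_comm, iha, ihb, one_mul]
  | inv a _ iha => rw [← mul_inv_rev, iha, inv_one]

/-- The case of an involution inside the unipotent radical. -/
theorem Top.rad_case [DecidableEq ι] (T : R.Top A h)
    (IH : ∀ g₀, R.Lay A h g₀ → R.Good (insert g₀ A)) {q : G} (hq : q ∈ R.gen (R.Rad A h)) (h2 : q * q = 1) :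
    ∃ g ∈ R.gen (R.Perp A), ∃ L : List (ι × F),
      (∀ p ∈ L, R.Perp A p.1 ∧ p.2 ≠ 0) ∧ R.Orth L ∧ g * q * g⁻¹ = R.prodX L := by
  by_cases hz : ∀ g, R.Lay A h g → R.coef h q g = 0
  · obtain ⟨y, hy, z, rfl⟩ := exists_form (P := fun _ => False) hq fun g hg hne => hne (hz g hg)
    have : y = 1 := by
      have := R.gen_le (P := fun g => R.Lay A h g ∧ False) (H := ⊥) (fun r t hr => hr.2.elim) hy
      exact Subgroup.mem_bot.1 this
    subst this
    by_cases e : z = 0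
    · exact ⟨1, one_mem _, [], by simp, List.Pairwise.nil, by simp [e, R.x_zero, prodX_nil]⟩
    · exact ⟨1, one_mem _, [(h, z)], by simp [T.1, e], List.pairwise_singleton _ _,
        by simp [prodX_cons, prodX_nil]⟩
  push Not at hz
  obtain ⟨g₀, hg₀, hne⟩ := hz
  classical
  obtain ⟨c, hc, hcq, hc₀, hcM⟩ := T.clear_layer hg₀ (Finset.univ.filter fun g => R.Lay A h g ∧ R.B g g₀ = 1).toList
    (fun g hg => by simpa using hg) hq hne
  set q₁ := c * q * c⁻¹
  set α := R.coef h q g₀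
  set g' := R.co h g₀ with hg'
  have hg'l : R.Lay A h g' := co_lay T.1 hg₀
  set b := R.coef h q₁ g'
  set e₀ := R.x g₀ α with he₀
  set e' := R.x g' b with he'
  have m0 : e₀ ∈ R.gen (R.Rad A h) := R.x_mem_gen (Or.inr hg₀) _
  have m' : e' ∈ R.gen (R.Rad A h) := R.x_mem_gen (Or.inr hg'l) _
  have hgB : R.B g' g₀ = -1 := by rw [hg', co_B hg₀.2, R.B_symm h g₀, hg₀.2, R.B_self]; norm_num
  obtain ⟨y, hy, z, hyz⟩ := exists_form (P := fun g => R.B g g₀ = 0) (mul_mem (mul_mem hcq m0) m') fun g hg hne' => by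
    rw [coef_mul (A := A) (mul_mem hcq m0) m', coef_mul (A := A) hcq m0, coef_x hg₀.2, coef_x hg'l.2] at hne'
    rcases R.B_cases g g₀ with e | e | e | e | e
    · have := R.B_neg (R.opp g g₀ e) h; rw [hg.2, hg₀.2] at this; omega
    · exfalso
      obtain ⟨k, hk⟩ := R.sum g g₀ e
      have hkh : R.B k h = 2 := by rw [R.B_add hk, hg.2, hg₀.2]; norm_num
      have hgg : g = g' := R.inj (by rw [hg', vec_co hg₀.2, ← R.two_eq k h hkh, hk]; abel)
      subst hgg
      have ne : g₀ ≠ g' := by intro e2; rw [← e2, R.B_self] at e; omega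
      rw [if_neg ne, if_pos rfl, add_zero] at hne'
      exact hne' (R.add_self_F _)
    · exact e
    · exfalso
      have hgM := hcM g (by simp [hg, e])
      have ne : g₀ ≠ g := by intro e2; rw [← e2, R.B_self] at e; omega
      have ne' : g' ≠ g := by intro e2; rw [e2] at hgB; omega
      rw [if_neg ne, if_neg ne', hgM] at hne'
      simp at hne'
    · exfalso
      obtain rfl := R.two_eq g g₀ e
      have ne' : g' ≠ g := by intro e2; rw [e2] at hgB; omega
      rw [if_pos rfl, if_neg ne', add_zero, hc₀] at hne'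
      exact hne' (R.add_self_F _)
  have hc0 : Commute y e₀ := R.gen_commute (fun r hr => hr.2.ge) hy _
  have hc' : ∀ u, Commute y (R.x g' u) := fun u => R.gen_commute (fun r hr => by
    rw [hg', B_co hg₀.2 hr.1.2, hr.2]; norm_num) hy u
  have hch : ∀ {w}, w ∈ R.gen (R.Rad A h) → ∀ u, Commute w (R.x h u) := fun hw u => rad_commute (A := A) hw u
  have hyR : y ∈ R.gen (R.Rad A h) := R.gen_mono (fun r hr => Or.inr hr.1) hy
  have hq₁ : q₁ = y * R.x h z * e' * e₀ := by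
    rw [← hyz, mul_assoc (q₁ * e₀) e' e', R.x_mul_self, mul_one, mul_assoc, R.x_mul_self, mul_one]
  have h21 : q₁ * q₁ = 1 := by rw [conj_mul, h2, mul_one, mul_inv_cancel]
  have hy2 := (layer_commute T hg₀.2 hy).1
  have hterm : ∀ u v, R.x g₀ v * R.x g' u = R.x g' u * R.x g₀ v * R.x h (u * v) := fun u v =>
    R.term g' g₀ h (show R.B g' g₀ = -1 by rw [hg', co_B hg₀.2, R.B_symm h g₀, hg₀.2, R.B_self]; norm_num)
      (by rw [hg', vec_co hg₀.2]; abel) u v
  have hb : b = 0 := by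
    have hP : e' * e₀ * (e' * e₀) = R.x h (b * α) := by
      calc e' * e₀ * (e' * e₀) = e' * (e₀ * e') * e₀ := by group
        _ = e' * e' * e₀ * (R.x h (b * α) * e₀) := by rw [he₀, he', hterm b α]; group
        _ = R.x h (b * α) := by
            rw [R.x_mul_self, one_mul, ← (hch m0 _).eq, ← mul_assoc, R.x_mul_self, one_mul]
    have hP' : Commute (y * R.x h z) (e' * e₀) :=
      Commute.mul_left ((hc' b).mul_right hc0) (hch (mul_mem m' m0) z).symm
    have hyzsq : y * R.x h z * (y * R.x h z) = 1 := by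
      rw [(hch hyR z).symm.mul_mul_mul_comm, hy2, R.x_mul_self, one_mul]
    rw [hq₁, mul_assoc (y * R.x h z) e' e₀, hP'.symm.mul_mul_mul_comm, hyzsq, one_mul, hP] at h21
    exact (mul_eq_zero.1 (R.inj_x h _ h21)).resolve_right hne
  have hconj : R.x g' (z / α) * q₁ * (R.x g' (z / α))⁻¹ = y * e₀ := by
    rw [hq₁, show e' = 1 by rw [he', hb, R.x_zero], mul_one, R.x_inv]
    calc R.x g' (z / α) * (y * R.x h z * e₀) * R.x g' (z / α)
        = (R.x g' (z / α) * y) * R.x h z * (e₀ * R.x g' (z / α)) := by group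
      _ = y * (R.x g' (z / α) * R.x h z * R.x g' (z / α)) * e₀ * R.x h (z / α * α) := by
          rw [← (hc' _).eq, he₀, hterm]; group
      _ = y * R.x h z * (e₀ * R.x h z) := by
          rw [(hch (R.x_mem_gen (Or.inr hg'l) _) z).eq, mul_assoc (R.x h z), R.x_mul_self, mul_one,
            div_mul_cancel₀ _ hne, mul_assoc]
      _ = y * e₀ := by rw [(hch m0 z).eq, ← mul_assoc, mul_assoc y, R.x_mul_self, mul_one]
  obtain ⟨g, hg, L, hL, ho, hgy⟩ := IH g₀ hg₀ y (R.gen_mono (fun r hr => ⟨T.one_pos hr.1.1 hr.1.2,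
    R.perp_insert.2 ⟨hr.2, hr.1.1⟩⟩) hy) hy2
  have hgc : Commute g e₀ := R.gen_commute (fun r hr => (R.perp_insert.1 hr).1.ge) hg _
  refine ⟨g * R.x g' (z / α) * c, mul_mem (mul_mem (R.gen_mono (fun r hr => (R.perp_insert.1 hr).2) hg)
    (R.x_mem_gen hg'l.1 _)) hc, L ++ [(g₀, α)], ?_, ?_, ?_⟩
  · intro p hp
    rcases List.mem_append.1 hp with hp | hp
    · exact ⟨(R.perp_insert.1 (hL p hp).1).2, (hL p hp).2⟩
    · obtain rfl := List.mem_singleton.1 hp
      exact ⟨hg₀.1, hne⟩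
  · refine List.pairwise_append.2 ⟨ho, List.pairwise_singleton _ _, fun p hp p' hp' => ?_⟩
    obtain rfl := List.mem_singleton.1 hp'
    exact (R.perp_insert.1 (hL p hp).1).1
  · rw [show g * R.x g' (z / α) * c * q * (g * R.x g' (z / α) * c)⁻¹ =
      g * (R.x g' (z / α) * q₁ * (R.x g' (z / α))⁻¹) * g⁻¹ by simp only [q₁]; group, hconj, ← conj_mul, hgy,
      hgc.eq, mul_inv_cancel_right, prodX_append, prodX_cons, prodX_nil, mul_one]

/-- Every involution of the positive unipotent group is conjugate to a product over orthogonal roots. -/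
theorem good (A : Finset ι) : R.Good A := by
  classical
  induction hn : (Finset.univ.filter (R.Perp A)).card using Nat.strong_induction_on generalizing A with
  | _ N ih =>
    have hlt : ∀ (B : Finset ι) (r : ι), A ⊆ B → R.Perp A r → ¬R.Perp B r → R.Good B := by
      intro B r hsub hr hr'
      refine ih _ ?_ B rfl
      rw [← hn]
      refine Finset.card_lt_card (Finset.ssubset_iff_of_subset ?_ |>.2 ⟨r, ?_, ?_⟩)
      · intro x hx
        simp only [Finset.mem_filter, Finset.mem_univ, true_and] at hx ⊢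
        exact fun a ha => hx a (hsub ha)
      · simpa using hr
      · simpa using hr'
    intro u hu h2
    by_cases hA : ∃ r, R.Perp A r
    swap
    · have hu1 : u = 1 := Subgroup.mem_bot.1
        (R.gen_le (H := ⊥) (fun r t hr => (hA ⟨r, hr.2⟩).elim) hu)
      exact ⟨1, one_mem _, [], by simp, List.Pairwise.nil, by simp [hu1, prodX_nil]⟩
    obtain ⟨h, T⟩ := R.exists_top hA
    obtain ⟨l, hl, q, hq, rfl⟩ := T.decomp hu
    have hl' : l ∈ R.gen (R.Lev A h) := R.gen_mono (fun r hr => hr.2) hl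
    have hll : l * l = 1 := by
      refine R.inter h _ (R.gen_mono (fun r hr => hr.2) (mul_mem hl' hl')) ?_
      have hc := T.lev_normalize hl' q hq
      have e : l * l = (l * q * l⁻¹)⁻¹ * q⁻¹ := by
        have h' : l * q * l⁻¹ * (l * l) * q = 1 := by rw [← h2]; group
        calc l * l = (l * q * l⁻¹)⁻¹ * (l * q * l⁻¹ * (l * l) * q) * q⁻¹ := by group
          _ = (l * q * l⁻¹)⁻¹ * q⁻¹ := by rw [h', mul_one]
      rw [e]
      exact R.gen_mono (fun r hr => rad_B hr) (mul_mem (inv_mem hc) (inv_mem hq))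
    obtain ⟨g, hg, L, hL, ho, hgl⟩ := hlt (insert h A) h (Finset.subset_insert _ _) T.1
      (fun e => by have := e h (Finset.mem_insert_self _ _); rw [R.B_self] at this; omega) l
      (R.gen_mono (fun r hr => ⟨hr.1, R.perp_insert.2 ⟨hr.2.2, hr.2.1⟩⟩) hl) hll
    have hg' : g ∈ R.gen (R.Lev A h) :=
      R.gen_mono (fun r hr => ⟨(R.perp_insert.1 hr).2, (R.perp_insert.1 hr).1⟩) hg
    have hgA : g ∈ R.gen (R.Perp A) := R.gen_mono (fun r hr => hr.1) hg'
    have hq1 := T.lev_normalize hg' q hq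
    have hw : g * (l * q) * g⁻¹ = R.prodX L * (g * q * g⁻¹) := by rw [← conj_mul, hgl]
    have h2' : R.prodX L * (g * q * g⁻¹) * (R.prodX L * (g * q * g⁻¹)) = 1 := by
      rw [← hw, conj_mul, h2, mul_one, mul_inv_cancel]
    by_cases hLn : L = []
    · subst hLn
      rw [prodX_nil, one_mul] at hw h2'
      obtain ⟨g₂, hg₂, M, hM, hoM, hgM⟩ := T.rad_case (fun g₀ hg₀ => hlt (insert g₀ A) g₀ (Finset.subset_insert _ _)
        hg₀.1 (fun e => by have := e g₀ (Finset.mem_insert_self _ _); rw [R.B_self] at this; omega)) hq1 h2'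
      refine ⟨g₂ * g, mul_mem hg₂ hgA, M, hM, hoM, ?_⟩
      rw [show g₂ * g * (l * q) * (g₂ * g)⁻¹ = g₂ * (g * (l * q) * g⁻¹) * g₂⁻¹ by group, hw, hgM]
    have hLlev : ∀ p ∈ L, R.Lev A h p.1 := fun p hp =>
      ⟨(R.perp_insert.1 (hL p hp).1).2, (R.perp_insert.1 (hL p hp).1).1⟩
    obtain ⟨p, hp, q', hq', hpe, hsupp⟩ := T.clear_all hLlev (fun p hp => (hL p hp).2) ho L (fun _ e => e) hq1 h2'
    set S := A ∪ (L.map Prod.fst).toFinset
    have hS : ∀ r, R.Perp S r ↔ R.Perp A r ∧ ∀ a ∈ L, R.B r a.1 = 0 := by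
      intro r
      simp only [Perp, S, Finset.mem_union, List.mem_toFinset, List.mem_map]
      exact ⟨fun e => ⟨fun a ha => e a (Or.inl ha), fun a ha => e a.1 (Or.inr ⟨a, ha, rfl⟩)⟩,
        fun e a ha => ha.elim (e.1 a) fun ⟨b, hb, eb⟩ => eb ▸ e.2 b hb⟩
    obtain ⟨y, hy, z, rfl⟩ := exists_form (P := fun g => ∀ a ∈ L, R.B g a.1 = 0) hq' fun g hg hne => hsupp g hg.2 hne
    have hhS : R.Perp S h := (hS h).2 ⟨T.1, fun a ha => by rw [R.B_symm]; exact (hLlev a ha).2⟩
    have hq'S : y * R.x h z ∈ R.gen (fun r => R.pos r ∧ R.Perp S r) := mul_mem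
      (R.gen_mono (fun r hr => ⟨T.one_pos hr.1.1 hr.1.2, (hS r).2 ⟨hr.1.1, hr.2⟩⟩) hy)
      (R.x_mem_gen (P := fun r => R.pos r ∧ R.Perp S r) ⟨T.2.1, hhS⟩ z)
    have hXc : ∀ {w}, w ∈ R.gen (R.Perp S) → Commute w (R.prodX L) := by
      intro w hw
      refine Commute.list_prod_right _ _ fun y hy => ?_
      obtain ⟨a, ha, rfl⟩ := List.mem_map.1 hy
      exact R.gen_commute (fun r hr => (((hS r).1 hr).2 a ha).ge) hw _
    have hq'2 : y * R.x h z * (y * R.x h z) = 1 := by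
      have hc := hXc (R.gen_mono (fun r hr => hr.2) hq'S)
      have : R.prodX L * (y * R.x h z) * (R.prodX L * (y * R.x h z)) = 1 := by
        rw [← hpe, conj_mul, h2', mul_one, mul_inv_cancel]
      rwa [hc.mul_mul_mul_comm, prodX_sq ho, one_mul] at this
    obtain ⟨a, haL⟩ := List.exists_mem_of_ne_nil L hLn
    obtain ⟨g₂, hg₂, M, hM, hoM, hgM⟩ := hlt S a.1 Finset.subset_union_left (hLlev a haL).1
      (fun e => by have := ((hS a.1).1 e).2 a haL; rw [R.B_self] at this; omega) _ hq'S hq'2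
    refine ⟨g₂ * p * g, mul_mem (mul_mem (R.gen_mono (fun r hr => ((hS r).1 hr).1) hg₂)
      (R.gen_mono (fun r hr => T.rad_perp hr) hp)) hgA, L ++ M, ?_, ?_, ?_⟩
    · intro b hb
      rcases List.mem_append.1 hb with hb | hb
      · exact ⟨(hLlev b hb).1, (hL b hb).2⟩
      · exact ⟨((hS b.1).1 (hM b hb).1).1, (hM b hb).2⟩
    · exact List.pairwise_append.2 ⟨ho, hoM, fun b hb c hc => by
        rw [R.B_symm]; exact ((hS c.1).1 (hM c hc).1).2 b hb⟩
    · rw [show g₂ * p * g * (l * q) * (g₂ * p * g)⁻¹ = g₂ * (p * (g * (l * q) * g⁻¹) * p⁻¹) * g₂⁻¹ by group, hw, hpe,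
        ← conj_mul, hgM, (hXc hg₂).eq, mul_inv_cancel_right, prodX_append]

/-- Every involution of the positive unipotent group is conjugate to a product over orthogonal roots. -/
theorem exists_conj {u : G} (hu : u ∈ R.gen R.pos) (h2 : u * u = 1) :
    ∃ g ∈ R.gen (fun _ => True), ∃ L : List (ι × F),
      (∀ p ∈ L, p.2 ≠ 0) ∧ R.Orth L ∧ g * u * g⁻¹ = R.prodX L := by
  obtain ⟨g, hg, L, hL, ho, e⟩ := good (R := R) ∅ u (R.gen_mono (fun r hr => ⟨hr, by simp [Perp]⟩) hu) h2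
  exact ⟨g, R.gen_mono (fun _ _ => trivial) hg, L, fun p hp => (hL p hp).2, ho, e⟩

/-- A quadruple of orthogonal roots in a subsystem of type `D₄` gives the same class as three of them. -/
theorem quadF {a b d k p : ι} (hab : R.B a b = 0) (had : R.B a d = 0) (hak : R.B a k = 0) (hbd : R.B b d = 0)
    (hbk : R.B b k = 0) (hdk : R.B d k = 0)
    (hp : R.vec p + R.vec p = R.vec a + R.vec b - R.vec d - R.vec k) :
    ∃ g ∈ Subgroup.closure {g | ∃ r, (∀ z, R.B z a = 0 → R.B z b = 0 → R.B z d = 0 → R.B z k = 0 → R.B r z = 0) ∧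
        (∀ f : (Fin n → ℤ) →+ ℤ, f (R.vec a) = 0 → f (R.vec b) = 0 → f (R.vec d) = 0 → f (R.vec k) = 0 →
          f (R.vec r) = 0) ∧ g = R.x r 1},
      g * (R.x a 1 * R.x b 1 * R.x d 1 * R.x k 1) * g⁻¹ = R.x b 1 * R.x d 1 * R.x k 1 := by
  -- the pairings of `p`
  have hp' : ∀ z, 2 * R.B p z = R.B a z + R.B b z - R.B d z - R.B k z := fun z => by
    have := congrArg (fun v => R.bil v (R.vec z)) hp
    simp only [map_add, map_sub, AddMonoidHom.add_apply, AddMonoidHom.sub_apply] at this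
    simp only [B]
    omega
  have hba : R.B b a = 0 := R.B_symm a b ▸ hab
  have hda : R.B d a = 0 := R.B_symm a d ▸ had
  have hka : R.B k a = 0 := R.B_symm a k ▸ hak
  have hdb : R.B d b = 0 := R.B_symm b d ▸ hbd
  have hkb : R.B k b = 0 := R.B_symm b k ▸ hbk
  have hkd : R.B k d = 0 := R.B_symm d k ▸ hdk
  have sa := R.B_self a
  have sb := R.B_self b
  have sd := R.B_self d
  have sk := R.B_self k
  have pa : R.B p a = 1 := by have := hp' a; omega
  have pb : R.B p b = 1 := by have := hp' b; omega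
  have pd : R.B p d = -1 := by have := hp' d; omega
  have pk : R.B p k = -1 := by have := hp' k; omega
  -- the roots of the four conjugating elements
  obtain ⟨E, hE⟩ := R.sum p d pd
  obtain ⟨E', hE'⟩ := R.sum p k pk
  have bA : ∀ z, R.B E z = R.B p z + R.B d z := fun z => R.B_add hE z
  have bA' : ∀ z, R.B E' z = R.B p z + R.B k z := fun z => R.B_add hE' z
  obtain ⟨m, hm⟩ := R.exists_sub (r := E) (s := b) (by rw [bA, pb, hdb]; norm_num)
  obtain ⟨m', hm'⟩ := R.exists_sub (r := E') (s := b) (by rw [bA', pb, hkb]; norm_num)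
  have bm : ∀ z, R.B m z = R.B E z - R.B b z := fun z => R.B_sub hm z
  have bm' : ∀ z, R.B m' z = R.B E' z - R.B b z := fun z => R.B_sub hm' z
  have p4 := hp' p
  rw [R.B_self, R.B_symm a p, R.B_symm b p, R.B_symm d p, R.B_symm k p, pa, pb, pd, pk] at p4
  obtain ⟨Gv, hG⟩ := R.sum E k (show R.B E k = -1 by rw [bA, pk, hdk]; norm_num)
  obtain ⟨K, hK⟩ := R.sum m k (show R.B m k = -1 by rw [bm, bA, pk, hdk, hbk]; norm_num)
  have bG : ∀ z, R.B Gv z = R.B E z + R.B k z := fun z => R.B_add hG z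
  have bK : ∀ z, R.B K z = R.B m z + R.B k z := fun z => R.B_add hK z
  have ap : R.B a p = 1 := R.B_symm p a ▸ pa
  have bp : R.B b p = 1 := R.B_symm p b ▸ pb
  have dp : R.B d p = -1 := R.B_symm p d ▸ pd
  have kp : R.B k p = -1 := R.B_symm p k ▸ pk
  have Ba : ∀ z, R.B a z = R.B z a := fun z => R.B_symm a z
  have Bb : ∀ z, R.B b z = R.B z b := fun z => R.B_symm b z
  have Bd : ∀ z, R.B d z = R.B z d := fun z => R.B_symm d z
  have Bk : ∀ z, R.B k z = R.B z k := fun z => R.B_symm k z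
  have Bp : ∀ z, R.B p z = R.B z p := fun z => R.B_symm p z
  have pp := R.B_self p
  have vp : R.vec E + R.vec E' = R.vec a + R.vec b := by
    rw [hE, hE', show R.vec p + R.vec d + (R.vec p + R.vec k) = (R.vec p + R.vec p) + R.vec d + R.vec k by abel, hp]
    abel
  -- all the pairings needed
  have Ea : R.B E a = 1 := by rw [bA, pa, hda]; norm_num
  have Eb : R.B E b = 1 := by rw [bA, pb, hdb]; norm_num
  have Ed : R.B E d = 1 := by rw [bA, pd, sd]; norm_num
  have Ek : R.B E k = -1 := by rw [bA, pk, hdk]; norm_num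
  have E'a : R.B E' a = 1 := by rw [bA', pa, hka]; norm_num
  have E'b : R.B E' b = 1 := by rw [bA', pb, hkb]; norm_num
  have E'd : R.B E' d = -1 := by rw [bA', pd, hkd]; norm_num
  have E'k : R.B E' k = 1 := by rw [bA', pk, sk]; norm_num
  have EE' : R.B E E' = 0 := by rw [bA, R.B_symm p E', R.B_symm d E', bA', bA', pp, kp, pd, hkd]; norm_num
  have Ga : R.B Gv a = 1 := by rw [bG, Ea, hka]; norm_num
  have Gb : R.B Gv b = 1 := by rw [bG, Eb, hkb]; norm_num
  have Gd : R.B Gv d = 1 := by rw [bG, Ed, hkd]; norm_num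
  have Gk : R.B Gv k = 1 := by rw [bG, Ek, sk]; norm_num
  have GE : R.B Gv E = 1 := by rw [bG, R.B_self, Bk E, Ek]; norm_num
  have GE' : R.B Gv E' = 1 := by rw [bG, EE', Bk E', E'k]; norm_num
  have Kb : R.B K b = -1 := by rw [bK, bm, Eb, sb, hkb]; norm_num
  have Kd : R.B K d = 1 := by rw [bK, bm, Ed, hbd, hkd]; norm_num
  have Kk : R.B K k = 1 := by rw [bK, bm, Ek, hbk, sk]; norm_num
  have Ka : R.B K a = 1 := by rw [bK, bm, Ea, hba, hka]; norm_num
  have KE : R.B K E = 0 := by rw [bK, bm, R.B_self, Bb E, Eb, Bk E, Ek]; norm_num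
  have KE' : R.B K E' = 0 := by rw [bK, bm, EE', Bb E', E'b, Bk E', E'k]; norm_num
  have mG : R.B m Gv = 0 := by rw [R.B_symm, bG, R.B_symm E m, bm, R.B_self, Bb E, Eb, Bk m, bm, Ek, hbk]; norm_num
  have m'G : R.B m' Gv = 0 := by rw [R.B_symm, bG, R.B_symm E m', bm', R.B_symm E' E, EE', Bb E, Eb, Bk m', bm', E'k, hbk]; norm_num
  have pG : R.B p Gv = 0 := by rw [R.B_symm, bG, bA, pp, dp, kp]; norm_num
  have EG : 0 ≤ R.B E Gv := by rw [R.B_symm, GE]; norm_num
  -- the sums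
  have sdE' : R.vec Gv = R.vec E' + R.vec d := by rw [hG, hE, hE']; abel
  have smb : R.vec E = R.vec m + R.vec b := by rw [hm]; abel
  have sm'b : R.vec E' = R.vec m' + R.vec b := by rw [hm']; abel
  have smE' : R.vec a = R.vec m + R.vec E' := by rw [hm, sub_add_eq_add_sub, vp]; abel
  have sm'E : R.vec a = R.vec m' + R.vec E := by rw [hm', sub_add_eq_add_sub, add_comm, vp]; abel
  have sm'd : R.vec K = R.vec m' + R.vec d := by rw [hK, hm, hm', hE, hE']; abel
  have hmem : ∀ r, (∀ z, R.B z a = 0 → R.B z b = 0 → R.B z d = 0 → R.B z k = 0 → R.B r z = 0) →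
      (∀ f : (Fin n → ℤ) →+ ℤ, f (R.vec a) = 0 → f (R.vec b) = 0 → f (R.vec d) = 0 → f (R.vec k) = 0 →
        f (R.vec r) = 0) →
      R.x r 1 ∈ Subgroup.closure {g | ∃ r, (∀ z, R.B z a = 0 → R.B z b = 0 → R.B z d = 0 → R.B z k = 0 → R.B r z = 0) ∧
        (∀ f : (Fin n → ℤ) →+ ℤ, f (R.vec a) = 0 → f (R.vec b) = 0 → f (R.vec d) = 0 → f (R.vec k) = 0 →
          f (R.vec r) = 0) ∧ g = R.x r 1} :=
    fun r h h' => Subgroup.subset_closure ⟨r, h, h', rfl⟩
  have pf : ∀ f : (Fin n → ℤ) →+ ℤ, f (R.vec a) = 0 → f (R.vec b) = 0 → f (R.vec d) = 0 → f (R.vec k) = 0 →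
      f (R.vec p) = 0 := fun f fa fb fd fk => by
    have := congrArg f hp
    simp only [map_add, map_sub, fa, fb, fd, fk] at this
    omega
  have pz : ∀ z, R.B z a = 0 → R.B z b = 0 → R.B z d = 0 → R.B z k = 0 → R.B p z = 0 := fun z za zb zd zk => by
    have := hp' z
    rw [Ba, Bb, Bd, Bk, za, zb, zd, zk] at this
    omega
  refine ⟨R.x m' 1 * R.x m 1 * R.x E 1 * R.x p 1, mul_mem (mul_mem (mul_mem
    (hmem m' ?_ fun f fa fb fd fk => by simp [hm', hE', pf f fa fb fd fk, fb, fk])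
    (hmem m ?_ fun f fa fb fd fk => by simp [hm, hE, pf f fa fb fd fk, fb, fd]))
    (hmem E ?_ fun f fa fb fd fk => by simp [hE, pf f fa fb fd fk, fd]))
    (hmem p pz pf), ?_⟩
  · intro z za zb zd zk; rw [bm', bA', pz z za zb zd zk, Bk, zk, Bb, zb]; norm_num
  · intro z za zb zd zk; rw [bm, bA, pz z za zb zd zk, Bd, zd, Bb, zb]; norm_num
  · intro z za zb zd zk; rw [bA, pz z za zb zd zk, Bd, zd]; norm_num
  have X : ∀ {r s : ι}, 0 ≤ R.B r s → Commute (R.x r 1) (R.x s 1) := fun e => R.comm _ _ e 1 1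
  have C : ∀ {r s : ι}, 0 ≤ R.B r s → R.x r 1 * R.x s 1 * (R.x r 1)⁻¹ = R.x s 1 := fun e => R.conj_comm e 1 1
  have S' : ∀ {r s j : ι}, R.B r s = -1 → R.vec j = R.vec r + R.vec s →
      R.x r 1 * R.x s 1 * (R.x r 1)⁻¹ = R.x s 1 * R.x j 1 := fun e e' => by rw [R.conj_term e e', one_mul]
  have step : ∀ (c : ι) (u v : G), R.x c 1 * (u * v) * (R.x c 1)⁻¹ =
      R.x c 1 * u * (R.x c 1)⁻¹ * (R.x c 1 * v * (R.x c 1)⁻¹) := fun c u v => by group
  -- first conjugation
  have s1 : R.x p 1 * (R.x a 1 * R.x b 1 * R.x d 1 * R.x k 1) * (R.x p 1)⁻¹ =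
      R.x a 1 * R.x b 1 * R.x d 1 * R.x E 1 * R.x k 1 * R.x E' 1 := by
    simp only [step]
    rw [C (by omega : 0 ≤ R.B p a), C (by omega : 0 ≤ R.B p b), S' pd hE, S' pk hE']
    group
  have s2 : R.x E 1 * (R.x a 1 * R.x b 1 * R.x d 1 * R.x E 1 * R.x k 1 * R.x E' 1) * (R.x E 1)⁻¹ =
      R.x a 1 * R.x b 1 * R.x d 1 * R.x E 1 * R.x k 1 * R.x E' 1 * R.x Gv 1 := by
    simp only [step]
    rw [C (by omega : 0 ≤ R.B E a), C (by omega : 0 ≤ R.B E b), C (by omega : 0 ≤ R.B E d),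
      C (le_trans (by norm_num) (R.B_self E).ge), S' Ek hG, C EE'.ge, mul_assoc _ (R.x k 1 * R.x Gv 1),
      mul_assoc (R.x k 1), (X (by omega : 0 ≤ R.B Gv E')).eq]
    group
  have mE : R.B m E = 1 := by rw [bm, R.B_self, Bb E, Eb]; norm_num
  have mE' : R.B m E' = -1 := by rw [bm, EE', Bb E', E'b]; norm_num
  have s3 : R.x m 1 * (R.x a 1 * R.x b 1 * R.x d 1 * R.x E 1 * R.x k 1 * R.x E' 1 * R.x Gv 1) * (R.x m 1)⁻¹ =
      R.x a 1 * (R.x b 1 * R.x E 1) * R.x d 1 * R.x E 1 * (R.x k 1 * R.x K 1) * (R.x E' 1 * R.x a 1) *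
        R.x Gv 1 := by
    simp only [step]
    rw [C (by rw [bm, Ea, hba]; norm_num : 0 ≤ R.B m a), S' (by rw [bm, Eb, sb]; norm_num) smb,
      C (by rw [bm, Ed, hbd]; norm_num : 0 ≤ R.B m d), C (by omega : 0 ≤ R.B m E),
      S' (by rw [bm, Ek, hbk]; norm_num) hK, S' mE' smE', C mG.ge]
  have m'E : R.B m' E = -1 := by rw [bm', R.B_symm, EE', Bb E, Eb]; norm_num
  have m'E' : R.B m' E' = 1 := by rw [bm', R.B_self, Bb E', E'b]; norm_num
  have m'K : 0 ≤ R.B m' K := by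
    rw [R.B_symm, bK, R.B_symm m m', bm', R.B_symm E' m, mE', Bb m, bm, Eb, sb, Bk m', bm', E'k, hbk]
    norm_num
  have s4 : R.x m' 1 *
      (R.x a 1 * (R.x b 1 * R.x E 1) * R.x d 1 * R.x E 1 * (R.x k 1 * R.x K 1) * (R.x E' 1 * R.x a 1) * R.x Gv 1) *
        (R.x m' 1)⁻¹ =
      R.x a 1 * (R.x b 1 * R.x E' 1 * (R.x E 1 * R.x a 1)) * (R.x d 1 * R.x K 1) * (R.x E 1 * R.x a 1) *
        (R.x k 1 * R.x K 1) * (R.x E' 1 * R.x a 1) * R.x Gv 1 := by
    simp only [step]
    rw [C (by rw [bm', E'a, hba]; norm_num : 0 ≤ R.B m' a), S' (by rw [bm', E'b, sb]; norm_num) sm'b,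
      S' m'E sm'E, S' (by rw [bm', E'd, hbd]; norm_num) sm'd,
      C (by rw [bm', E'k, hbk]; norm_num : 0 ≤ R.B m' k), C m'K, C (by omega : 0 ≤ R.B m' E'), C m'G.ge]
  rw [show R.x m' 1 * R.x m 1 * R.x E 1 * R.x p 1 * (R.x a 1 * R.x b 1 * R.x d 1 * R.x k 1) *
      (R.x m' 1 * R.x m 1 * R.x E 1 * R.x p 1)⁻¹ =
      R.x m' 1 * (R.x m 1 * (R.x E 1 * (R.x p 1 * (R.x a 1 * R.x b 1 * R.x d 1 * R.x k 1) * (R.x p 1)⁻¹) *
        (R.x E 1)⁻¹) * (R.x m 1)⁻¹) * (R.x m' 1)⁻¹ by group, s1, s2, s3, s4]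
  -- collect
  have ca : ∀ {r}, 0 ≤ R.B r a → ∀ w, R.x a 1 * (R.x r 1 * w) = R.x r 1 * (R.x a 1 * w) := fun e w => by
    rw [← mul_assoc, ← (X e).eq, mul_assoc]
  have cx : ∀ {r s}, 0 ≤ R.B r s → ∀ w, R.x r 1 * (R.x s 1 * w) = R.x s 1 * (R.x r 1 * w) := fun e w => by
    rw [← mul_assoc, (X e).eq, mul_assoc]
  have sq : ∀ r, ∀ w, R.x r 1 * (R.x r 1 * w) = w := fun r w => by rw [← mul_assoc, R.x_mul_self, one_mul]
  simp only [mul_assoc]
  rw [ca (hba.ge), ca (by omega : 0 ≤ R.B E' a), ca (by omega : 0 ≤ R.B E a), sq a,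
    ca (by omega : 0 ≤ R.B k a), ca (by omega : 0 ≤ R.B K a), ca (by omega : 0 ≤ R.B E' a), sq a,
    cx (by omega : 0 ≤ R.B K E), cx (by omega : 0 ≤ R.B K k), sq K,
    cx (show 0 ≤ R.B E d by omega), sq E]
  -- what is left is `b E' d k E' Gv`
  rw [cx (show 0 ≤ R.B k E' by rw [Bk, E'k]; norm_num), ← mul_assoc (R.x d 1) (R.x E' 1),
    R.term E' d Gv (show R.B E' d = -1 from E'd) sdE' 1 1, one_mul]
  simp only [mul_assoc]
  rw [sq E', cx (show 0 ≤ R.B Gv k by omega), R.x_mul_self, mul_one]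

/-- A quadruple of orthogonal roots in a subsystem of type `D₄` gives the same class as three of them. -/
theorem quad {a b d k p : ι} (hab : R.B a b = 0) (had : R.B a d = 0) (hak : R.B a k = 0) (hbd : R.B b d = 0)
    (hbk : R.B b k = 0) (hdk : R.B d k = 0)
    (hp : R.vec p + R.vec p = R.vec a + R.vec b - R.vec d - R.vec k) :
    ∃ g ∈ R.gen (fun r => ∀ z, R.B z a = 0 → R.B z b = 0 → R.B z d = 0 → R.B z k = 0 → R.B r z = 0),
      g * (R.x a 1 * R.x b 1 * R.x d 1 * R.x k 1) * g⁻¹ = R.x b 1 * R.x d 1 * R.x k 1 := by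
  obtain ⟨g, hg, e⟩ := quadF hab had hak hbd hbk hdk hp
  refine ⟨g, (Subgroup.closure_le _).2 ?_ hg, e⟩
  rintro _ ⟨r, hr, -, rfl⟩
  exact R.x_mem_gen (P := fun r => ∀ z, R.B z a = 0 → R.B z b = 0 → R.B z d = 0 → R.B z k = 0 → R.B r z = 0) hr 1

end Sys

end CfsgLib.InvolSL
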