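import Cfsg.Agent.Lib.InvolSL.Classify
import Cfsg.Agent.Lib.Chev.All
import Cfsg.Agent.Lib.Chev.Structure
import Cfsg.Agent.Lib.ChevAut.Sylow
import Cfsg.Agent.Lib.Twisted.Commute

/-!
Simply laced Chevalley data give the systems of the classification of involutions.
-/

set_option autoImplicit false
set_option linter.unusedSectionVars false

namespace CfsgLib.InvolSL

open Cfsg.Lie CfsgLib.Chev

/-- The pairing of two roots, from the tables. -/
noncomputable def pairZ (D : ChevalleyDatum) (T : Tabs) (r s : ℕ) : ℤ :=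
  pairSum D (wt D T r) (fun i => cval D T i s)

/-- The conditions on one pair of roots. -/
noncomputable def pairOK (D : ChevalleyDatum) (T : Tabs) (r s : ℕ) : Bool :=
  let b := pairZ D T r s
  let f := field (T.t1.get r) s
  cond (decide (b = pairZ D T s r))
    (cond (Nat.beq s r) (decide (b = 2))
      (cond (Nat.beq s (negN D r)) (decide (b = -2))
        (cond (Nat.beq f 0) (decide (b = 0 ∨ b = 1)) (decide (b = -1 ∧ (codeVal f = 1 ∨ codeVal f = -1))))))
    false

/-- The datum is simply laced, with its tables agreeing. -/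
noncomputable def slCheck (D : ChevalleyDatum) (T : Tabs) : Bool :=
  allNat D.nroots fun r => cond (allNat D.rank fun i => decide (cv T r i = wt D T r i))
    (allNat D.nroots fun s => pairOK D T r s) false

/-- The bilinear form on root coordinates. -/
def bilC (D : ChevalleyDatum) : (Fin D.rank → ℤ) →+ (Fin D.rank → ℤ) →+ ℤ :=
  AddMonoidHom.mk' (fun v => AddMonoidHom.mk' (fun w => ∑ i, v i * ∑ j, cm D i j * w j) fun a b => by
      simp only [Pi.add_apply, mul_add, Finset.sum_add_distrib])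
    fun a b => AddMonoidHom.ext fun w => by
      simp only [Pi.add_apply, add_mul, Finset.sum_add_distrib, AddMonoidHom.mk'_apply, AddMonoidHom.add_apply]

variable {D : ChevalleyDatum} {T : Tabs}

section
variable (hc : Checked D T)
include hc

theorem bilC_rv (r : ℕ) {s : ℕ} (hs : s < D.nroots) :
    bilC D (rv D T r) (rv D T s) = pairZ D T r s := by
  rw [pairZ, pairSum_eq]
  show ∑ i, rv D T r i * ∑ j, cm D i j * rv D T s j = _
  refine Finset.sum_congr rfl fun i _ => ?_
  rw [cval_eq hc i.2 hs, cartan_linear hc i hs, rv]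

variable (h : slCheck D T = true)
include h

theorem cv_eq {r : ℕ} (hr : r < D.nroots) (i : Fin D.rank) : cv T r i = wt D T r i := by
  have := allNat_iff.1 h r hr
  rw [cond_false_iff] at this
  simpa using allNat_iff.1 this.1 i i.2

theorem pair_spec {r s : ℕ} (hr : r < D.nroots) (hs : s < D.nroots) :
    pairZ D T r s = pairZ D T s r ∧
    ((s = r ∧ pairZ D T r s = 2) ∨ (s = D.neg r ∧ pairZ D T r s = -2) ∨
      (s ≠ r ∧ s ≠ D.neg r ∧ (D.chainEntry r s)[0]? = none ∧ (pairZ D T r s = 0 ∨ pairZ D T r s = 1)) ∨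
      (s ≠ r ∧ s ≠ D.neg r ∧ pairZ D T r s = -1 ∧
        ∃ q, (D.chainEntry r s)[0]? = some q ∧ (q.2 = 1 ∨ q.2 = -1))) := by
  have := allNat_iff.1 h r hr
  rw [cond_false_iff] at this
  have h2 := allNat_iff.1 this.2 s hs
  simp only [pairOK, cond_beq, cond_false_iff, decide_eq_true_iff] at h2
  obtain ⟨hsym, h2⟩ := h2
  refine ⟨hsym, ?_⟩
  have hneg : negN D r = D.neg r := by
    rw [neg_eq hc hr, negN]; simp only [Nat.sub_eq, Nat.add_eq, cond_blt, if_pos hr]
  rw [hneg] at h2
  by_cases e1 : s = r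
  · rw [if_pos e1, decide_eq_true_iff] at h2; exact Or.inl ⟨e1, h2⟩
  rw [if_neg e1] at h2
  by_cases e2 : s = D.neg r
  · rw [if_pos e2, decide_eq_true_iff] at h2; exact Or.inr (Or.inl ⟨e2, h2⟩)
  rw [if_neg e2] at h2
  have hf := field_t1 hc hr hs
  rw [if_neg e2] at hf
  rw [hf] at h2
  cases hq : (D.chainEntry r s)[0]? with
  | none =>
      rw [hq] at h2
      simp only [optCode, Option.elim_none, if_true, decide_eq_true_iff] at h2
      exact Or.inr (Or.inr (Or.inl ⟨e1, e2, rfl, h2⟩))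
  | some q =>
      rw [hq] at h2
      obtain ⟨-, -, q3, q4, -⟩ := chainEntry_get hc hr (hq ▸ rfl : q ∈ (D.chainEntry r s)[0]?)
      simp only [optCode, Option.elim_some, if_neg (encNZ_parts q3 q4).1, decide_eq_true_iff,
        codeVal_encNZ q3 q4] at h2
      exact Or.inr (Or.inr (Or.inr ⟨e1, e2, h2.1, q, rfl, h2.2⟩))

theorem pair_self {r : ℕ} (hr : r < D.nroots) : pairZ D T r r = 2 := by
  rcases (pair_spec hc h hr hr).2 with ⟨-, e⟩ | ⟨e, -⟩ | ⟨e, -⟩ | ⟨e, -⟩
  · exact e
  · exact absurd e.symm (neg_ne hc hr)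
  all_goals exact absurd rfl e

theorem norm_comb {r s v : ℕ} (hr : r < D.nroots) (hs : s < D.nroots) (hv : v < D.nroots) {i j : ℤ}
    (e : rv D T v = i • rv D T r + j • rv D T s) : i * i + j * j + i * j * pairZ D T r s = 1 := by
  have := congrArg (fun w => bilC D w w) e
  simp only [map_add, map_zsmul, AddMonoidHom.add_apply, AddMonoidHom.coe_smul, Pi.smul_apply, smul_eq_mul,
    bilC_rv hc _ hr, bilC_rv hc _ hs, bilC_rv hc _ hv, pair_self hc h hv, pair_self hc h hr, pair_self hc h hs,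
    ← (pair_spec hc h hr hs).1] at this
  linarith

theorem chainRoot_none {r s k : ℕ} (hr : r < D.nroots) (hs : s < D.nroots) (hb : pairZ D T r s = -1)
    (hk : k = 2 ∨ k = 3) : D.chainRoot r s k = none := by
  cases e : D.chainRoot r s k with
  | none => rfl
  | some v =>
      obtain ⟨hv, -, hw⟩ := chainRoot_weight hc hr (k := k) (by omega) e
      rw [← one_smul ℤ (rv D T s)] at hw
      have := norm_comb hc h hr hs hv hw
      rw [hb] at this
      rcases hk with rfl | rfl <;> simp at this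

theorem commTerms_eq {r s : ℕ} (hr : r < D.nroots) (hs : s < D.nroots) (hb : pairZ D T r s = -1) :
    ∃ k c, D.commTerms r s = [(k, c, 1, 1)] ∧ k < D.nroots ∧ rv D T k = rv D T r + rv D T s ∧
      (c = 1 ∨ c = -1) := by
  have hb' : pairZ D T s r = -1 := (pair_spec hc h hr hs).1 ▸ hb
  obtain ⟨q, hq, hq2⟩ : ∃ q, (D.chainEntry r s)[0]? = some q ∧ (q.2 = 1 ∨ q.2 = -1) := by
    rcases (pair_spec hc h hr hs).2 with ⟨-, e⟩ | ⟨-, e⟩ | ⟨-, -, -, e⟩ | ⟨-, -, -, e⟩
    · omega
    · omega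
    · omega
    · exact e
  have h1 : D.chainRoot r s 1 = some q.1 := by simp [ChevalleyDatum.chainRoot, hq]
  obtain ⟨hk, -, hw⟩ := chainRoot_weight hc hr (k := 1) (Or.inl rfl) h1
  rw [Nat.cast_one, one_smul] at hw
  refine ⟨q.1, q.2, ?_, hk, hw, hq2⟩
  simp [ChevalleyDatum.commTerms, h1, chainRoot_none hc h hr hs hb (k := 2) (Or.inl rfl),
    chainRoot_none hc h hr hs hb (k := 3) (Or.inr rfl), chainRoot_none hc h hs hr hb' (k := 2) (Or.inl rfl),
    chainRoot_none hc h hs hr hb' (k := 3) (Or.inr rfl), ChevalleyDatum.chainM, hq]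

variable (hcomm : CommOne D T) (F : Type*) [Field F] [CharP F 2]
include hcomm

theorem elX_commute {r s : ℕ} (hr : r < D.nroots) (hs : s < D.nroots) (hb : 0 ≤ pairZ D T r s) (t u : F) :
    Commute (elX D F r t) (elX D F s u) := by
  rcases (pair_spec hc h hr hs).2 with ⟨e, -⟩ | ⟨-, e⟩ | ⟨-, e2, e, -⟩ | ⟨-, -, e, -⟩
  · subst e
    show _ * _ = _ * _
    rw [elX_add hc F hr, elX_add hc F hr, add_comm]
  · omega
  · refine Twisted.commute_elX hc hr hs e2 ?_ t u
    rwa [List.getElem?_eq_none_iff, Nat.le_zero, List.length_eq_zero_iff] at e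
  · omega

theorem elX_term {r s k : ℕ} (hr : r < D.nroots) (hs : s < D.nroots) (hk : k < D.nroots)
    (hb : pairZ D T r s = -1) (hw : rv D T k = rv D T r + rv D T s) (t u : F) :
    elX D F s u * elX D F r t = elX D F r t * elX D F s u * elX D F k (t * u) := by
  obtain ⟨k', c, e, hk', hw', hcase⟩ := commTerms_eq hc h hr hs hb
  obtain rfl := rv_inj hc hk hk' (hw.trans hw'.symm)
  have hne : s ≠ r ∧ s ≠ D.neg r := by
    rcases (pair_spec hc h hr hs).2 with ⟨-, e⟩ | ⟨-, e⟩ | ⟨a, b, -⟩ | ⟨a, b, -⟩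
    · omega
    · omega
    all_goals exact ⟨a, b⟩
  rw [elX_comm hc hcomm hr hs hne.1 hne.2]
  congr 1
  simp only [wordGL, ChevalleyDatum.commWord, e, List.map_cons, List.map_nil, List.prod_cons, List.prod_nil, mul_one]
  congr 1
  rcases hcase with rfl | rfl <;> simp [CharTwo.neg_eq]

omit h hcomm in
theorem eq_one_of_raises {f : (Fin D.rank → ℤ) → ℤ} (hf : ∀ v w, f (v + w) = f v + f w)
    (hf' : ∀ (c : ℤ) v, f (c • v) = c * f v) {P Q : ℕ → Prop} (hP : ∀ r, r < D.nroots → P r → f (rv D T r) = 0)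
    (hQ : ∀ r, r < D.nroots → Q r → 1 ≤ f (rv D T r)) {g : GL D.Idx F} (h1 : g ∈ uGen D F P)
    (h2 : g ∈ uGen D F Q) : g = 1 := by
  have a := raises_uGen hc (f := fun v => -f v) (fun v w => by rw [hf]; ring) (fun c v => by rw [hf']; ring)
    (d := 0) le_rfl (fun r hr hp => by simp [hP r hr hp]) h1
  have b := raises_uGen hc hf hf' (d := 1) (by norm_num) hQ h2
  refine Units.ext (Matrix.ext fun x y => ?_)
  by_contra hne
  rw [Units.val_one] at hne
  have e1 := a x y hne
  have e2 := b x y hne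
  simp only at e1 e2
  omega

/-- The system of a simply laced Chevalley datum. -/
noncomputable def mkSys : Sys (Fin D.nroots) D.rank F (GL D.Idx F) where
  vec r := rv D T r
  bil := bilC D
  symm r s := by
    rw [bilC_rv hc _ s.2, bilC_rv hc _ r.2]
    exact (pair_spec hc h r.2 s.2).1
  self r := by rw [bilC_rv hc _ r.2]; exact pair_self hc h r.2
  two_eq r s e := by
    rw [bilC_rv hc _ s.2] at e
    rcases (pair_spec hc h r.2 s.2).2 with ⟨a, -⟩ | ⟨-, b⟩ | ⟨-, -, -, b⟩ | ⟨-, -, b, -⟩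
    · exact Fin.ext a.symm
    all_goals omega
  low r s := by
    rw [bilC_rv hc _ s.2]
    rcases (pair_spec hc h r.2 s.2).2 with ⟨-, b⟩ | ⟨-, b⟩ | ⟨-, -, -, b⟩ | ⟨-, -, b, -⟩ <;> omega
  high r s := by
    rw [bilC_rv hc _ s.2]
    rcases (pair_spec hc h r.2 s.2).2 with ⟨-, b⟩ | ⟨-, b⟩ | ⟨-, -, -, b⟩ | ⟨-, -, b, -⟩ <;> omega
  inj r s e := Fin.ext (rv_inj hc r.2 s.2 e)
  neg r := ⟨⟨D.neg r, neg_lt hc r.2⟩, rv_neg hc r.2⟩
  opp r s e := by
    rw [bilC_rv hc _ s.2] at e
    rcases (pair_spec hc h r.2 s.2).2 with ⟨-, b⟩ | ⟨a, -⟩ | ⟨-, -, -, b⟩ | ⟨-, -, b, -⟩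
    · omega
    · show rv D T s = -rv D T r
      rw [a, rv_neg hc r.2]
    all_goals omega
  sum r s e := by
    rw [bilC_rv hc _ s.2] at e
    obtain ⟨k, c, -, hk, hw, -⟩ := commTerms_eq hc h r.2 s.2 e
    exact ⟨⟨k, hk⟩, hw⟩
  pos r := D.nroots / 2 ≤ r
  ht := AddMonoidHom.mk' (keyLin D) keyLin_add
  pos_iff r := (key_pos_iff hc r.2).symm
  ht_ne r := by
    rcases Nat.lt_or_ge r (D.nroots / 2) with e | e
    · exact ((key_neg_iff hc r.2).2 e).ne
    · exact ((key_pos_iff hc r.2).2 e).ne'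
  x r t := elX D F r t
  two := CharTwo.two_eq_zero
  add r s t := elX_add hc F r.2 s t
  inj_x r t e := (elX_eq_one_iff hc r.2 t).1 e
  comm r s e := by
    rw [bilC_rv hc _ s.2] at e
    exact elX_commute hc h hcomm F r.2 s.2 e
  term r s k e hw t u := by
    rw [bilC_rv hc _ s.2] at e
    exact elX_term hc h hcomm F r.2 s.2 k.2 e hw t u
  inter a g h1 h2 := by
    refine eq_one_of_raises hc F (f := fun v => bilC D v (rv D T a)) (fun v w => by simp)
      (fun c v => by rw [map_zsmul]; rfl) (P := fun r => bilC D (rv D T r) (rv D T a) = 0)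
      (Q := fun r => 1 ≤ bilC D (rv D T r) (rv D T a)) (fun r _ e => e) (fun r _ e => e) ?_ ?_
    · refine (Subgroup.closure_le _).2 ?_ h1
      rintro _ ⟨r, t, hr, rfl⟩
      exact elX_mem_uGen r.2 hr t
    · refine (Subgroup.closure_le _).2 ?_ h2
      rintro _ ⟨r, t, hr, rfl⟩
      exact elX_mem_uGen r.2 hr t

theorem mkSys_B (r s : Fin D.nroots) : (mkSys hc h hcomm F).B r s = pairZ D T r s := bilC_rv hc _ s.2

theorem mkSys_gen_le (P : Fin D.nroots → Prop) : (mkSys hc h hcomm F).gen P ≤ D.group F :=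
  Sys.gen_le _ fun r t _ => elX_mem_group hc r.2 t

theorem mkSys_gen_pos : D.posUnipotent F ≤ (mkSys hc h hcomm F).gen (mkSys hc h hcomm F).pos := by
  rw [posUnipotent_eq hc, uGen_le_iff]
  exact fun r hr hp t => (mkSys hc h hcomm F).x_mem_gen (r := ⟨r, hr⟩) hp t

omit hcomm in
theorem sigs_pair (L : List (Fin D.rank)) {r s : ℕ} (hr : r < D.nroots) (hs : s < D.nroots) :
    pairZ D T (sigs D T L r) (sigs D T L s) = pairZ D T r s := by
  induction L with
  | nil => rfl
  | cons i L ih =>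
      have hu := sigs_lt hc L hr
      have hv := sigs_lt hc L hs
      set u := sigs D T L r
      set v := sigs D T L s
      have hp := simple_lt hc i.2
      have key : ∀ {w : ℕ}, w < D.nroots → rv D T (sig D T i w) =
          rv D T w - pairZ D T (D.simple i) w • rv D T (D.simple i) := by
        intro w hw
        rw [rv_sig hc i hw, ← bilC_rv hc _ hw, rv_simple hc]
        unfold CfsgLib.Chev.refl
        congr 1
        funext j
        show Pi.single (M := fun _ => ℤ) i _ j =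
          (∑ a, (Pi.single i 1 : Fin D.rank → ℤ) a * ∑ b, cm D a b * rv D T w b) * (Pi.single i 1 : Fin D.rank → ℤ) j
        by_cases e : j = i
        · subst e; simp [Pi.single_apply]
        · simp [Pi.single_apply, e]
      rw [sigs_cons, sigs_cons, ← ih, ← bilC_rv hc _ (sig_lt hc i hv), key hu, key hv]
      simp only [map_sub, map_zsmul, AddMonoidHom.sub_apply, AddMonoidHom.coe_smul, Pi.smul_apply, smul_eq_mul,
        bilC_rv hc _ hu, bilC_rv hc _ hv, bilC_rv hc _ hp, pair_self hc h hp,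
        (pair_spec hc h hu hp).1]
      ring

end

end CfsgLib.InvolSL
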