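import Cfsg.Agent.Lib.InvolSL.CertE6
import Cfsg.Agent.Lib.InvolSL.RankDataE6
import Cfsg.Agent.Lib.Chev.Gen.TabE6

/-!
The kernel checks for the classification of involutions of type E6.
-/

set_option autoImplicit false

namespace CfsgLib.InvolSL.E6

open Cfsg.Lie

theorem sl_ok : slCheck chevE6 CfsgLib.Chev.E6.tabs = true := by decide +kernel

theorem cert_ok : certTest chevE6 CfsgLib.Chev.E6.tabs cert = true := by decide +kernel

theorem rank_ok : (ranks.all fun c => rankTest chevE6 CfsgLib.Chev.E6.tabs c) = true := by decide +kernel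

end CfsgLib.InvolSL.E6
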