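import Cfsg.Agent.Lib.InvolSL.Main
import Cfsg.Agent.Lib.InvolSL.OkE7
import Cfsg.Agent.Lib.Chev.Comm

/-!
The classes of involutions of type E7: the data.
-/

set_option autoImplicit false

namespace CfsgLib.InvolSL.E7

open Cfsg.Lie CfsgLib.Chev

theorem orth_ok : orthTest chevE7 CfsgLib.Chev.E7.tabs ranks = true := by decide +kernel

theorem data : Data chevE7 CfsgLib.Chev.E7.tabs cert ranks where
  checked := CfsgLib.Chev.E7.checked
  comm := commOne_of_commCheck CfsgLib.Chev.E7.checked CfsgLib.Chev.E7.comm_ok CfsgLib.Chev.E7.short_ok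
  sl := sl_ok
  cert_ok := cert_ok
  rank_ok := rank_ok
  orth := orth_ok
  cover := by decide
  distinct := by decide
  nonzero := by decide

end CfsgLib.InvolSL.E7
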