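import Cfsg.Agent.Lib.InvolSL.CertE8
import Cfsg.Agent.Lib.InvolSL.RankStagesE8
import Cfsg.Agent.Lib.Chev.Gen.TabE8

/-!
The kernel checks for the classification of involutions of type E8.
-/

set_option autoImplicit false

namespace CfsgLib.InvolSL.E8

open Cfsg.Lie CfsgLib.Chev

/-- One row of the check of simple lacing. -/
noncomputable def slRow (D : ChevalleyDatum) (T : Tabs) (r : ℕ) : Bool :=
  cond (allNat D.rank fun i => decide (cv T r i = wt D T r i)) (allNat D.nroots fun s => pairOK D T r s) false

theorem sl_0 : (allNat 20 fun k => slRow chevE8 CfsgLib.Chev.E8.tabs (0 + k)) = true := by decide +kernel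

theorem sl_1 : (allNat 20 fun k => slRow chevE8 CfsgLib.Chev.E8.tabs (20 + k)) = true := by decide +kernel

theorem sl_2 : (allNat 20 fun k => slRow chevE8 CfsgLib.Chev.E8.tabs (40 + k)) = true := by decide +kernel

theorem sl_3 : (allNat 20 fun k => slRow chevE8 CfsgLib.Chev.E8.tabs (60 + k)) = true := by decide +kernel

theorem sl_4 : (allNat 20 fun k => slRow chevE8 CfsgLib.Chev.E8.tabs (80 + k)) = true := by decide +kernel

theorem sl_5 : (allNat 20 fun k => slRow chevE8 CfsgLib.Chev.E8.tabs (100 + k)) = true := by decide +kernel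

theorem sl_6 : (allNat 20 fun k => slRow chevE8 CfsgLib.Chev.E8.tabs (120 + k)) = true := by decide +kernel

theorem sl_7 : (allNat 20 fun k => slRow chevE8 CfsgLib.Chev.E8.tabs (140 + k)) = true := by decide +kernel

theorem sl_8 : (allNat 20 fun k => slRow chevE8 CfsgLib.Chev.E8.tabs (160 + k)) = true := by decide +kernel

theorem sl_9 : (allNat 20 fun k => slRow chevE8 CfsgLib.Chev.E8.tabs (180 + k)) = true := by decide +kernel

theorem sl_10 : (allNat 20 fun k => slRow chevE8 CfsgLib.Chev.E8.tabs (200 + k)) = true := by decide +kernel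

theorem sl_11 : (allNat 20 fun k => slRow chevE8 CfsgLib.Chev.E8.tabs (220 + k)) = true := by decide +kernel

theorem sl_ok : slCheck chevE8 CfsgLib.Chev.E8.tabs = true := by
  refine allNat_iff.2 fun r hr => ?_
  have hn : chevE8.nroots = 240 := rfl
  rw [hn] at hr
  have key : ∀ a, (allNat 20 fun k => slRow chevE8 CfsgLib.Chev.E8.tabs (a + k)) = true → a ≤ r → r < a + 20 →
      slRow chevE8 CfsgLib.Chev.E8.tabs r = true := by
    intro a h h1 h2
    have := allNat_iff.1 h (r - a) (by omega)
    rwa [Nat.add_sub_cancel' h1] at this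
  by_cases e0 : r < 20
  · exact key 0 sl_0 (by omega) (by omega)
  by_cases e1 : r < 40
  · exact key 20 sl_1 (by omega) (by omega)
  by_cases e2 : r < 60
  · exact key 40 sl_2 (by omega) (by omega)
  by_cases e3 : r < 80
  · exact key 60 sl_3 (by omega) (by omega)
  by_cases e4 : r < 100
  · exact key 80 sl_4 (by omega) (by omega)
  by_cases e5 : r < 120
  · exact key 100 sl_5 (by omega) (by omega)
  by_cases e6 : r < 140
  · exact key 120 sl_6 (by omega) (by omega)
  by_cases e7 : r < 160
  · exact key 140 sl_7 (by omega) (by omega)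
  by_cases e8 : r < 180
  · exact key 160 sl_8 (by omega) (by omega)
  by_cases e9 : r < 200
  · exact key 180 sl_9 (by omega) (by omega)
  by_cases e10 : r < 220
  · exact key 200 sl_10 (by omega) (by omega)
  exact key 220 sl_11 (by omega) (by omega)

theorem cert_ok : certTest chevE8 CfsgLib.Chev.E8.tabs cert = true := by decide +kernel

/-- The selected sum, with the mask evaluated at every step. -/
noncomputable def selF (A : List ℕ) : ℕ → ℕ :=
  List.rec (motive := fun _ => ℕ → ℕ) (fun _ => 0)
    (fun a _ ih m => Nat.rec (motive := fun _ => ℕ) 0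
      (fun k _ => Nat.xor (Nat.mul a (Nat.mod (Nat.succ k) 2)) (ih (Nat.div (Nat.succ k) 2))) m) A

theorem sel_zero (A : List ℕ) : sel A 0 = 0 := by
  induction A with
  | nil => rfl
  | cons a A ih => simp [sel, ih]

theorem selF_eq (A : List ℕ) (m : ℕ) : selF A m = sel A m := by
  induction A generalizing m with
  | nil => rfl
  | cons a A ih =>
      cases m with
      | zero => rw [sel_zero]; rfl
      | succ k =>
          show Nat.xor (a * ((k + 1) % 2)) (selF A ((k + 1) / 2)) = _
          rw [ih, sel]
          rcases Nat.mod_two_eq_zero_or_one (k + 1) with e | e <;> simp [Nat.testBit_zero, e]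

/-- The product of two bit matrices, evaluated strictly. -/
noncomputable def mulF (A B : List ℕ) : List ℕ :=
  List.rec (motive := fun _ => List ℕ) [] (fun b _ ih => selF A b :: ih) B

theorem mulF_eq (A B : List ℕ) : mulF A B = mulC A B := by
  induction B with
  | nil => rfl
  | cons b B ih => show selF A b :: mulF A B = _; rw [selF_eq, ih]; rfl

/-- Equality of bit matrices. -/
noncomputable def eqC (A : List ℕ) : List ℕ → Bool :=
  List.rec (motive := fun _ => List ℕ → Bool) (fun B => List.rec (motive := fun _ => Bool) true (fun _ _ _ => false) B)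
    (fun a _ ih B => List.rec (motive := fun _ => Bool) false (fun b B _ => cond (Nat.beq a b) (ih B) false) B) A

theorem eqC_eq {A B : List ℕ} (h : eqC A B = true) : A = B := by
  induction A generalizing B with
  | nil => cases B with
    | nil => rfl
    | cons b B => exact absurd h (by simp [eqC])
  | cons a A ih => cases B with
    | nil => exact absurd h (by simp [eqC])
    | cons b B =>
        change cond (Nat.beq a b) (eqC A B) false = true at h
        rw [cond_false_iff] at h
        rw [Nat.eq_of_beq_eq_true h.1, ih h.2]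

theorem mul_stage {A B C : List ℕ} (h : eqC (mulF A B) C = true) : mulC A B = C := (mulF_eq A B).symm.trans (eqC_eq h)

/-- The rank test with the product supplied. -/
noncomputable def rankWith (D : ChevalleyDatum) (c : RankCert) (U : List ℕ) : Bool :=
  let M := List.zipWith Nat.xor U (idC (D.nroots + D.rank))
  c.rep.all (fun r => decide (r < D.nroots)) &&
  decide (c.A.length = c.k ∧ c.B.length = D.nroots + D.rank ∧ c.P.length = D.nroots + D.rank ∧ c.Q.length = c.k) &&
  eqC (mulF c.A c.B) M && eqC (mulF (mulF c.P M) c.Q) (idC c.k)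

theorem rankTest_of {D : ChevalleyDatum} {T : Tabs} {c : RankCert} {U : List ℕ}
    (h : c.rep.foldr (fun r acc => mulC (xC D T r) acc) (idC (D.nroots + D.rank)) = U)
    (h' : rankWith D c U = true) : rankTest D T c = true := by
  subst h
  simp only [rankWith, mulF_eq, Bool.and_eq_true] at h'
  obtain ⟨⟨⟨hr, hl⟩, h1⟩, h2⟩ := h'
  simp only [rankTest, Bool.and_eq_true]
  exact ⟨⟨⟨hr, hl⟩, decide_eq_true (eqC_eq h1)⟩, decide_eq_true (eqC_eq h2)⟩

theorem colsX213_eq : xC chevE8 CfsgLib.Chev.E8.tabs 213 = colsX213 := by decide +kernel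

theorem colsX216_eq : xC chevE8 CfsgLib.Chev.E8.tabs 216 = colsX216 := by decide +kernel

theorem colsX218_eq : xC chevE8 CfsgLib.Chev.E8.tabs 218 = colsX218 := by decide +kernel

theorem colsX220_eq : xC chevE8 CfsgLib.Chev.E8.tabs 220 = colsX220 := by decide +kernel

theorem colsX222_eq : xC chevE8 CfsgLib.Chev.E8.tabs 222 = colsX222 := by decide +kernel

theorem colsX226_eq : xC chevE8 CfsgLib.Chev.E8.tabs 226 = colsX226 := by decide +kernel

theorem colsX228_eq : xC chevE8 CfsgLib.Chev.E8.tabs 228 = colsX228 := by decide +kernel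

theorem colsX232_eq : xC chevE8 CfsgLib.Chev.E8.tabs 232 = colsX232 := by decide +kernel

theorem colsX233_eq : xC chevE8 CfsgLib.Chev.E8.tabs 233 = colsX233 := by decide +kernel

theorem colsX239_eq : xC chevE8 CfsgLib.Chev.E8.tabs 239 = colsX239 := by decide +kernel

theorem stage1_0_eq : mulC colsX239 (idC (chevE8.nroots + chevE8.rank)) = stage1_0 :=
  mul_stage (by decide +kernel)

theorem rank_1 : rankTest chevE8 CfsgLib.Chev.E8.tabs rk1 = true := by
  refine rankTest_of (U := stage1_0) ?_ (by decide +kernel)
  show List.foldr _ (idC (chevE8.nroots + chevE8.rank)) [239] = _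
  simp only [List.foldr_cons, List.foldr_nil, colsX239_eq, stage1_0_eq]

theorem stage2_0_eq : mulC colsX233 (idC (chevE8.nroots + chevE8.rank)) = stage2_0 :=
  mul_stage (by decide +kernel)

theorem stage2_1_eq : mulC colsX232 stage2_0 = stage2_1 :=
  mul_stage (by decide +kernel)

theorem rank_2 : rankTest chevE8 CfsgLib.Chev.E8.tabs rk2 = true := by
  refine rankTest_of (U := stage2_1) ?_ (by decide +kernel)
  show List.foldr _ (idC (chevE8.nroots + chevE8.rank)) [232, 233] = _
  simp only [List.foldr_cons, List.foldr_nil, colsX232_eq, colsX233_eq, stage2_0_eq, stage2_1_eq]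

theorem stage3_0_eq : mulC colsX218 (idC (chevE8.nroots + chevE8.rank)) = stage3_0 :=
  mul_stage (by decide +kernel)

theorem stage3_1_eq : mulC colsX222 stage3_0 = stage3_1 :=
  mul_stage (by decide +kernel)

theorem stage3_2_eq : mulC colsX228 stage3_1 = stage3_2 :=
  mul_stage (by decide +kernel)

theorem rank_3 : rankTest chevE8 CfsgLib.Chev.E8.tabs rk3 = true := by
  refine rankTest_of (U := stage3_2) ?_ (by decide +kernel)
  show List.foldr _ (idC (chevE8.nroots + chevE8.rank)) [228, 222, 218] = _
  simp only [List.foldr_cons, List.foldr_nil, colsX228_eq, colsX222_eq, colsX218_eq, stage3_0_eq, stage3_1_eq, stage3_2_eq]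

theorem stage4_0_eq : mulC colsX216 (idC (chevE8.nroots + chevE8.rank)) = stage4_0 :=
  mul_stage (by decide +kernel)

theorem stage4_1_eq : mulC colsX213 stage4_0 = stage4_1 :=
  mul_stage (by decide +kernel)

theorem stage4_2_eq : mulC colsX220 stage4_1 = stage4_2 :=
  mul_stage (by decide +kernel)

theorem stage4_3_eq : mulC colsX226 stage4_2 = stage4_3 :=
  mul_stage (by decide +kernel)

theorem rank_4 : rankTest chevE8 CfsgLib.Chev.E8.tabs rk4 = true := by
  refine rankTest_of (U := stage4_3) ?_ (by decide +kernel)
  show List.foldr _ (idC (chevE8.nroots + chevE8.rank)) [226, 220, 213, 216] = _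
  simp only [List.foldr_cons, List.foldr_nil, colsX226_eq, colsX220_eq, colsX213_eq, colsX216_eq, stage4_0_eq, stage4_1_eq, stage4_2_eq, stage4_3_eq]

theorem rank_ok : (ranks.all fun c => rankTest chevE8 CfsgLib.Chev.E8.tabs c) = true := by
  simp only [ranks, List.all_cons, List.all_nil, rank_1, rank_2, rank_3, rank_4, Bool.and_self]

end CfsgLib.InvolSL.E8
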