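import Cfsg.Agent.Lib.InvolSL.Rank

/-!
The classes of involutions of a simply laced Chevalley group in characteristic two from the checked certificates.
-/

set_option autoImplicit false
set_option linter.unusedSectionVars false

namespace CfsgLib.InvolSL

open Cfsg.Lie CfsgLib.Chev

/-- The roots of each representative are mutually orthogonal. -/
noncomputable def orthTest (D : ChevalleyDatum) (T : Tabs) (ranks : List RankCert) : Bool :=
  ranks.all fun c => (List.range c.rep.length).all fun i => (List.range c.rep.length).all fun j =>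
    decide (i < j → pairZ D T (c.rep.getD i 0) (c.rep.getD j 0) = 0)

/-- All the checks. -/
structure Data (D : ChevalleyDatum) (T : Tabs) (cert : List (List ℕ × List (ℕ × Entry))) (ranks : List RankCert) :
    Prop where
  checked : Checked D T
  comm : CommOne D T
  sl : slCheck D T = true
  cert_ok : certTest D T cert = true
  rank_ok : (ranks.all fun c => rankTest D T c) = true
  orth : orthTest D T ranks = true
  cover : ∀ R ∈ repsOf cert, R ≠ [] → R ∈ ranks.map RankCert.rep
  distinct : (ranks.map RankCert.k).Nodup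
  nonzero : ∀ c ∈ ranks, c.k ≠ 0

variable {D : ChevalleyDatum} {T : Tabs} {cert : List (List ℕ × List (ℕ × Entry))} {ranks : List RankCert}
  (H : Data D T cert ranks) (F : Type*) [Field F] [Fintype F] [CharP F 2]
include H

theorem Data.mem_group {R : List ℕ} (hR : ∀ r ∈ R, r < D.nroots) : X1 D F R ∈ D.group F := by
  refine list_prod_mem fun y hy => ?_
  obtain ⟨r, hr, rfl⟩ := List.mem_map.1 hy
  exact elX_mem_group H.checked (hR r hr) 1

theorem Data.lt {c : RankCert} (hc : c ∈ ranks) : ∀ r ∈ c.rep, r < D.nroots := by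
  have := List.all_eq_true.1 H.rank_ok c hc
  simp only [rankTest, Bool.and_eq_true, decide_eq_true_iff, List.all_eq_true] at this
  exact this.1.1.1

theorem Data.orthN {c : RankCert} (hc : c ∈ ranks) : OrthN D T c.rep := by
  refine ⟨H.lt hc, List.pairwise_iff_getElem.2 fun i j hi hj hij => ?_⟩
  have := List.all_eq_true.1 H.orth c hc
  simp only [List.all_eq_true, List.mem_range, decide_eq_true_iff] at this
  have := this i hi j hj hij
  rwa [List.getD_eq_getElem _ _ hi, List.getD_eq_getElem _ _ hj] at this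

theorem Data.sq {R : List ℕ} (hR : OrthN D T R) : X1 D F R * X1 D F R = 1 := by
  induction R with
  | nil => simp [X1]
  | cons r R ih =>
      have hr : r < D.nroots := hR.1 r (by simp)
      have hc : Commute (elX D F r (1 : F)) (X1 D F R) := by
        refine Commute.list_prod_right _ _ fun y hy => ?_
        obtain ⟨s, hs, rfl⟩ := List.mem_map.1 hy
        exact elX_commute H.checked H.sl H.comm F hr (hR.1 s (by simp [hs]))
          ((List.pairwise_cons.1 hR.2).1 s hs).ge 1 1
      have ih' := ih (hR.sublist (List.sublist_cons_self _ _))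
      simp only [X1, List.map_cons, List.prod_cons] at hc ih' ⊢
      rw [hc.symm.mul_mul_mul_comm, ih', mul_one, elX_add H.checked F hr, CharTwo.add_self_eq_zero,
        elX_zero H.checked F hr]

theorem Data.rank {c : RankCert} (hc : c ∈ ranks) :
    ((((X1 D F c.rep : GL D.Idx F) : Matrix D.Idx D.Idx F)) - 1).rank = c.k :=
  rank_X1 F H.checked (List.all_eq_true.1 H.rank_ok c hc)

theorem Data.order {R : List ℕ} (hR : R ∈ ranks.map RankCert.rep) :
    X1 D F R ∈ D.group F ∧ orderOf (X1 D F R) = 2 := by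
  obtain ⟨c, hc, rfl⟩ := List.mem_map.1 hR
  refine ⟨H.mem_group F (H.lt hc), orderOf_eq_prime ?_ fun e => H.nonzero c hc ?_⟩
  · rw [_root_.sq]; exact H.sq F (H.orthN hc)
  · have := H.rank F hc
    rw [e, Units.val_one, sub_self, Matrix.rank_zero] at this
    exact this.symm

theorem Data.exists_conj {g : GL D.Idx F} (hg : g ∈ D.group F) (h2 : orderOf g = 2) :
    ∃ R ∈ ranks.map RankCert.rep, Cn D F g (X1 D F R) := by
  obtain ⟨R, hR, hne, e⟩ := exists_class H.checked H.sl H.comm H.cert_ok hg h2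
  exact ⟨R, H.cover R hR hne, e⟩

theorem Data.rep_inj {R₁ R₂ : List ℕ} (h₁ : R₁ ∈ ranks.map RankCert.rep) (h₂ : R₂ ∈ ranks.map RankCert.rep)
    (e : Cn D F (X1 D F R₁) (X1 D F R₂)) : R₁ = R₂ := by
  obtain ⟨c₁, hc₁, rfl⟩ := List.mem_map.1 h₁
  obtain ⟨c₂, hc₂, rfl⟩ := List.mem_map.1 h₂
  obtain ⟨g, -, hg⟩ := e
  have hk : c₁.k = c₂.k := by rw [← H.rank F hc₁, ← H.rank F hc₂, rank_conj F hg]
  rw [List.inj_on_of_nodup_map H.distinct hc₁ hc₂ hk]

theorem Data.count :
    (ConjClasses.mk '' {g : ↥(D.group F) | orderOf g = 2}).ncard = ranks.length := by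
  classical
  set L := ranks.map RankCert.rep with hL
  have hnd : L.Nodup := by
    refine List.Nodup.map_on (fun a ha b hb e => ?_) (List.Nodup.of_map _ H.distinct)
    refine List.inj_on_of_nodup_map H.distinct ha hb ?_
    rw [← H.rank F ha, ← H.rank F hb, e]
  have key : ∀ (u v : ↥(D.group F)), IsConj u v ↔ Cn D F (u : GL D.Idx F) v := by
    intro u v
    rw [isConj_iff]
    constructor
    · rintro ⟨c, rfl⟩
      exact ⟨c, c.2, by rw [Subgroup.coe_mul, Subgroup.coe_mul, Subgroup.coe_inv]⟩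
    · rintro ⟨x, hx, e⟩
      exact ⟨⟨x, hx⟩, Subtype.ext (by rw [Subgroup.coe_mul, Subgroup.coe_mul, Subgroup.coe_inv]; exact e)⟩
  have hex : ∀ R : {R // R ∈ L}, ∃ g : ↥(D.group F), (g : GL D.Idx F) = X1 D F R.1 :=
    fun R => ⟨⟨_, (H.order F R.2).1⟩, rfl⟩
  choose y hy using hex
  have hinj : Function.Injective fun R => ConjClasses.mk (y R) := fun a b e => by
    have h := (key _ _).1 (ConjClasses.mk_eq_mk_iff_isConj.1 e)
    rw [hy, hy] at h
    exact Subtype.ext (H.rep_inj F a.2 b.2 h)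
  have himg : ConjClasses.mk '' {g : ↥(D.group F) | orderOf g = 2} = Set.range fun R => ConjClasses.mk (y R) := by
    refine Set.Subset.antisymm ?_ ?_
    · rintro _ ⟨g, hg, rfl⟩
      obtain ⟨R, hR, e⟩ := H.exists_conj F g.2 (by rw [Subgroup.orderOf_coe]; exact hg)
      refine ⟨⟨R, hR⟩, Eq.symm ?_⟩
      rw [ConjClasses.mk_eq_mk_iff_isConj, key, hy]
      exact e
    · rintro _ ⟨R, rfl⟩
      refine ⟨y R, ?_, rfl⟩
      show orderOf (y R) = 2
      rw [← Subgroup.orderOf_coe, hy]
      exact (H.order F R.2).2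
  rw [himg, Set.ncard_range_of_injective hinj, Nat.card_eq_fintype_card]
  rw [Fintype.card_of_subtype L.toFinset (fun x => List.mem_toFinset), List.toFinset_card_of_nodup hnd, hL,
    List.length_map]

/-- The three-part classification statement for a list of matrices. -/
theorem Data.spec (M : List (Matrix D.Idx D.Idx F))
    (hM : M = ranks.map fun c => ((X1 D F c.rep : GL D.Idx F) : Matrix D.Idx D.Idx F)) :
    (∀ y : GL D.Idx F, (y : Matrix D.Idx D.Idx F) ∈ M → y ∈ D.group F ∧ orderOf y = 2) ∧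
    (∀ g ∈ D.group F, orderOf g = 2 → ∃ y ∈ D.group F, (y : Matrix D.Idx D.Idx F) ∈ M ∧
      ∃ h ∈ D.group F, h * g * h⁻¹ = y) ∧
    (∀ y₁ ∈ D.group F, ∀ y₂ ∈ D.group F, (y₁ : Matrix D.Idx D.Idx F) ∈ M → (y₂ : Matrix D.Idx D.Idx F) ∈ M →
      (∃ h ∈ D.group F, h * y₁ * h⁻¹ = y₂) → (y₁ : Matrix D.Idx D.Idx F) = (y₂ : Matrix D.Idx D.Idx F)) := by
  subst hM
  have key : ∀ y : GL D.Idx F, (y : Matrix D.Idx D.Idx F) ∈ (ranks.map fun c =>
      ((X1 D F c.rep : GL D.Idx F) : Matrix D.Idx D.Idx F)) → ∃ R ∈ ranks.map RankCert.rep, y = X1 D F R := by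
    intro y hy
    obtain ⟨c, hc, e⟩ := List.mem_map.1 hy
    exact ⟨_, List.mem_map_of_mem hc, (Units.ext e).symm⟩
  refine ⟨fun y hy => ?_, fun g hg h2 => ?_, fun y₁ _ y₂ _ m₁ m₂ ⟨x, hx, e⟩ => ?_⟩
  · obtain ⟨R, hR, rfl⟩ := key y hy
    exact H.order F hR
  · obtain ⟨R, hR, x, hx, e⟩ := H.exists_conj F hg h2
    obtain ⟨c, hc, rfl⟩ := List.mem_map.1 hR
    exact ⟨_, (H.order F hR).1, List.mem_map.2 ⟨c, hc, rfl⟩, x, hx, e⟩
  · obtain ⟨R₁, h₁, rfl⟩ := key y₁ m₁
    obtain ⟨R₂, h₂, rfl⟩ := key y₂ m₂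
    rw [H.rep_inj F h₁ h₂ ⟨x, hx, e⟩]

end CfsgLib.InvolSL
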