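import Mathlib

/-!
The sets of roots of type E6 orthogonal to stable sets of orthogonal roots.
-/

set_option autoImplicit false

namespace CfsgLib.InvolSL.E6T

/-- The roots orthogonal to each root, as masks. -/
def perpM : List ℕ := ([[2233855783852898304, 16365945248158369536, 58035437693122815168, 97542007215581663904, 121187891948949309792, 445494087879850091544],
    [743253087612690059796, 896022207224981178636, 1347534893554733363346, 1514125558484246014026, 1846438424902090233894, 2534180609468557624977],
    [2704801470495736530249, 3039129434959005483813, 3670910084450616869091, 4574793590208167149599, 513627881160616975320, 843076477263365025204],
    [1003911578992513660524, 1447070061624811605618, 1580241800703659627946, 1840531993572606567366, 2092637010349211815566, 1967556269733604660566],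
    [1711338597204409033530, 1162424104760348492028, 2629682786479407133041, 2754785748480632187561, 3011041552807658872005, 3559996497154519023363],
    [3275247781360612192653, 3142092402173903284821, 2881837410360561343545, 3879241216166500422219, 3718402211039933155731, 4208705274525463471143],
    [4208705274525463471143, 3718402211039933155731, 3879241216166500422219, 2881837410360561343545, 3142092402173903284821, 3275247781360612192653],
    [3559996497154519023363, 3011041552807658872005, 2754785748480632187561, 2629682786479407133041, 1162424104760348492028, 1711338597204409033530],
    [1967556269733604660566, 2092637010349211815566, 1840531993572606567366, 1580241800703659627946, 1447070061624811605618, 1003911578992513660524],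
    [843076477263365025204, 513627881160616975320, 4574793590208167149599, 3670910084450616869091, 3039129434959005483813, 2704801470495736530249],
    [2534180609468557624977, 1846438424902090233894, 1514125558484246014026, 1347534893554733363346, 896022207224981178636, 743253087612690059796],
    [445494087879850091544, 121187891948949309792, 97542007215581663904, 58035437693122815168, 16365945248158369536, 2233855783852898304]] : List (List ℕ)).flatten

/-- The masks met in the induction. -/
def masks : List ℕ := ([[4722366482869645213695, 2233855783852898304, 16365945248158369536, 58035437693122815168, 11488251723644928, 47269993349214374208],
    [743253087612690059796, 600674443661080004868, 1347534893554733363346, 1218647195898517653570, 1772051612133844322310, 2534180609468557624977],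
    [2407311361172217004353, 2960711589359463432453, 3578670690060565741635, 4132070884171273207815, 1003911578992513660524, 1580241800703659627946],
    [1817004309406761877830, 1711338597204409033530, 1162424104760348492028, 2754785748480632187561, 2989527853982874077253, 3552160233261728270595],
    [2881837410360561343545, 32597593817088, 554050781184, 17592320262144, 1585270106450061312, 1152921504606849024],
    [1801492730786912256, 3804465416110080, 140737505132544, 2251799814733824, 11674034205074932992, 9223372036854776064],
    [13913871151841968896, 10494840947343360, 70368777732096, 9007199255003136, 39488197051616863296, 36893488147419103296],
    [55439311516010447040, 595488566282281292292, 590295810358705651716, 738058914416199811092, 1199633015863878226050, 1180591620717411303426],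
    [1328492086480170197010, 2384264190079147836033, 2361183241434822606849, 2511099646373009622033, 996124184533517992044, 1558749884126477680938],
    [2731272451788514527273, 0]] : List (List ℕ)).flatten

end CfsgLib.InvolSL.E6T
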