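import Cfsg.Agent.Lib.InvolSL.Upper

/-!
The rank of `u - 1` for products of root elements with coefficient one in characteristic two, by certificates.
-/

set_option autoImplicit false
set_option linter.unusedSectionVars false

namespace CfsgLib.InvolSL

open Cfsg.Lie CfsgLib.Chev Matrix

/-- The sum modulo two of the entries of a list selected by a mask. -/
def sel : List ℕ → ℕ → ℕ
  | [], _ => 0
  | a :: A, m => Nat.xor (bif m.testBit 0 then a else 0) (sel A (m / 2))

/-- The product of two bit matrices given by their columns. -/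
def mulC (A B : List ℕ) : List ℕ := B.map (sel A)

/-- A certificate that a representative has a given rank. -/
structure RankCert where
  /-- the representative -/
  rep : List ℕ
  /-- the rank -/
  k : ℕ
  /-- left factor -/
  A : List ℕ
  /-- right factor -/
  B : List ℕ
  /-- left inverse -/
  P : List ℕ
  /-- right inverse -/
  Q : List ℕ

/-- The identity bit matrix. -/
def idC (n : ℕ) : List ℕ := (List.range n).map fun c => 2 ^ c

/-- The mask of the odd coordinates of a sparse vector. -/
noncomputable def maskOf : List (ℕ × ℤ) → ℕ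
  | [] => 0
  | p :: L => Nat.xor (bif decide (p.2 % 2 = 1) then 2 ^ p.1 else 0) (maskOf L)

/-- The columns of a root element with coefficient one, modulo two. -/
noncomputable def xC (D : ChevalleyDatum) (T : Tabs) (r : ℕ) : List ℕ :=
  (List.range (D.nroots + D.rank)).map fun c =>
    Nat.xor (2 ^ c) (maskOf (cat (decCode D T (field (T.t1.get r) c))
      (cat (decCode D T (field (T.t2.get r) c)) (decCode D T (field (T.t3.get r) c)))))

/-- The columns of `u - 1` for a product of root elements. -/
noncomputable def mC (D : ChevalleyDatum) (T : Tabs) (R : List ℕ) : List ℕ :=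
  List.zipWith Nat.xor (R.foldr (fun r acc => mulC (xC D T r) acc) (idC (D.nroots + D.rank)))
    (idC (D.nroots + D.rank))

/-- The check of a rank certificate. -/
noncomputable def rankTest (D : ChevalleyDatum) (T : Tabs) (c : RankCert) : Bool :=
  let M := mC D T c.rep
  c.rep.all (fun r => decide (r < D.nroots)) &&
  decide (c.A.length = c.k ∧ c.B.length = D.nroots + D.rank ∧ c.P.length = D.nroots + D.rank ∧ c.Q.length = c.k) &&
  decide (mulC c.A c.B = M) && decide (mulC (mulC c.P M) c.Q = idC c.k)

variable (F : Type*) [Field F]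

/-- A bit as a scalar. -/
def bitF (b : Bool) : F := if b then 1 else 0

/-- The matrix of a bit matrix given by its columns. -/
def bm (L : List ℕ) (a b : ℕ) : Matrix (Fin a) (Fin b) F :=
  Matrix.of fun i j => bitF F ((L.getD j 0).testBit i)

variable [CharP F 2]

theorem bitF_xor (a b : Bool) : bitF F (a ^^ b) = bitF F a + bitF F b := by
  cases a <;> cases b <;> simp [bitF, CharTwo.add_self_eq_zero]

theorem bitF_sel (A : List ℕ) (m i : ℕ) :
    bitF F ((sel A m).testBit i) =
      ∑ j : Fin A.length, bitF F ((A.getD j 0).testBit i) * bitF F (m.testBit j) := by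
  induction A generalizing m with
  | nil => simp [sel, bitF]
  | cons a A ih =>
      show bitF F (((bif m.testBit 0 then a else 0) ^^^ sel A (m / 2)).testBit i) = _
      rw [Nat.testBit_xor, bitF_xor, ih]
      show _ = ∑ j : Fin (A.length + 1), _
      rw [Fin.sum_univ_succ]
      congr 1
      · cases hm : m.testBit 0 <;> simp only [List.getD_cons_zero, Fin.val_zero, hm] <;> simp [bitF]
      · refine Finset.sum_congr rfl fun j _ => ?_
        simp [Nat.testBit_succ]

theorem bm_mul {A B : List ℕ} {a n b : ℕ} (hA : A.length = n) (hb : b ≤ B.length) :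
    bm F (mulC A B) a b = bm F A a n * bm F B n b := by
  subst hA
  ext i j
  rw [Matrix.mul_apply]
  simp only [bm, Matrix.of_apply, mulC]
  rw [List.getD_eq_getElem _ _ (by simp; omega), List.getElem_map, bitF_sel,
    List.getD_eq_getElem _ _ (show j.val < B.length by omega)]

theorem bm_id (n : ℕ) : bm F (idC n) n n = 1 := by
  ext i j
  simp only [bm, Matrix.of_apply, idC]
  rw [List.getD_eq_getElem _ _ (by simp), List.getElem_map, List.getElem_range, Nat.testBit_two_pow, Matrix.one_apply]
  by_cases e : i = j
  · subst e; simp [bitF]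
  · rw [if_neg e, decide_eq_false (fun h => e (Fin.ext h.symm))]
    simp [bitF]

theorem cast_eq_bit (z : ℤ) : (z : F) = bitF F (decide (z % 2 = 1)) := by
  have h2 : (2 : F) = 0 := CharTwo.two_eq_zero
  have e := congrArg (fun x : ℤ => (x : F)) (Int.emod_add_mul_ediv z 2)
  simp only [Int.cast_add, Int.cast_mul, Int.cast_ofNat, h2, zero_mul, add_zero] at e
  rw [← e]
  rcases Int.emod_two_eq_zero_or_one z with h | h <;> simp [h, bitF]

theorem bitF_mask (L : List (ℕ × ℤ)) (i : ℕ) : bitF F ((maskOf L).testBit i) = (coeffAt L i : F) := by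
  induction L with
  | nil => simp [maskOf, bitF]
  | cons p L ih =>
      show bitF F (((bif decide (p.2 % 2 = 1) then 2 ^ p.1 else 0) ^^^ maskOf L).testBit i) = _
      rw [Nat.testBit_xor, bitF_xor, ih, coeffAt_cons, Int.cast_add]
      congr 1
      by_cases e : p.1 = i
      · rw [if_pos e, cast_eq_bit]
        cases decide (p.2 % 2 = 1) <;> simp [e, bitF]
      · rw [if_neg e, Int.cast_zero]
        cases decide (p.2 % 2 = 1) <;> simp [e, bitF]

variable {D : ChevalleyDatum} {T : Tabs}

/-- The bijection of the coordinate indices with an initial segment. -/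
noncomputable def cdEquiv (D : ChevalleyDatum) : D.Idx ≃ Fin (D.nroots + D.rank) :=
  Equiv.ofBijective (fun x => ⟨cd D x, cd_lt x⟩) <| by
    rw [Fintype.bijective_iff_injective_and_card]
    exact ⟨fun x y e => cd_injective (Fin.ext_iff.1 e), by simp [add_comm]⟩

theorem cdEquiv_val (x : D.Idx) : (cdEquiv D x : ℕ) = cd D x := rfl

variable (hc : Checked D T)
include hc

theorem bm_xC {r : ℕ} (hr : r < D.nroots) :
    ((elX D F r 1 : GL D.Idx F) : Matrix D.Idx D.Idx F) =
      (bm F (xC D T r) (D.nroots + D.rank) (D.nroots + D.rank)).submatrix (cdEquiv D) (cdEquiv D) := by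
  rw [coe_elX hc F hr, xMat_eq hc F hr]
  ext i j
  simp only [xTab, Matrix.add_apply, Matrix.smul_apply, Matrix.map_apply, smul_eq_mul, one_pow, one_mul,
    Matrix.submatrix_apply, bm, Matrix.of_apply, xC, cdEquiv_val]
  rw [List.getD_eq_getElem _ _ (by simpa using cd_lt j), List.getElem_map, List.getElem_range]
  show _ = bitF F ((2 ^ cd D j ^^^ _).testBit (cd D i))
  rw [Nat.testBit_xor, bitF_xor, bitF_mask, coeffAt_cat, coeffAt_cat, Int.cast_add, Int.cast_add, Nat.testBit_two_pow,
    tabMat_apply, tabMat_apply, tabMat_apply, tabK_one, tabK_two, tabK_three]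
  simp only [Int.coe_castRingHom]
  by_cases e : i = j
  · subst e; simp [bitF]; ring
  · rw [Matrix.one_apply_ne e, decide_eq_false (fun h => e (cd_injective h.symm))]
    simp [bitF]; ring

theorem bm_prod {R : List ℕ} (hR : ∀ r ∈ R, r < D.nroots) :
    ((X1 D F R : GL D.Idx F) : Matrix D.Idx D.Idx F) =
      (bm F (R.foldr (fun r acc => mulC (xC D T r) acc) (idC (D.nroots + D.rank)))
        (D.nroots + D.rank) (D.nroots + D.rank)).submatrix (cdEquiv D) (cdEquiv D) ∧
    (R.foldr (fun r acc => mulC (xC D T r) acc) (idC (D.nroots + D.rank))).length = D.nroots + D.rank := by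
  induction R with
  | nil => exact ⟨by simp [X1, bm_id, Matrix.submatrix_one_equiv], by simp [idC]⟩
  | cons r R ih =>
      obtain ⟨e, hl⟩ := ih fun s hs => hR s (List.mem_cons_of_mem _ hs)
      refine ⟨?_, by rw [List.foldr_cons, mulC, List.length_map]; exact hl⟩
      simp only [X1, List.map_cons, List.prod_cons, Units.val_mul, List.foldr_cons] at e ⊢
      rw [e, bm_xC F hc (hR r List.mem_cons_self), Matrix.submatrix_mul_equiv,
        bm_mul F (n := D.nroots + D.rank) (by simp [xC]) hl.ge]

theorem rank_X1 [Fintype F] {c : RankCert} (h : rankTest D T c = true) :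
    ((((X1 D F c.rep : GL D.Idx F) : Matrix D.Idx D.Idx F)) - 1).rank = c.k := by
  simp only [rankTest, Bool.and_eq_true, decide_eq_true_iff, List.all_eq_true] at h
  obtain ⟨⟨⟨hR, hA, hB, hP, hQ⟩, hAB⟩, hPQ⟩ := h
  set n := D.nroots + D.rank
  obtain ⟨e, hl⟩ := bm_prod F hc hR
  set U := c.rep.foldr (fun r acc => mulC (xC D T r) acc) (idC n)
  have hM : bm F (mC D T c.rep) n n = bm F U n n - 1 := by
    rw [← bm_id F n]
    ext i j
    simp only [mC, bm, Matrix.of_apply, Matrix.sub_apply]
    have hj1 : j.val < U.length := hl.symm ▸ j.2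
    have hj2 : j.val < (idC n).length := by simp [idC]
    change bitF F (((List.zipWith Nat.xor U (idC n)).getD j 0).testBit i) = _
    rw [List.getD_eq_getElem _ _ (by rw [List.length_zipWith]; omega), List.getElem_zipWith,
      List.getD_eq_getElem U 0 hj1, List.getD_eq_getElem (idC n) 0 hj2]
    show bitF F ((U[j.val] ^^^ (idC n)[j.val]).testBit i) = _
    rw [Nat.testBit_xor, bitF_xor, CharTwo.sub_eq_add]
  have hMl : (mC D T c.rep).length = n := by
    show (List.zipWith Nat.xor U (idC n)).length = n
    rw [List.length_zipWith, hl]; simp [idC, n]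
  rw [e, ← Matrix.submatrix_one_equiv (cdEquiv D), ]
  show ((bm F U n n - 1).submatrix (cdEquiv D) (cdEquiv D)).rank = c.k
  rw [Matrix.rank_submatrix, ← hM]
  refine le_antisymm ?_ ?_
  · rw [← hAB, bm_mul F (a := n) hA hB.ge]
    exact (Matrix.rank_mul_le_left _ _).trans ((Matrix.rank_le_card_width _).trans (by simp))
  · have h1 : bm F (idC c.k) c.k c.k = bm F c.P c.k n * bm F (mC D T c.rep) n n * bm F c.Q n c.k := by
      rw [← hPQ, bm_mul F (a := c.k) (n := n) (by simp [mulC, hMl]) hQ.ge, bm_mul F hP hMl.ge]
    have h2 : (bm F (idC c.k) c.k c.k).rank = c.k := by rw [bm_id, Matrix.rank_one, Fintype.card_fin]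
    rw [← h2, h1]
    exact (Matrix.rank_mul_le_left _ _).trans (Matrix.rank_mul_le_right _ _)

omit hc in
/-- Conjugate elements have the same rank of `g - 1`. -/
theorem rank_conj [Fintype F] {u v : GL D.Idx F} {g : GL D.Idx F} (e : g * u * g⁻¹ = v) :
    ((u : Matrix D.Idx D.Idx F) - 1).rank = ((v : Matrix D.Idx D.Idx F) - 1).rank := by
  subst e
  have h : ((g * u * g⁻¹ : GL D.Idx F) : Matrix D.Idx D.Idx F) - 1 =
      (g : Matrix D.Idx D.Idx F) * ((u : Matrix D.Idx D.Idx F) - 1) * ((g⁻¹ : GL D.Idx F) : Matrix D.Idx D.Idx F) := by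
    rw [mul_sub, mul_one, sub_mul, ← Units.val_mul, ← Units.val_mul, ← Units.val_mul, mul_inv_cancel, Units.val_one]
  rw [h, Matrix.rank_mul_eq_left_of_isUnit_det _ _ (Matrix.isUnits_det_units _),
    Matrix.rank_mul_eq_right_of_isUnit_det _ _ (Matrix.isUnits_det_units _)]

end CfsgLib.InvolSL
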