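import Mathlib

/-!
Simply laced root systems with root elements in characteristic two: pairings, the Heisenberg layer of a maximal root,
and the coordinates on it.
-/

set_option autoImplicit false
set_option linter.unusedSectionVars false

namespace CfsgLib.InvolSL

universe u v w

/-- Root elements of a simply laced root system in characteristic two. -/
structure Sys (ι : Type u) (n : ℕ) (F : Type v) [Field F] (G : Type w) [Group G] where
  /-- the coordinates of a root -/
  vec : ι → Fin n → ℤ
  /-- the bilinear form -/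
  bil : (Fin n → ℤ) →+ (Fin n → ℤ) →+ ℤ
  symm : ∀ r s, bil (vec r) (vec s) = bil (vec s) (vec r)
  self : ∀ r, bil (vec r) (vec r) = 2
  two_eq : ∀ r s, bil (vec r) (vec s) = 2 → r = s
  low : ∀ r s, -2 ≤ bil (vec r) (vec s)
  high : ∀ r s, bil (vec r) (vec s) ≤ 2
  inj : Function.Injective vec
  neg : ∀ r, ∃ s, vec s = -vec r
  opp : ∀ r s, bil (vec r) (vec s) = -2 → vec s = -vec r
  sum : ∀ r s, bil (vec r) (vec s) = -1 → ∃ k, vec k = vec r + vec s
  /-- the positive roots -/
  pos : ι → Prop
  /-- a functional positive on the positive roots -/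
  ht : (Fin n → ℤ) →+ ℤ
  pos_iff : ∀ r, pos r ↔ 0 < ht (vec r)
  ht_ne : ∀ r, ht (vec r) ≠ 0
  /-- the root elements -/
  x : ι → F → G
  two : (2 : F) = 0
  add : ∀ r s t, x r s * x r t = x r (s + t)
  inj_x : ∀ r t, x r t = 1 → t = 0
  comm : ∀ r s, 0 ≤ bil (vec r) (vec s) → ∀ t u, Commute (x r t) (x s u)
  term : ∀ r s k, bil (vec r) (vec s) = -1 → vec k = vec r + vec s →
    ∀ t u, x s u * x r t = x r t * x s u * x k (t * u)
  inter : ∀ h, ∀ g ∈ Subgroup.closure {g | ∃ r t, bil (vec r) (vec h) = 0 ∧ g = x r t},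
    g ∈ Subgroup.closure {g | ∃ r t, 1 ≤ bil (vec r) (vec h) ∧ g = x r t} → g = 1

variable {ι : Type u} {n : ℕ} {F : Type v} [Field F] {G : Type w} [Group G] (R : Sys ι n F G)

namespace Sys

/-- The pairing of two roots. -/
def B (r s : ι) : ℤ := R.bil (R.vec r) (R.vec s)

theorem B_symm (r s : ι) : R.B r s = R.B s r := R.symm r s

theorem B_self (r : ι) : R.B r r = 2 := R.self r

theorem B_cases (r s : ι) : R.B r s = -2 ∨ R.B r s = -1 ∨ R.B r s = 0 ∨ R.B r s = 1 ∨ R.B r s = 2 := by
  have := R.low r s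
  have := R.high r s
  rw [B]
  omega

theorem B_add {r s k : ι} (h : R.vec k = R.vec r + R.vec s) (a : ι) : R.B k a = R.B r a + R.B s a := by
  simp [B, h]

theorem B_add' {r s k : ι} (h : R.vec k = R.vec r + R.vec s) (a : ι) : R.B a k = R.B a r + R.B a s := by
  simp [B, h]

theorem B_neg {r s : ι} (h : R.vec s = -R.vec r) (a : ι) : R.B s a = -R.B r a := by simp [B, h]

theorem exists_sub {r s : ι} (h : R.B r s = 1) : ∃ k, R.vec k = R.vec r - R.vec s := by
  obtain ⟨m, hm⟩ := R.neg s
  obtain ⟨k, hk⟩ := R.sum r m (by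
    have := R.B_neg hm r
    rw [R.B_symm m r, R.B_symm s r, h] at this
    exact this)
  exact ⟨k, by rw [hk, hm, sub_eq_add_neg]⟩

theorem B_sub {r s k : ι} (h : R.vec k = R.vec r - R.vec s) (a : ι) : R.B k a = R.B r a - R.B s a := by
  simp [B, h]

/-- An index with the given coordinates, if there is one. -/
noncomputable def idx [Inhabited ι] (v : Fin n → ℤ) : ι :=
  open Classical in if h : ∃ k, R.vec k = v then h.choose else default

theorem vec_idx [Inhabited ι] {v : Fin n → ℤ} (h : ∃ k, R.vec k = v) : R.vec (R.idx v) = v := by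
  rw [idx, dif_pos h]
  exact h.choose_spec

theorem x_zero (r : ι) : R.x r 0 = 1 := mul_eq_left.1 ((R.add r 0 0).trans (by rw [add_zero]))

include R in
theorem add_self_F (t : F) : t + t = 0 := by rw [← two_mul, R.two, zero_mul]

theorem x_inv (r : ι) (t : F) : (R.x r t)⁻¹ = R.x r t := by
  rw [inv_eq_iff_mul_eq_one, R.add, R.add_self_F, R.x_zero]

theorem x_mul_self (r : ι) (t : F) : R.x r t * R.x r t = 1 := by rw [R.add, R.add_self_F, R.x_zero]

theorem conj_term {r s k : ι} (h : R.B r s = -1) (hk : R.vec k = R.vec r + R.vec s) (t u : F) :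
    R.x r t * R.x s u * (R.x r t)⁻¹ = R.x s u * R.x k (t * u) := by
  rw [R.x_inv, mul_assoc, R.term r s k h hk t u, ← mul_assoc, ← mul_assoc, R.x_mul_self, one_mul]

theorem conj_comm {r s : ι} (h : 0 ≤ R.B r s) (t u : F) : R.x r t * R.x s u * (R.x r t)⁻¹ = R.x s u := by
  rw [(R.comm r s h t u).eq, mul_inv_cancel_right]

/-- The subgroup generated by the root elements of a set of roots. -/
def gen (P : ι → Prop) : Subgroup G := Subgroup.closure {g | ∃ r t, P r ∧ g = R.x r t}

theorem x_mem_gen {P : ι → Prop} {r : ι} (h : P r) (t : F) : R.x r t ∈ R.gen P :=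
  Subgroup.subset_closure ⟨r, t, h, rfl⟩

theorem gen_mono {P Q : ι → Prop} (h : ∀ r, P r → Q r) : R.gen P ≤ R.gen Q :=
  Subgroup.closure_mono fun _ ⟨r, t, hr, e⟩ => ⟨r, t, h r hr, e⟩

theorem gen_le {P : ι → Prop} {H : Subgroup G} (h : ∀ r t, P r → R.x r t ∈ H) : R.gen P ≤ H :=
  (Subgroup.closure_le _).2 fun _ ⟨r, t, hr, e⟩ => e ▸ h r t hr

theorem gen_commute {P : ι → Prop} {a : ι} (h : ∀ r, P r → 0 ≤ R.B r a) {g : G} (hg : g ∈ R.gen P)
    (u : F) : Commute g (R.x a u) := by
  induction hg using Subgroup.closure_induction with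
  | mem y hy => obtain ⟨r, t, hr, rfl⟩ := hy; exact R.comm r a (h r hr) t u
  | one => exact Commute.one_left _
  | mul y z _ _ hy hz => exact hy.mul_left hz
  | inv y _ hy => exact hy.inv_left

/-- Conjugation by a root element preserves a generated subgroup closed under adding the root. -/
theorem conj_mem_gen {P : ι → Prop} {r : ι} (hr : ∀ s, P s → R.B r s = -2 → False)
    (hcl : ∀ s k, P s → R.B r s = -1 → R.vec k = R.vec r + R.vec s → P k) (t : F) {g : G}
    (hg : g ∈ R.gen P) : R.x r t * g * (R.x r t)⁻¹ ∈ R.gen P := by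
  induction hg using Subgroup.closure_induction with
  | mem y hy =>
      obtain ⟨s, u, hs, rfl⟩ := hy
      rcases R.B_cases r s with h | h | h | h | h
      · exact (hr s hs h).elim
      · obtain ⟨k, hk⟩ := R.sum r s h
        rw [R.conj_term h hk]
        exact mul_mem (R.x_mem_gen hs u) (R.x_mem_gen (hcl s k hs h hk) _)
      all_goals rw [R.conj_comm (by omega)]; exact R.x_mem_gen hs u
  | one => simp
  | mul y z _ _ hy hz => rw [← conj_mul]; exact mul_mem hy hz
  | inv y _ hy => rw [← conj_inv]; exact inv_mem hy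

/-! ### The layer of a root -/

/-- The roots orthogonal to a set. -/
def Perp (A : Finset ι) (r : ι) : Prop := ∀ a ∈ A, R.B r a = 0

theorem perp_neg {A : Finset ι} {r s : ι} (h : R.vec s = -R.vec r) (hr : R.Perp A r) : R.Perp A s :=
  fun a ha => by rw [R.B_neg h, hr a ha, neg_zero]

theorem perp_add {A : Finset ι} {r s k : ι} (h : R.vec k = R.vec r + R.vec s) (hr : R.Perp A r)
    (hs : R.Perp A s) : R.Perp A k :=
  fun a ha => by rw [R.B_add h, hr a ha, hs a ha, add_zero]

theorem perp_sub {A : Finset ι} {r s k : ι} (h : R.vec k = R.vec r - R.vec s) (hr : R.Perp A r)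
    (hs : R.Perp A s) : R.Perp A k :=
  fun a ha => by rw [R.B_sub h, hr a ha, hs a ha, sub_zero]

theorem perp_insert [DecidableEq ι] {A : Finset ι} {h r : ι} :
    R.Perp (insert h A) r ↔ R.B r h = 0 ∧ R.Perp A r := Finset.forall_mem_insert _ _ _

/-- A maximal root of the roots orthogonal to a set. -/
def Top (A : Finset ι) (h : ι) : Prop :=
  R.Perp A h ∧ R.pos h ∧ ∀ r, R.Perp A r → R.pos r → 0 ≤ R.B r h

theorem exists_top [Finite ι] {A : Finset ι} (hA : ∃ r, R.Perp A r) : ∃ h, R.Top A h := by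
  have hne : ∃ r, R.Perp A r ∧ R.pos r := by
    obtain ⟨r, hr⟩ := hA
    rcases lt_or_gt_of_ne (R.ht_ne r) with h | h
    · obtain ⟨s, hs⟩ := R.neg r
      exact ⟨s, R.perp_neg hs hr, (R.pos_iff s).2 (by rw [hs, map_neg]; omega)⟩
    · exact ⟨r, hr, (R.pos_iff r).2 h⟩
  obtain ⟨h, ⟨h1, h2⟩, hmax⟩ := (Set.toFinite {r | R.Perp A r ∧ R.pos r}).exists_maximalFor
    (fun r => R.ht (R.vec r)) _ hne
  refine ⟨h, h1, h2, fun r hr hp => ?_⟩
  have h2' := (R.pos_iff h).1 h2
  have hp' := (R.pos_iff r).1 hp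
  rcases R.B_cases r h with e | e | e | e | e
  · have := congrArg R.ht (R.opp r h e)
    rw [map_neg] at this
    omega
  · obtain ⟨k, hk⟩ := R.sum r h e
    have hk' : R.ht (R.vec k) = R.ht (R.vec r) + R.ht (R.vec h) := by rw [hk, map_add]
    have := hmax (j := k) ⟨R.perp_add hk hr h1, (R.pos_iff k).2 (by omega)⟩ (by
      show R.ht (R.vec h) ≤ R.ht (R.vec k)
      omega)
    simp only at this
    omega
  all_goals omega

variable {R} {A : Finset ι} {h : ι}

theorem Top.one_pos (T : R.Top A h) {r : ι} (hr : R.Perp A r) (h1 : R.B r h = 1) : R.pos r := by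
  by_contra hp
  obtain ⟨s, hs⟩ := R.neg r
  have := T.2.2 s (R.perp_neg hs hr) ((R.pos_iff s).2 (by
    rw [hs, map_neg]
    have := R.ht_ne r
    rw [R.pos_iff] at hp
    omega))
  rw [R.B_neg hs, h1] at this
  omega

variable (R)

/-- The roots spanning the unipotent radical at a maximal root. -/
def Rad (A : Finset ι) (h : ι) (r : ι) : Prop := r = h ∨ (R.Perp A r ∧ R.B r h = 1)

/-- The roots orthogonal to the maximal root. -/
def Lev (A : Finset ι) (h : ι) (r : ι) : Prop := R.Perp A r ∧ R.B r h = 0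

/-- The roots of the layer. -/
def Lay (A : Finset ι) (h : ι) (r : ι) : Prop := R.Perp A r ∧ R.B r h = 1

variable {R}

theorem rad_B {r : ι} (hr : R.Rad A h r) : 1 ≤ R.B r h := by
  rcases hr with rfl | ⟨-, e⟩
  · rw [R.B_self]; norm_num
  · omega

theorem Top.rad_pos (T : R.Top A h) {r : ι} (hr : R.Rad A h r) : R.pos r := by
  rcases hr with rfl | ⟨hp, e⟩
  · exact T.2.1
  · exact T.one_pos hp e

theorem Top.rad_perp (T : R.Top A h) {r : ι} (hr : R.Rad A h r) : R.Perp A r := by
  rcases hr with rfl | ⟨hp, -⟩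
  · exact T.1
  · exact hp

theorem Top.lev_conj (T : R.Top A h) {r : ι} (hr : R.Lev A h r) (t : F) {g : G}
    (hg : g ∈ R.gen (R.Rad A h)) : R.x r t * g * (R.x r t)⁻¹ ∈ R.gen (R.Rad A h) := by
  refine R.conj_mem_gen (fun s hs e => ?_) (fun s k hs e hk => Or.inr ⟨R.perp_add hk hr.1 (T.rad_perp hs), ?_⟩) t hg
  · have := R.B_neg (R.opp r s e) h
    have := rad_B hs
    rw [hr.2] at *
    omega
  · rw [R.B_add hk, hr.2, zero_add]
    rcases hs with rfl | ⟨-, e'⟩
    · rw [hr.2] at e; omega
    · exact e'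

theorem Top.lev_normalize (T : R.Top A h) {g : G} (hg : g ∈ R.gen (R.Lev A h)) :
    ∀ y ∈ R.gen (R.Rad A h), g * y * g⁻¹ ∈ R.gen (R.Rad A h) := by
  induction hg using Subgroup.closure_induction'' with
  | mem a ha => obtain ⟨r, t, hr, rfl⟩ := ha; exact fun y hy => T.lev_conj hr t hy
  | inv_mem a ha => obtain ⟨r, t, hr, rfl⟩ := ha; intro y hy; rw [R.x_inv]; exact T.lev_conj hr t hy
  | one => simp
  | mul a b _ _ iha ihb =>
      intro y hy
      rw [show a * b * y * (a * b)⁻¹ = a * (b * y * b⁻¹) * a⁻¹ by group]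
      exact iha _ (ihb y hy)

theorem Top.decomp (T : R.Top A h) {u : G} (hu : u ∈ R.gen fun r => R.pos r ∧ R.Perp A r) :
    ∃ l ∈ R.gen (fun r => R.pos r ∧ R.Lev A h r), ∃ q ∈ R.gen (R.Rad A h), u = l * q := by
  have hsub : R.gen (fun r => R.pos r ∧ R.Lev A h r) ≤ R.gen (R.Lev A h) := R.gen_mono fun r hr => hr.2
  induction hu using Subgroup.closure_induction with
  | mem y hy =>
      obtain ⟨r, t, ⟨hp, hr⟩, rfl⟩ := hy
      have h0 := T.2.2 r hr hp
      rcases R.B_cases r h with e | e | e | e | e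
      · omega
      · omega
      · exact ⟨_, R.x_mem_gen (P := fun r => R.pos r ∧ R.Lev A h r) ⟨hp, hr, e⟩ t, 1, one_mem _, (mul_one _).symm⟩
      · exact ⟨1, one_mem _, _, R.x_mem_gen (P := R.Rad A h) (Or.inr ⟨hr, e⟩) t, (one_mul _).symm⟩
      · exact ⟨1, one_mem _, _, R.x_mem_gen (P := R.Rad A h) (Or.inl (R.two_eq r h e)) t, (one_mul _).symm⟩
  | one => exact ⟨1, one_mem _, 1, one_mem _, (one_mul _).symm⟩
  | mul y z _ _ hy hz =>
      obtain ⟨l, hl, q, hq, rfl⟩ := hy
      obtain ⟨l', hl', q', hq', rfl⟩ := hz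
      refine ⟨l * l', mul_mem hl hl', l'⁻¹ * q * l' * q', mul_mem ?_ hq', by group⟩
      have := T.lev_normalize (inv_mem (hsub hl')) q hq
      rwa [inv_inv] at this
  | inv y _ hy =>
      obtain ⟨l, hl, q, hq, rfl⟩ := hy
      exact ⟨l⁻¹, inv_mem hl, l * q⁻¹ * l⁻¹, T.lev_normalize (hsub hl) _ (inv_mem hq), by group⟩

variable (R)

/-! ### Coordinates on the layer -/

variable [Inhabited ι]

/-- The layer root paired with `g`. -/
noncomputable def co (h g : ι) : ι := R.idx (R.vec h - R.vec g)

/-- The coordinate of `q` at the layer root `g`. -/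
noncomputable def coef (h : ι) (q : G) (g : ι) : F :=
  open Classical in
  if hc : R.B g h = 1 ∧ ∃ c, q * R.x (R.co h g) 1 * q⁻¹ = R.x (R.co h g) 1 * R.x h c then hc.2.choose else 0

variable {R}

theorem vec_co {g : ι} (hg : R.B g h = 1) : R.vec (R.co h g) = R.vec h - R.vec g :=
  R.vec_idx (R.exists_sub (by rw [R.B_symm]; exact hg))

theorem co_B {g : ι} (hg : R.B g h = 1) (a : ι) : R.B (R.co h g) a = R.B h a - R.B g a :=
  R.B_sub (vec_co hg) a

theorem co_lay {g : ι} (hh : R.Perp A h) (hg : R.Lay A h g) : R.Lay A h (R.co h g) :=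
  ⟨R.perp_sub (vec_co hg.2) hh hg.1, by rw [co_B hg.2, R.B_self, hg.2]; norm_num⟩

theorem B_co {g a : ι} (hg : R.B g h = 1) (ha : R.B a h = 1) : R.B a (R.co h g) = 1 - R.B a g := by
  rw [R.B_symm, co_B hg, R.B_symm h a, R.B_symm g a, ha]

theorem x_inj {r : ι} {a b : F} (e : R.x r a = R.x r b) : a = b := by
  have h1 : R.x r (a + b) = 1 := by rw [← R.add, e, R.x_mul_self]
  have := R.inj_x r _ h1
  calc a = (a + b) + b := by rw [add_assoc, R.add_self_F, add_zero]
    _ = b := by rw [this, zero_add]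

theorem coef_eq {g : ι} (hg : R.B g h = 1) {q : G} {c : F}
    (e : q * R.x (R.co h g) 1 * q⁻¹ = R.x (R.co h g) 1 * R.x h c) : R.coef h q g = c := by
  have hc : R.B g h = 1 ∧ ∃ c, q * R.x (R.co h g) 1 * q⁻¹ = R.x (R.co h g) 1 * R.x h c := ⟨hg, c, e⟩
  rw [coef, dif_pos hc]
  exact x_inj (mul_left_cancel (hc.2.choose_spec.symm.trans e))

theorem coef_out {g : ι} (hg : R.B g h ≠ 1) (q : G) : R.coef h q g = 0 := by
  rw [coef, dif_neg]
  exact fun hc => hg hc.1

theorem rad_commute {q : G} (hq : q ∈ R.gen (R.Rad A h)) (u : F) : Commute q (R.x h u) :=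
  R.gen_commute (fun r hr => by have := rad_B hr; omega) hq u

theorem coef_spec {g : ι} (hg : R.B g h = 1) {q : G} (hq : q ∈ R.gen (R.Rad A h)) :
    q * R.x (R.co h g) 1 * q⁻¹ = R.x (R.co h g) 1 * R.x h (R.coef h q g) := by
  suffices ∃ c, q * R.x (R.co h g) 1 * q⁻¹ = R.x (R.co h g) 1 * R.x h c by
    obtain ⟨c, hc⟩ := this
    rw [coef_eq hg hc]; exact hc
  set k := R.co h g
  induction hq using Subgroup.closure_induction'' with
  | one => exact ⟨0, by simp [R.x_zero]⟩
  | mem y hy =>
      obtain ⟨r, t, hr, rfl⟩ := hy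
      have hB : R.B r k = R.B r h - R.B r g := by rw [R.B_symm r k, co_B hg, R.B_symm h r, R.B_symm g r]
      rcases hr with rfl | ⟨hp, hr⟩
      · exact ⟨0, by rw [R.x_zero, mul_one, R.conj_comm (by rw [hB, R.B_self, R.B_symm, hg]; norm_num)]⟩
      · by_cases hh : R.B r g = 2
        · obtain rfl := R.two_eq r g hh
          exact ⟨t, by rw [R.conj_term (k := h) (by rw [hB, hr, hh]; norm_num) (by rw [vec_co hg]; abel), mul_one]⟩
        · have : R.B r g ≤ 2 := R.high r g
          exact ⟨0, by rw [R.x_zero, mul_one, R.conj_comm (by rw [hB, hr]; omega)]⟩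
  | inv_mem y hy =>
      obtain ⟨r, t, hr, rfl⟩ := hy
      have hB : R.B r k = R.B r h - R.B r g := by rw [R.B_symm r k, co_B hg, R.B_symm h r, R.B_symm g r]
      rw [R.x_inv]
      rcases hr with rfl | ⟨hp, hr⟩
      · exact ⟨0, by rw [R.x_zero, mul_one, R.conj_comm (by rw [hB, R.B_self, R.B_symm, hg]; norm_num)]⟩
      · by_cases hh : R.B r g = 2
        · obtain rfl := R.two_eq r g hh
          exact ⟨t, by rw [R.conj_term (k := h) (by rw [hB, hr, hh]; norm_num) (by rw [vec_co hg]; abel), mul_one]⟩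
        · have : R.B r g ≤ 2 := R.high r g
          exact ⟨0, by rw [R.x_zero, mul_one, R.conj_comm (by rw [hB, hr]; omega)]⟩
  | mul y z hy _ iy iz =>
      obtain ⟨a, ha⟩ := iy
      obtain ⟨b, hb⟩ := iz
      refine ⟨a + b, ?_⟩
      calc y * z * R.x k 1 * (y * z)⁻¹ = y * (z * R.x k 1 * z⁻¹) * y⁻¹ := by group
        _ = y * R.x k 1 * y⁻¹ * (y * R.x h b * y⁻¹) := by rw [hb]; group
        _ = R.x k 1 * R.x h a * R.x h b := by
            rw [ha, (rad_commute (A := A) hy b).eq, mul_inv_cancel_right]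
        _ = R.x k 1 * R.x h (a + b) := by rw [mul_assoc, R.add]

theorem coef_mul {p q : G} (hp : p ∈ R.gen (R.Rad A h)) (hq : q ∈ R.gen (R.Rad A h)) (g : ι) :
    R.coef h (p * q) g = R.coef h p g + R.coef h q g := by
  by_cases hg : R.B g h = 1
  · refine coef_eq hg ?_
    have ha := coef_spec (A := A) hg hp
    have hb := coef_spec (A := A) hg hq
    calc p * q * R.x (R.co h g) 1 * (p * q)⁻¹ = p * (q * R.x (R.co h g) 1 * q⁻¹) * p⁻¹ := by group
      _ = p * R.x (R.co h g) 1 * p⁻¹ * (p * R.x h (R.coef h q g) * p⁻¹) := by rw [hb]; group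
      _ = _ := by rw [ha, (rad_commute (A := A) hp _).eq, mul_inv_cancel_right, mul_assoc, R.add]
  · simp [coef_out hg]

theorem coef_one (g : ι) : R.coef h 1 g = 0 := by
  by_cases hg : R.B g h = 1
  · exact coef_eq hg (by simp [R.x_zero])
  · exact coef_out hg _

theorem coef_inv {p : G} (hp : p ∈ R.gen (R.Rad A h)) (g : ι) : R.coef h p⁻¹ g = R.coef h p g := by
  have := coef_mul (A := A) hp (inv_mem hp) g
  rw [mul_inv_cancel, coef_one] at this
  calc R.coef h p⁻¹ g = R.coef h p g + (R.coef h p g + R.coef h p⁻¹ g) := by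
        rw [← add_assoc, R.add_self_F, zero_add]
    _ = R.coef h p g := by rw [← this, add_zero]

theorem coef_h (t : F) (g : ι) : R.coef h (R.x h t) g = 0 := by
  by_cases hg : R.B g h = 1
  · refine coef_eq hg ?_
    rw [R.x_zero, mul_one, R.conj_comm (by rw [R.B_symm, co_B hg, R.B_self, hg]; norm_num)]
  · exact coef_out hg _

theorem coef_x [DecidableEq ι] {a : ι} (ha : R.B a h = 1) (t : F) (g : ι) :
    R.coef h (R.x a t) g = if a = g then t else 0 := by
  by_cases hg : R.B g h = 1
  · refine coef_eq hg ?_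
    split
    · subst a
      rw [R.conj_term (k := h) (by rw [B_co hg hg, R.B_self]; norm_num) (by rw [vec_co hg]; abel), mul_one]
    · rename_i ne
      have : R.B a g ≠ 2 := fun e => ne (R.two_eq a g e)
      have := R.high a g
      rw [R.x_zero, mul_one, R.conj_comm (by rw [B_co hg ha]; change R.B a g ≤ 2 at this; omega)]
  · rw [coef_out hg, if_neg]
    exact fun e => hg (e ▸ ha)

theorem exists_form {q : G} (hq : q ∈ R.gen (R.Rad A h)) {P : ι → Prop}
    (hP : ∀ g, R.Lay A h g → R.coef h q g ≠ 0 → P g) [Fintype ι] :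
    ∃ y ∈ R.gen (fun g => R.Lay A h g ∧ P g), ∃ z, q = y * R.x h z := by
  classical
  -- first: `q` agrees with the product of its coordinates up to the maximal root
  have hcomm : ∀ g k, R.Lay A h g → R.Lay A h k → ∀ a b, ∃ c,
      R.x g a * R.x k b = R.x k b * R.x g a * R.x h c := by
    intro g k hg hk a b
    by_cases e : R.B k g = -1
    · refine ⟨b * a, ?_⟩
      refine R.term k g h e ?_ b a
      obtain ⟨m, hm⟩ := R.sum k g e
      rw [← R.two_eq m h (show R.B m h = 2 by rw [R.B_add hm, hk.2, hg.2]; norm_num)]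
      exact hm
    · refine ⟨0, ?_⟩
      rw [R.x_zero, mul_one]
      refine (R.comm g k ?_ a b).eq
      rcases R.B_cases k g with e' | e' | e' | e' | e'
      · have := R.B_neg (R.opp k g e') h; rw [hg.2, hk.2] at this; omega
      all_goals (show 0 ≤ R.B g k; rw [R.B_symm]; omega)
  let L := Finset.univ.toList.filter (fun g => decide (R.Lay A h g))
  have hL : ∀ g, g ∈ L ↔ R.Lay A h g := fun g => by simp [L]
  have hLn : L.Nodup := (Finset.nodup_toList _).filter _
  let P' : (ι → F) → G := fun c => (L.map fun g => R.x g (c g)).prod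
  have key : ∀ {q}, q ∈ R.gen (R.Rad A h) → ∃ z, q = P' (R.coef h q) * R.x h z := by
    intro q hq
    have hins : ∀ (M : List ι), M.Nodup → (∀ m ∈ M, R.Lay A h m) → ∀ a ∈ M, ∀ t (c : ι → F), ∃ z,
        R.x a t * (M.map fun g => R.x g (c g)).prod =
          (M.map fun g => R.x g ((if g = a then t else 0) + c g)).prod * R.x h z := by
      intro M
      induction M with
      | nil => simp
      | cons m M ih =>
          intro hn hm a ha t c
          rw [List.nodup_cons] at hn
          simp only [List.map_cons, List.prod_cons]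
          by_cases e : m = a
          · subst e
            refine ⟨0, ?_⟩
            rw [R.x_zero, mul_one, if_pos rfl, ← mul_assoc, R.add]
            congr 2
            refine List.map_congr_left fun g hg => ?_
            rw [if_neg (fun e : g = m => hn.1 (e ▸ hg)), zero_add]
          · have ha' : a ∈ M := (List.mem_cons.1 ha).resolve_left (Ne.symm e)
            obtain ⟨z, hz⟩ := ih hn.2 (fun x hx => hm x (List.mem_cons_of_mem _ hx)) a ha' t c
            obtain ⟨d, hd⟩ := hcomm a m (hm a ha) (hm m List.mem_cons_self) t (c m)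
            have hx : Commute (R.x h d) (M.map fun g => R.x g (c g)).prod :=
              (rad_commute (A := A) (list_prod_mem fun y hy => by
                obtain ⟨g, hg, rfl⟩ := List.mem_map.1 hy
                exact R.x_mem_gen (Or.inr (hm g (List.mem_cons_of_mem _ hg))) _) d).symm
            refine ⟨z + d, ?_⟩
            rw [if_neg e, zero_add, ← mul_assoc, hd, mul_assoc _ (R.x h d), hx.eq, ← mul_assoc, mul_assoc (R.x m (c m)),
              hz, ← mul_assoc, mul_assoc _ (R.x h z), R.add]
    induction hq using Subgroup.closure_induction_left with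
    | one =>
        refine ⟨0, ?_⟩
        rw [R.x_zero, mul_one]
        refine (List.prod_eq_one fun y hy => ?_).symm
        obtain ⟨g, -, rfl⟩ := List.mem_map.1 hy
        rw [coef_one, R.x_zero]
    | mul_left y hy p hp ih =>
        obtain ⟨r, t, hr, rfl⟩ := hy
        obtain ⟨z, hz⟩ := ih
        have hp' : R.x r t ∈ R.gen (R.Rad A h) := R.x_mem_gen hr t
        rcases hr with rfl | hr
        · refine ⟨z + t, ?_⟩
          have e : R.coef r (R.x r t * p) = R.coef r p := funext fun g => by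
            rw [coef_mul hp' hp, coef_h, zero_add]
          rw [e, ← (rad_commute (A := A) hp t).eq]
          nth_rw 1 [hz]
          rw [mul_assoc, R.add]
        · obtain ⟨d, hd⟩ := hins L hLn (fun m hm => (hL m).1 hm) r ((hL r).2 hr) t (R.coef h p)
          refine ⟨d + z, ?_⟩
          nth_rw 1 [hz]
          show R.x r t * (_ * _) = _
          rw [← mul_assoc, hd, mul_assoc, R.add]
          congr 2
          refine List.map_congr_left fun g _ => ?_
          rw [coef_mul hp' hp, coef_x hr.2]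
          simp only [eq_comm]
    | inv_mul_cancel y hy p hp ih =>
        obtain ⟨r, t, hr, rfl⟩ := hy
        rw [R.x_inv]
        obtain ⟨z, hz⟩ := ih
        have hp' : R.x r t ∈ R.gen (R.Rad A h) := R.x_mem_gen hr t
        rcases hr with rfl | hr
        · refine ⟨z + t, ?_⟩
          have e : R.coef r (R.x r t * p) = R.coef r p := funext fun g => by
            rw [coef_mul hp' hp, coef_h, zero_add]
          rw [e, ← (rad_commute (A := A) hp t).eq]
          nth_rw 1 [hz]
          rw [mul_assoc, R.add]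
        · obtain ⟨d, hd⟩ := hins L hLn (fun m hm => (hL m).1 hm) r ((hL r).2 hr) t (R.coef h p)
          refine ⟨d + z, ?_⟩
          nth_rw 1 [hz]
          show R.x r t * (_ * _) = _
          rw [← mul_assoc, hd, mul_assoc, R.add]
          congr 2
          refine List.map_congr_left fun g _ => ?_
          rw [coef_mul hp' hp, coef_x hr.2]
          simp only [eq_comm]
  obtain ⟨z, hz⟩ := key hq
  refine ⟨P' (R.coef h q), list_prod_mem fun y hy => ?_, z, hz⟩
  obtain ⟨g, hg, rfl⟩ := List.mem_map.1 hy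
  by_cases e : R.coef h q g = 0
  · rw [e, R.x_zero]; exact one_mem _
  · exact R.x_mem_gen ⟨(hL g).1 hg, hP g ((hL g).1 hg) e⟩ _

/-- Conjugation by a root element orthogonal to the maximal root. -/
theorem Top.coef_conj (T : R.Top A h) {r : ι} (hr : R.Lev A h r) (t : F) {q : G}
    (hq : q ∈ R.gen (R.Rad A h)) {g : ι} (hg : R.B g h = 1) :
    (∀ k, R.vec g = R.vec r + R.vec k → R.B g r = 1 →
      R.coef h (R.x r t * q * (R.x r t)⁻¹) g = R.coef h q g + t * R.coef h q k) ∧
    (R.B g r ≠ 1 → R.coef h (R.x r t * q * (R.x r t)⁻¹) g = R.coef h q g) := by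
  classical
  induction hq using Subgroup.closure_induction with
  | mem y hy =>
      obtain ⟨s, u, hs, rfl⟩ := hy
      rcases hs with rfl | ⟨hp, hsl⟩
      · rw [R.conj_comm (by rw [hr.2])]
        simp [coef_h]
      · rcases R.B_cases r s with e | e | e | e | e
        · have := R.B_neg (R.opp r s e) h; rw [hr.2, hsl] at this; omega
        · obtain ⟨k', hk'⟩ := R.sum r s e
          have hk'1 : R.B k' h = 1 := by rw [R.B_add hk', hr.2, hsl]; norm_num
          rw [R.conj_term e hk', coef_mul (A := A) (R.x_mem_gen (Or.inr ⟨hp, hsl⟩) u)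
            (R.x_mem_gen (Or.inr ⟨R.perp_add hk' hr.1 hp, hk'1⟩) _), coef_x hk'1, coef_x hsl]
          refine ⟨fun k hk hgr => ?_, fun hgr => ?_⟩
          · have hk1 : R.B k h = 1 := by have := R.B_add hk h; rw [hg, hr.2] at this; omega
            rw [coef_x hsl]
            congr 1
            by_cases e2 : s = k
            · rw [if_pos e2, if_pos (R.inj (by rw [hk', hk, e2]))]
            · rw [if_neg e2, if_neg, mul_zero]
              intro e3
              exact e2 (R.inj (add_left_cancel (a := R.vec r) (by rw [← hk', ← hk, e3])))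
          · rw [add_eq_left, if_neg]
            rintro rfl
            apply hgr
            rw [R.B_add hk', R.B_self, R.B_symm, e]
            norm_num
        all_goals
          rw [R.conj_comm (by omega)]
          refine ⟨fun k hk hgr => ?_, fun _ => rfl⟩
          rw [left_eq_add, coef_x hsl, if_neg, mul_zero]
          rintro rfl
          have := R.B_add hk r
          rw [hgr, R.B_self, R.B_symm s r] at this
          omega
  | one => simp [coef_one]
  | mul y z hy hz iy iz =>
      have c1 := T.lev_conj hr t hy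
      have c2 := T.lev_conj hr t hz
      rw [← conj_mul, coef_mul c1 c2, coef_mul hy hz]
      refine ⟨fun k hk hgr => ?_, fun hgr => by rw [iy.2 hgr, iz.2 hgr]⟩
      rw [iy.1 k hk hgr, iz.1 k hk hgr, coef_mul hy hz]
      ring
  | inv y hy iy =>
      have c1 := T.lev_conj hr t hy
      rw [← conj_inv, coef_inv c1, coef_inv hy]
      refine ⟨fun k hk hgr => ?_, iy.2⟩
      rw [iy.1 k hk hgr, coef_inv hy]

end Sys

end CfsgLib.InvolSL
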