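import Cfsg.Agent.Lib.InvolSL.Classify

/-!
Simply laced systems with a twist (a symmetry of the roots with a field automorphism of order two): fixed elements
with prescribed coordinates, and descent of the clearing step.
-/

set_option autoImplicit false
set_option linter.unusedSectionVars false

namespace CfsgLib.InvolSL

universe u v w

/-- A twist of a simply laced system, with the invariant describing the sets of roots met in the induction. -/
structure Tw {ι : Type u} {n : ℕ} {F : Type v} [Field F] {G : Type w} [Group G] [DecidableEq ι]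
    (R : Sys ι n F G) where
  /-- the symmetry of the roots -/
  pi : ι → ι
  pi_pi : ∀ r, pi (pi r) = r
  pi_B : ∀ r s, R.B (pi r) (pi s) = R.B r s
  pi_sum : ∀ r s k, R.vec k = R.vec r + R.vec s → R.vec (pi k) = R.vec (pi r) + R.vec (pi s)
  pi_pos : ∀ r, R.pos r → R.pos (pi r)
  pi_orth : ∀ r, pi r ≠ r → R.B r (pi r) = 0
  /-- the field automorphism -/
  phi : F ≃+* F
  phi_phi : ∀ x, phi (phi x) = x
  trace : ∃ a, a + phi a = 1
  /-- the endomorphism of the group -/
  sigma : G →* G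
  sigma_x : ∀ r t, sigma (R.x r t) = R.x (pi r) (phi t)
  /-- the sets of roots met in the induction -/
  Ctx : Finset ι → Prop
  ctx_empty : Ctx ∅
  ctx_insert : ∀ A r, Ctx A → R.Perp A r → Ctx (insert r (insert (pi r) A))
  ctx_stable : ∀ A, Ctx A → ∀ a ∈ A, pi a ∈ A
  ctx_top : ∀ A, Ctx A → (∃ r, R.Perp A r) → ∃ h, R.Top A h ∧ pi h = h
  ctx_layer : ∀ A h, Ctx A → R.Top A h → pi h = h → ∀ g, R.Lay A h g → pi g ≠ g →
    (∃ f, R.Lay A h f ∧ pi f = f ∧ R.B f g = 1) ∨
      ∀ f, R.Lay A h f → R.B f g = 1 → R.B f (pi g) = 1 → False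

variable {ι : Type u} {n : ℕ} {F : Type v} [Field F] {G : Type w} [Group G] [DecidableEq ι] {R : Sys ι n F G}
  (T : Tw R)

namespace Tw

attribute [local instance 10] Classical.propDecidable

/-- The product of a root element with its image. -/
noncomputable def orb (r : ι) (t : F) : G := if T.pi r = r then R.x r t else R.x r t * R.x (T.pi r) (T.phi t)

/-- The fixed subgroup generated by the orbit elements of a set of roots. -/
noncomputable def fgen (P : ι → Prop) : Subgroup G :=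
  Subgroup.closure {g | ∃ r t, P r ∧ P (T.pi r) ∧ (T.pi r = r → T.phi t = t) ∧ g = T.orb r t}

theorem orb_pair {r : ι} (h : T.pi r ≠ r) (t : F) : T.orb r t = R.x r t * R.x (T.pi r) (T.phi t) := if_neg h

theorem orb_fix {r : ι} (h : T.pi r = r) (t : F) : T.orb r t = R.x r t := if_pos h

theorem orb_mem {P : ι → Prop} {r : ι} (h : P r) (h' : P (T.pi r)) {t : F} (ht : T.pi r = r → T.phi t = t) :
    T.orb r t ∈ T.fgen P :=
  Subgroup.subset_closure ⟨r, t, h, h', ht, rfl⟩

theorem fgen_le_gen (P : ι → Prop) : T.fgen P ≤ R.gen P := by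
  refine (Subgroup.closure_le _).2 ?_
  rintro _ ⟨r, t, h, h', -, rfl⟩
  by_cases e : T.pi r = r
  · rw [T.orb_fix e]; exact R.x_mem_gen h t
  · rw [T.orb_pair e]; exact mul_mem (R.x_mem_gen h t) (R.x_mem_gen h' _)

theorem fgen_mono {P Q : ι → Prop} (h : ∀ r, P r → Q r) : T.fgen P ≤ T.fgen Q :=
  Subgroup.closure_mono fun _ ⟨r, t, a, b, c, e⟩ => ⟨r, t, h r a, h _ b, c, e⟩

theorem sigma_orb {r : ι} {t : F} (ht : T.pi r = r → T.phi t = t) : T.sigma (T.orb r t) = T.orb r t := by
  by_cases e : T.pi r = r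
  · rw [T.orb_fix e, T.sigma_x, e, ht e]
  · rw [T.orb_pair e, map_mul, T.sigma_x, T.sigma_x, T.pi_pi, T.phi_phi]
    exact (R.comm _ _ (by
      show 0 ≤ R.B (T.pi r) r
      rw [R.B_symm, T.pi_orth r e]) _ _).eq

theorem sigma_fgen {P : ι → Prop} {g : G} (hg : g ∈ T.fgen P) : T.sigma g = g := by
  induction hg using Subgroup.closure_induction with
  | mem y hy => obtain ⟨r, t, -, -, ht, rfl⟩ := hy; exact T.sigma_orb ht
  | one => exact map_one _
  | mul a b _ _ iha ihb => rw [map_mul, iha, ihb]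
  | inv a _ iha => rw [map_inv, iha]

theorem sigma_conj {P : ι → Prop} {c q : G} (hc : c ∈ T.fgen P) (hq : T.sigma q = q) :
    T.sigma (c * q * c⁻¹) = c * q * c⁻¹ := by rw [map_mul, map_mul, map_inv, T.sigma_fgen hc, hq]

theorem sigma_gen {P Q : ι → Prop} (h : ∀ r, P r → Q (T.pi r)) {g : G} (hg : g ∈ R.gen P) :
    T.sigma g ∈ R.gen Q := by
  induction hg using Subgroup.closure_induction with
  | mem y hy => obtain ⟨r, t, hr, rfl⟩ := hy; rw [T.sigma_x]; exact R.x_mem_gen (h r hr) _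
  | one => rw [map_one]; exact one_mem _
  | mul a b _ _ iha ihb => rw [map_mul]; exact mul_mem iha ihb
  | inv a _ iha => rw [map_inv]; exact inv_mem iha

theorem pi_inj {r s : ι} (h : T.pi r = T.pi s) : r = s := by rw [← T.pi_pi r, h, T.pi_pi]

theorem B_pi (r s : ι) : R.B (T.pi r) s = R.B r (T.pi s) := by
  have := T.pi_B r (T.pi s)
  rwa [T.pi_pi] at this

variable {A : Finset ι} {h : ι}

theorem perp_pi (hA : T.Ctx A) {r : ι} (hr : R.Perp A r) : R.Perp A (T.pi r) :=
  fun a ha => (T.B_pi r a).trans (hr _ (T.ctx_stable A hA a ha))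

theorem ctx_insert_fix (hA : T.Ctx A) {r : ι} (hr : R.Perp A r) (hπ : T.pi r = r) : T.Ctx (insert r A) := by
  have := T.ctx_insert A r hA hr
  rwa [hπ, Finset.insert_idem] at this

theorem lay_pi (hA : T.Ctx A) (hh : T.pi h = h) {r : ι} (hr : R.Lay A h r) : R.Lay A h (T.pi r) :=
  ⟨T.perp_pi hA hr.1, by rw [T.B_pi, hh]; exact hr.2⟩

theorem lev_pi (hA : T.Ctx A) (hh : T.pi h = h) {r : ι} (hr : R.Lev A h r) : R.Lev A h (T.pi r) :=
  ⟨T.perp_pi hA hr.1, by rw [T.B_pi, hh]; exact hr.2⟩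

theorem rad_pi (hA : T.Ctx A) (hh : T.pi h = h) {r : ι} (hr : R.Rad A h r) : R.Rad A h (T.pi r) := by
  rcases hr with rfl | hr
  · exact Or.inl hh
  · exact Or.inr (T.lay_pi hA hh hr)

variable [Inhabited ι] [Fintype ι]

theorem coef_sigma (hh : T.pi h = h) {g : ι} (hg : R.B g h = 1) {q : G} (hq : q ∈ R.gen (R.Rad A h)) :
    R.coef h (T.sigma q) (T.pi g) = T.phi (R.coef h q g) := by
  have hg' : R.B (T.pi g) h = 1 := by rw [T.B_pi, hh, hg]
  have hco : R.co h (T.pi g) = T.pi (R.co h g) := by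
    apply R.inj
    have e : R.vec h = R.vec g + R.vec (R.co h g) := by rw [Sys.vec_co hg]; abel
    have e' := T.pi_sum _ _ _ e
    rw [hh] at e'
    rw [Sys.vec_co hg', e']
    abel
  refine Sys.coef_eq hg' ?_
  have := congrArg T.sigma (Sys.coef_spec (A := A) hg hq)
  simpa only [map_mul, map_inv, T.sigma_x, map_one, hh, hco] using this

theorem coef_fixed (hh : T.pi h = h) {g : ι} (hg : R.B g h = 1) {q : G} (hq : q ∈ R.gen (R.Rad A h))
    (hs : T.sigma q = q) : R.coef h q (T.pi g) = T.phi (R.coef h q g) := by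
  have := T.coef_sigma (A := A) hh hg hq
  rwa [hs] at this

theorem coef_orb {g : ι} (hg : R.Lay A h g) (hg' : R.Lay A h (T.pi g)) (t : F) (k : ι) :
    R.coef h (T.orb g t) k =
      (if g = k then t else 0) + (if T.pi g ≠ g ∧ T.pi g = k then T.phi t else 0) := by
  by_cases e : T.pi g = g
  · rw [T.orb_fix e, Sys.coef_x hg.2]
    simp [e]
  · rw [T.orb_pair e, Sys.coef_mul (A := A) (R.x_mem_gen (Or.inr hg) _) (R.x_mem_gen (Or.inr hg') _),
      Sys.coef_x hg.2, Sys.coef_x hg'.2]
    simp [e]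

theorem exists_fixed_coef (hA : T.Ctx A) (hh : T.pi h = h) :
    ∀ (m : ℕ) (w : ι → F), (∀ g, w (T.pi g) = T.phi (w g)) → (∀ g, w g ≠ 0 → R.Lay A h g) →
      (Finset.univ.filter fun g => w g ≠ 0).card ≤ m → ∃ y ∈ T.fgen (R.Lay A h), ∀ g, R.coef h y g = w g := by
  intro m
  induction m with
  | zero =>
      intro w _ _ hm
      refine ⟨1, one_mem _, fun g => ?_⟩
      rw [Sys.coef_one]
      by_contra e
      have : 0 < (Finset.univ.filter fun g => w g ≠ 0).card := Finset.card_pos.2 ⟨g, by simpa using Ne.symm e⟩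
      omega
  | succ m ih =>
      intro w hw hs hm
      by_cases hz : ∀ g, w g = 0
      · exact ⟨1, one_mem _, fun g => by rw [Sys.coef_one, hz]⟩
      push Not at hz
      obtain ⟨g₀, hg₀⟩ := hz
      have l0 := hs g₀ hg₀
      have l1 := T.lay_pi hA hh l0
      have horb : T.orb g₀ (w g₀) ∈ T.fgen (R.Lay A h) :=
        T.orb_mem l0 l1 fun e => by rw [← hw, e]
      set w' : ι → F := fun g => if g = g₀ ∨ g = T.pi g₀ then 0 else w g
      have hcard : (Finset.univ.filter fun g => w' g ≠ 0).card ≤ m := by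
        have : (Finset.univ.filter fun g => w' g ≠ 0) ⊆ (Finset.univ.filter fun g => w g ≠ 0).erase g₀ := by
          intro g hg
          simp only [w', Finset.mem_filter, Finset.mem_univ, true_and, Finset.mem_erase] at hg ⊢
          by_cases e : g = g₀ ∨ g = T.pi g₀
          · exact absurd (if_pos e) hg
          · rw [if_neg e] at hg; exact ⟨fun e' => e (Or.inl e'), hg⟩
        refine (Finset.card_le_card this).trans ?_
        rw [Finset.card_erase_of_mem (by simpa using hg₀)]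
        omega
      have hw' : ∀ g, w' (T.pi g) = T.phi (w' g) := by
        intro g
        simp only [w']
        by_cases e : g = g₀ ∨ g = T.pi g₀
        · rw [if_pos e, if_pos, map_zero]
          rcases e with rfl | rfl
          · exact Or.inr rfl
          · exact Or.inl (T.pi_pi _)
        · rw [if_neg e, if_neg, hw]
          rintro (e' | e')
          · exact e (Or.inr (by rw [← e', T.pi_pi]))
          · exact e (Or.inl (T.pi_inj e'))
      obtain ⟨y, hy, hyc⟩ := ih w' hw' (fun g hg => hs g fun e => hg (by simp [w', e])) hcard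
      refine ⟨T.orb g₀ (w g₀) * y, mul_mem horb hy, fun g => ?_⟩
      have hle : T.fgen (R.Lay A h) ≤ R.gen (R.Rad A h) :=
        (T.fgen_le_gen _).trans (R.gen_mono fun r hr => Or.inr hr)
      rw [Sys.coef_mul (A := A) (hle horb) (hle hy), hyc, T.coef_orb l0 l1]
      simp only [w']
      by_cases e1 : g₀ = g
      · subst e1
        rw [if_pos rfl, if_neg (fun e : T.pi g₀ ≠ g₀ ∧ T.pi g₀ = g₀ => e.1 e.2), if_pos (Or.inl rfl)]
        simp
      · by_cases e2 : T.pi g₀ = g
        · subst e2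
          rw [if_neg e1, if_pos ⟨fun e => e1 e.symm, rfl⟩, if_pos (Or.inr rfl), hw]
          simp
        · rw [if_neg e1, if_neg (fun e => e2 e.2), if_neg (fun e => e.elim (fun e => e1 e.symm) fun e => e2 e.symm)]
          simp

theorem coef_conj_smul (hT : R.Top A h) {μ : F} :
    ∀ L : List (ι × F), (∀ p ∈ L, R.Lev A h p.1) → ∀ {y y' : G}, y ∈ R.gen (R.Rad A h) → y' ∈ R.gen (R.Rad A h) →
      (∀ g, R.B g h = 1 → R.coef h y' g = μ * R.coef h y g) →
      ∀ g, R.B g h = 1 →
        R.coef h (R.prodX L * y' * (R.prodX L)⁻¹) g = μ * R.coef h (R.prodX L * y * (R.prodX L)⁻¹) g := by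
  intro L
  induction L with
  | nil => intro _ y y' _ _ e g hg; simpa [Sys.prodX_nil] using e g hg
  | cons p L ih =>
      intro hL y y' hy hy' e g hg
      have hp := hL p List.mem_cons_self
      have hL' : ∀ q ∈ L, R.Lev A h q.1 := fun q hq => hL q (List.mem_cons_of_mem _ hq)
      have hX : R.prodX L ∈ R.gen (R.Lev A h) := Sys.prodX_mem hL'
      have m1 := hT.lev_normalize hX y hy
      have m2 := hT.lev_normalize hX y' hy'
      have e' := ih hL' hy hy' e
      rw [Sys.prodX_cons,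
        show ∀ z, R.x p.1 p.2 * R.prodX L * z * (R.x p.1 p.2 * R.prodX L)⁻¹ =
          R.x p.1 p.2 * (R.prodX L * z * (R.prodX L)⁻¹) * (R.x p.1 p.2)⁻¹ from fun z => by group,
        show ∀ z, R.x p.1 p.2 * R.prodX L * z * (R.x p.1 p.2 * R.prodX L)⁻¹ =
          R.x p.1 p.2 * (R.prodX L * z * (R.prodX L)⁻¹) * (R.x p.1 p.2)⁻¹ from fun z => by group]
      by_cases eg : R.B g p.1 = 1
      · obtain ⟨k, hk⟩ := R.exists_sub eg
        have hk' : R.vec g = R.vec p.1 + R.vec k := by rw [hk]; abel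
        have hk1 : R.B k h = 1 := by rw [R.B_sub hk, hg, hp.2]; norm_num
        rw [(hT.coef_conj hp p.2 m1 hg).1 k hk' eg, (hT.coef_conj hp p.2 m2 hg).1 k hk' eg, e' g hg, e' k hk1]
        ring
      · rw [(hT.coef_conj hp p.2 m1 hg).2 eg, (hT.coef_conj hp p.2 m2 hg).2 eg, e' g hg]

/-- The clearing step for a fixed involution, by descent from the untwisted step. -/
theorem clear_fixed (hA : T.Ctx A) (hT : R.Top A h) (hh : T.pi h = h) {L : List (ι × F)}
    (hL : ∀ p ∈ L, R.Lev A h p.1) (ht : ∀ p ∈ L, p.2 ≠ 0) (ho : R.Orth L)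
    (hst : ∀ p ∈ L, ∃ p' ∈ L, p'.1 = T.pi p.1) (hs : T.sigma (R.prodX L) = R.prodX L) {q : G}
    (hq : q ∈ R.gen (R.Rad A h)) (hqs : T.sigma q = q)
    (h2 : R.prodX L * q * (R.prodX L * q) = 1) :
    ∃ p ∈ T.fgen (R.Perp A), p ∈ R.gen (R.Rad A h) ∧ ∃ q' ∈ R.gen (R.Rad A h), T.sigma q' = q' ∧
      p * (R.prodX L * q) * p⁻¹ = R.prodX L * q' ∧
      ∀ g, R.B g h = 1 → R.coef h q' g ≠ 0 → ∀ a ∈ L, R.B g a.1 = 0 := by
  obtain ⟨p₀, hp₀, q₀, hq₀, e₀, s₀⟩ := hT.clear_all hL ht ho L (fun _ e => e) hq h2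
  obtain ⟨a, ha⟩ := T.trace
  set X := R.prodX L with hXdef
  have hX2 : X * X = 1 := Sys.prodX_sq ho
  have hXi : X⁻¹ = X := inv_eq_of_mul_eq_one_right hX2
  have hXm : X ∈ R.gen (R.Lev A h) := Sys.prodX_mem hL
  -- the identity satisfied by the untwisted step
  have hq0' : q₀ = X * p₀ * X⁻¹ * q * p₀⁻¹ := by
    calc q₀ = X⁻¹ * (p₀ * (X * q) * p₀⁻¹) := by rw [e₀, inv_mul_cancel_left]
      _ = X⁻¹ * p₀ * X * q * p₀⁻¹ := by group
      _ = X * p₀ * X⁻¹ * q * p₀⁻¹ := by rw [hXi]
  have m0 := hT.lev_normalize hXm p₀ hp₀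
  have eq0 : ∀ g, R.coef h q₀ g = R.coef h (X * p₀ * X⁻¹) g + R.coef h q g + R.coef h p₀ g := fun g => by
    rw [hq0', Sys.coef_mul (A := A) (mul_mem m0 hq) (inv_mem hp₀), Sys.coef_mul (A := A) m0 hq,
      Sys.coef_inv (A := A) hp₀]
  set w : ι → F := fun g => if R.Lay A h g then a * R.coef h p₀ g + T.phi (a * R.coef h p₀ (T.pi g)) else 0
  have hw : ∀ g, w (T.pi g) = T.phi (w g) := by
    intro g
    by_cases hg : R.Lay A h g
    · simp only [w, if_pos hg, if_pos (T.lay_pi hA hh hg), map_add, T.phi_phi, T.pi_pi]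
      ring
    · have : ¬ R.Lay A h (T.pi g) := fun e => hg (by simpa [T.pi_pi] using T.lay_pi hA hh e)
      simp [w, if_neg hg, if_neg this]
  have hws : ∀ g, w g ≠ 0 → R.Lay A h g := fun g hg => by
    by_contra e; exact hg (by simp [w, e])
  obtain ⟨p, hp, hpc⟩ := T.exists_fixed_coef hA hh _ w hw hws le_rfl
  have hle : T.fgen (R.Lay A h) ≤ R.gen (R.Rad A h) :=
    (T.fgen_le_gen _).trans (R.gen_mono fun r hr => Or.inr hr)
  have hpm := hle hp
  -- the two halves of the fixed element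
  obtain ⟨y, hy, hyc⟩ : ∃ y ∈ R.gen (R.Rad A h), ∀ g, R.B g h = 1 →
      R.coef h y g = (if R.Lay A h g then a * R.coef h p₀ g else 0) := by
    classical
    suffices ∀ s : Finset ι, ∃ y ∈ R.gen (R.Rad A h), ∀ g, R.coef h y g =
        (if g ∈ s ∧ R.Lay A h g then a * R.coef h p₀ g else 0) by
      obtain ⟨y, hy, hyc⟩ := this Finset.univ
      exact ⟨y, hy, fun g _ => by simpa using hyc g⟩
    intro s
    induction s using Finset.induction with
    | empty => exact ⟨1, one_mem _, fun g => by simp [Sys.coef_one]⟩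
    | insert k s hk ih =>
        obtain ⟨y, hy, hyc⟩ := ih
        by_cases hkl : R.Lay A h k
        · refine ⟨R.x k (a * R.coef h p₀ k) * y, mul_mem (R.x_mem_gen (Or.inr hkl) _) hy, fun g => ?_⟩
          rw [Sys.coef_mul (A := A) (R.x_mem_gen (Or.inr hkl) _) hy, Sys.coef_x hkl.2, hyc]
          by_cases e : k = g
          · subst e; simp [hk, hkl]
          · simp [e, Ne.symm e]
        · refine ⟨y, hy, fun g => ?_⟩
          rw [hyc]
          by_cases e : g = k
          · subst e; simp [hk, hkl]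
          · simp [e]
  have hout : ∀ {z : G}, z ∈ R.gen (R.Rad A h) → ∀ {g}, R.B g h = 1 → ¬ R.Lay A h g → R.coef h z g = 0 := by
    intro z hz g hg hn
    induction hz using Subgroup.closure_induction with
    | mem x hx =>
        obtain ⟨r, t, hr, rfl⟩ := hx
        rcases hr with rfl | hr
        · exact Sys.coef_h t g
        · rw [Sys.coef_x hr.2, if_neg]; exact fun e => hn (e ▸ hr)
    | one => exact Sys.coef_one g
    | mul x z hx hz ix iz => rw [Sys.coef_mul (A := A) hx hz, ix, iz, add_zero]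
    | inv x hx ix => rw [Sys.coef_inv (A := A) hx, ix]
  have hya : ∀ g, R.B g h = 1 → R.coef h y g = a * R.coef h p₀ g := by
    intro g hg
    rw [hyc g hg]
    split
    · rfl
    · rename_i hn; rw [hout hp₀ hg hn, mul_zero]
  have hsy : T.sigma y ∈ R.gen (R.Rad A h) := T.sigma_gen (fun r hr => T.rad_pi hA hh hr) hy
  have hsyc : ∀ g, R.B g h = 1 → R.coef h (T.sigma y) g = T.phi (a * R.coef h p₀ (T.pi g)) := by
    intro g hg
    have hg' : R.B (T.pi g) h = 1 := by rw [T.B_pi, hh, hg]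
    have := T.coef_sigma (A := A) hh hg' hy
    rwa [T.pi_pi, hya _ hg'] at this
  have hsum : ∀ g, R.B g h = 1 → R.coef h p g = R.coef h (y * T.sigma y) g := by
    intro g hg
    rw [hpc, Sys.coef_mul (A := A) hy hsy, hya g hg, hsyc g hg]
    by_cases hl : R.Lay A h g
    · simp [w, hl]
    · have hn : ¬ R.Lay A h (T.pi g) := fun e => hl (by simpa [T.pi_pi] using T.lay_pi hA hh e)
      simp [w, hl, hout hp₀ hg hl, hout hp₀ (show R.B (T.pi g) h = 1 by rw [T.B_pi, hh, hg]) hn]
  have mp := hT.lev_normalize hXm p hpm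
  have hps : T.sigma p = p := T.sigma_fgen hp
  refine ⟨p, T.fgen_mono (fun r hr => hr.1) hp, hpm, X * p * X⁻¹ * q * p⁻¹, mul_mem (mul_mem mp hq) (inv_mem hpm),
    ?_, ?_, fun g hg hne b hb => ?_⟩
  · rw [map_mul, map_mul, map_mul, map_mul, map_inv, map_inv, hs, hqs, hps]
  · calc p * (X * q) * p⁻¹ = (X * X) * p * (X * q) * p⁻¹ := by rw [hX2, one_mul]
      _ = X * (X * p * X * q * p⁻¹) := by group
      _ = X * (X * p * X⁻¹ * q * p⁻¹) := by rw [hXi]
  · by_contra hgb
    apply hne
    have lin : ∀ k, R.B k h = 1 → R.coef h (X * y * X⁻¹) k = a * R.coef h (X * p₀ * X⁻¹) k := fun k hk =>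
      coef_conj_smul hT L hL hp₀ hy hya k hk
    have my := hT.lev_normalize hXm y hy
    have msy := hT.lev_normalize hXm _ hsy
    have e1 : R.coef h (X * p * X⁻¹) g = R.coef h (X * (y * T.sigma y) * X⁻¹) g := by
      have := coef_conj_smul hT (μ := 1) L hL (mul_mem hy hsy) hpm (fun k hk => by rw [one_mul]; exact hsum k hk)
        g hg
      rwa [one_mul] at this
    rw [Sys.coef_mul (A := A) (mul_mem mp hq) (inv_mem hpm), Sys.coef_mul (A := A) mp hq,
      Sys.coef_inv (A := A) hpm, e1, hsum g hg, ← conj_mul, Sys.coef_mul (A := A) my msy,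
      Sys.coef_mul (A := A) hy hsy, lin g hg]
    have hg' : R.B (T.pi g) h = 1 := by rw [T.B_pi, hh, hg]
    have e2 : R.coef h (X * T.sigma y * X⁻¹) g = T.phi (a * R.coef h (X * p₀ * X⁻¹) (T.pi g)) := by
      have := T.coef_sigma (A := A) hh hg' my
      rw [map_mul, map_mul, map_inv, hs, T.pi_pi, lin _ hg'] at this
      exact this
    rw [e2, hya g hg, hsyc g hg]
    have z1 : R.coef h q₀ g = 0 := by
      by_contra e
      exact hgb (s₀ g hg e b hb)
    have z2 : R.coef h q₀ (T.pi g) = 0 := by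
      by_contra e
      obtain ⟨b', hb', hb''⟩ := hst b hb
      have := s₀ _ hg' e b' hb'
      rw [hb'', T.pi_B] at this
      exact hgb this
    rw [eq0] at z1 z2
    have fq : R.coef h q (T.pi g) = T.phi (R.coef h q g) := T.coef_fixed (A := A) hh hg hq hqs
    have z2' := congrArg T.phi z2
    simp only [map_add, map_zero, fq, T.phi_phi, map_mul] at z2' ⊢
    linear_combination a * z1 + T.phi a * z2' - R.coef h q g * ha

end Tw

end CfsgLib.InvolSL
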