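import Cfsg.Agent.Lib.InvolSL.Twist

/-!
Every fixed involution of the positive unipotent group of a twisted simply laced system is conjugate by a fixed
element to a product over orthogonal orbits of roots.
-/

set_option autoImplicit false
set_option linter.unusedSectionVars false

namespace CfsgLib.InvolSL

universe u v w

namespace Tw

attribute [local instance 10] Classical.propDecidable

variable {ι : Type u} {n : ℕ} {F : Type v} [Field F] {G : Type w} [Group G] [DecidableEq ι] {R : Sys ι n F G} [Inhabited ι] [Fintype ι]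
  (T : Tw R) {A : Finset ι} {h : ι}

/-- The roots of an orbit with their parameters. -/
def expand1 (p : ι × F) : List (ι × F) := if T.pi p.1 = p.1 then [p] else [p, (T.pi p.1, T.phi p.2)]

/-- The roots of a list of orbits with their parameters. -/
def expand (L : List (ι × F)) : List (ι × F) := L.flatMap T.expand1

/-- The parameters are nonzero, and fixed at fixed roots. -/
def Par (L : List (ι × F)) : Prop := ∀ p ∈ L, p.2 ≠ 0 ∧ (T.pi p.1 = p.1 → T.phi p.2 = p.2)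

theorem expand_cons (p : ι × F) (L : List (ι × F)) : T.expand (p :: L) = T.expand1 p ++ T.expand L := rfl

theorem expand_append (L M : List (ι × F)) : T.expand (L ++ M) = T.expand L ++ T.expand M := List.flatMap_append

theorem prod_expand1 (p : ι × F) : R.prodX (T.expand1 p) = T.orb p.1 p.2 := by
  by_cases e : T.pi p.1 = p.1 <;> simp [expand1, Sys.prodX, Tw.orb, e]

theorem sigma_expand {L : List (ι × F)} (h : T.Par L) : T.sigma (R.prodX (T.expand L)) = R.prodX (T.expand L) := by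
  induction L with
  | nil => simp [expand, Sys.prodX_nil]
  | cons p L ih =>
      rw [T.expand_cons, Sys.prodX_append, map_mul, T.prod_expand1,
        T.sigma_orb (h p List.mem_cons_self).2, ih fun q hq => h q (List.mem_cons_of_mem _ hq)]

theorem mem_expand1 {p x : ι × F} (hx : x ∈ T.expand1 p) :
    x = p ∨ (T.pi p.1 ≠ p.1 ∧ x = (T.pi p.1, T.phi p.2)) := by
  unfold expand1 at hx
  by_cases e : T.pi p.1 = p.1
  · rw [if_pos e, List.mem_singleton] at hx; exact Or.inl hx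
  · rw [if_neg e, List.mem_cons, List.mem_singleton] at hx
    exact hx.imp id fun h => ⟨e, h⟩

theorem orb_self (p : ι × F) : (T.expand1 p).Pairwise fun a b => R.B a.1 b.1 = 0 := by
  unfold expand1
  by_cases e : T.pi p.1 = p.1
  · rw [if_pos e]; exact List.pairwise_singleton _ _
  · rw [if_neg e]
    simp [T.pi_orth p.1 e]

theorem expand_spec {L : List (ι × F)} (h : T.Par L) :
    (∀ p ∈ T.expand L, p.2 ≠ 0) ∧ (∀ p ∈ T.expand L, ∃ p' ∈ T.expand L, p'.1 = T.pi p.1) := by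
  refine ⟨fun x hx => ?_, fun x hx => ?_⟩
  · obtain ⟨p, hp, hx⟩ := List.mem_flatMap.1 hx
    rcases T.mem_expand1 hx with rfl | ⟨-, rfl⟩
    · exact (h x hp).1
    · simpa using (h p hp).1
  · obtain ⟨p, hp, hx⟩ := List.mem_flatMap.1 hx
    have hin : ∀ y ∈ T.expand1 p, y ∈ T.expand L := fun y hy => List.mem_flatMap.2 ⟨p, hp, hy⟩
    by_cases e : T.pi p.1 = p.1
    · rcases T.mem_expand1 hx with rfl | ⟨e', -⟩
      · exact ⟨x, hin x hx, e.symm⟩
      · exact absurd e e'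
    · rcases T.mem_expand1 hx with rfl | ⟨-, rfl⟩
      · exact ⟨(T.pi x.1, T.phi x.2), hin _ (by simp [expand1, e]), rfl⟩
      · exact ⟨p, hin _ (by simp [expand1, e]), (T.pi_pi _).symm⟩

/-- The conjugacy statement for the roots orthogonal to a set. -/
def Good (A : Finset ι) : Prop :=
  ∀ u ∈ R.gen (fun r => R.pos r ∧ R.Perp A r), T.sigma u = u → u * u = 1 →
    ∃ g ∈ T.fgen (R.Perp A), ∃ L : List (ι × F), T.Par L ∧ (∀ p ∈ T.expand L, R.Perp A p.1) ∧
      R.Orth (T.expand L) ∧ g * u * g⁻¹ = R.prodX (T.expand L)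



theorem lay_B' {b : ι} (hb : R.Lev A h b) {g : ι} (hg : R.B g h = 1) :
    R.B g b = -1 ∨ R.B g b = 0 ∨ R.B g b = 1 := Sys.lay_B hb hg

/-- A single step of the clearing at the roots pairing positively with a given layer root. -/
theorem step_coef (hT : R.Top A h) {g₀ m b : ι} (hg₀ : R.Lay A h g₀) (hm : R.Lay A h m)
    (hb : R.vec b = R.vec m - R.vec g₀) (hm1 : R.B m g₀ = 1) (s : F) {q : G} (hq : q ∈ R.gen (R.Rad A h)) :
    R.Lev A h b ∧ R.x b s * q * (R.x b s)⁻¹ ∈ R.gen (R.Rad A h) ∧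
    R.coef h (R.x b s * q * (R.x b s)⁻¹) m = R.coef h q m + s * R.coef h q g₀ ∧
    (∀ g, R.B g h = 1 → R.B g b ≠ 1 → R.coef h (R.x b s * q * (R.x b s)⁻¹) g = R.coef h q g) ∧
    (∀ g, R.B g h = 1 → R.B g g₀ = 1 → g ≠ m → R.coef h (R.x b s * q * (R.x b s)⁻¹) g = R.coef h q g) := by
  have hbl : R.Lev A h b := ⟨R.perp_sub hb hm.1 hg₀.1, by rw [R.B_sub hb, hm.2, hg₀.2, sub_self]⟩
  have hbg : R.B b g₀ = -1 := by rw [R.B_sub hb, hm1, R.B_self]; norm_num
  have hv : R.vec m = R.vec b + R.vec g₀ := by rw [hb]; abel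
  have hmb : R.B m b = 1 := by rw [R.B_symm, R.B_sub hb, R.B_self, R.B_symm g₀ m, hm1]; norm_num
  refine ⟨hbl, hT.lev_conj hbl s hq, (hT.coef_conj hbl s hq hm.2).1 g₀ hv hmb,
    fun g hg e => (hT.coef_conj hbl s hq hg).2 e, fun g hg hg1 ne => (hT.coef_conj hbl s hq hg).2 fun eb => ?_⟩
  obtain ⟨k, hk⟩ := R.exists_sub eb
  have hk2 : R.B k g₀ = 2 := by rw [R.B_sub hk, hg1, hbg]; norm_num
  apply ne
  apply R.inj
  rw [hv, ← R.two_eq k g₀ hk2, hk]
  abel

theorem pair_B {g g₀ : ι} (hg : R.B g h = 1) (hg₀ : R.B g₀ h = 1) :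
    R.B g g₀ = -1 ∨ R.B g g₀ = 0 ∨ R.B g g₀ = 1 ∨ g = g₀ := by
  rcases R.B_cases g g₀ with e | e | e | e | e
  · have := R.B_neg (R.opp g g₀ e) h; rw [hg, hg₀] at this; omega
  · exact Or.inl e
  · exact Or.inr (Or.inl e)
  · exact Or.inr (Or.inr (Or.inl e))
  · exact Or.inr (Or.inr (Or.inr (R.two_eq g g₀ e)))

theorem eq_co {g g₀ : ι} (hg : R.B g h = 1) (hg₀ : R.B g₀ h = 1) (e : R.B g g₀ = -1) : g = R.co h g₀ := by
  obtain ⟨k, hk⟩ := R.sum g g₀ e
  have hkh : R.B k h = 2 := by rw [R.B_add hk, hg, hg₀]; norm_num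
  exact R.inj (by rw [Sys.vec_co hg₀, ← R.two_eq k h hkh, hk]; abel)

theorem co_ne {g₀ : ι} (hg₀ : R.B g₀ h = 1) : R.B (R.co h g₀) g₀ = -1 := by
  rw [Sys.co_B hg₀, R.B_symm h g₀, hg₀, R.B_self]; norm_num

/-- Clearing the neighbours of a fixed layer root. -/
theorem clear_layer_fixed (hA : T.Ctx A) (hT : R.Top A h) (hh : T.pi h = h) {g₀ : ι} (hg₀ : R.Lay A h g₀)
    (hπ : T.pi g₀ = g₀) :
    ∀ M : List ι, (∀ g ∈ M, R.Lay A h g ∧ R.B g g₀ = 1) → ∀ {q : G}, q ∈ R.gen (R.Rad A h) → T.sigma q = q →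
      R.coef h q g₀ ≠ 0 →
      ∃ c ∈ T.fgen (R.Perp A), c * q * c⁻¹ ∈ R.gen (R.Rad A h) ∧ T.sigma (c * q * c⁻¹) = c * q * c⁻¹ ∧
        R.coef h (c * q * c⁻¹) g₀ = R.coef h q g₀ ∧ ∀ g ∈ M, R.coef h (c * q * c⁻¹) g = 0 := by
  intro M
  induction M with
  | nil => exact fun _ {q} hq hs _ => ⟨1, one_mem _, by simpa using hq, by simpa using hs, by simp, by simp⟩
  | cons m M ih =>
      intro hM q hq hs hne
      obtain ⟨c, hc, hcq, hcs, hc₀, hcM⟩ := ih (fun g hg => hM g (List.mem_cons_of_mem _ hg)) hq hs hne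
      obtain ⟨hm, hm1⟩ := hM m List.mem_cons_self
      obtain ⟨b, hb⟩ := R.exists_sub hm1
      set q' := c * q * c⁻¹
      set s := R.coef h q' m / R.coef h q g₀
      have hα : T.phi (R.coef h q g₀) = R.coef h q g₀ := by
        have := T.coef_fixed (A := A) hh hg₀.2 hq hs
        rw [hπ] at this
        exact this.symm
      have hb' : R.vec (T.pi b) = R.vec (T.pi m) - R.vec g₀ := by
        have := T.pi_sum b g₀ m (by rw [hb]; abel)
        rw [hπ] at this
        rw [this]; abel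
      have hm' := T.lay_pi hA hh hm
      have hm1' : R.B (T.pi m) g₀ = 1 := by rw [T.B_pi, hπ, hm1]
      have bg : R.B g₀ b = -1 := by rw [R.B_symm, R.B_sub hb, hm1, R.B_self]; norm_num
      have bg' : R.B g₀ (T.pi b) = -1 := by rw [R.B_symm, R.B_sub hb', hm1', R.B_self]; norm_num
      obtain ⟨hbl, hq1, h1m, h1o, h1g⟩ := step_coef hT hg₀ hm hb hm1 s hcq
      by_cases hbf : T.pi b = b
      · have hmf : T.pi m = m := by
          apply R.inj
          rw [show R.vec (T.pi m) = R.vec (T.pi b) + R.vec g₀ by rw [hb']; abel, hbf, hb]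
          abel
        have hsf : T.phi s = s := by
          have := T.coef_fixed (A := A) hh hm.2 hcq hcs
          rw [hmf] at this
          simp only [s, map_div₀, hα, ← this]
        have hx : R.x b s ∈ T.fgen (R.Perp A) := by
          rw [← T.orb_fix hbf]; exact T.orb_mem hbl.1 (by rw [hbf]; exact hbl.1) (fun _ => hsf)
        refine ⟨R.x b s * c, mul_mem hx hc, ?_, ?_, ?_, fun g hg => ?_⟩
        all_goals rw [show R.x b s * c * q * (R.x b s * c)⁻¹ = R.x b s * q' * (R.x b s)⁻¹ by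
          simp only [q']; group]
        · exact hq1
        · exact T.sigma_conj hx hcs
        · rw [h1o g₀ hg₀.2 (by rw [bg]; norm_num), hc₀]
        · by_cases e : g = m
          · subst e; rw [h1m, hc₀, div_mul_cancel₀ _ hne, R.add_self_F]
          · have hgM : g ∈ M := (List.mem_cons.1 hg).resolve_left e
            obtain ⟨hgl, hg1⟩ := hM g hg
            rw [h1g g hgl.2 hg1 e, hcM g hgM]
      · set q1 := R.x b s * q' * (R.x b s)⁻¹ with hq1def
        obtain ⟨hbl', hq2, h2m, h2o, h2g⟩ := step_coef hT hg₀ hm' hb' hm1' (T.phi s) hq1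
        have hne' : T.pi m ≠ m := fun e => hbf (R.inj (by rw [hb', e, hb]))
        have hx : T.orb b s ∈ T.fgen (R.Perp A) := T.orb_mem hbl.1 hbl'.1 (fun e => absurd e hbf)
        have horb : T.orb b s = R.x (T.pi b) (T.phi s) * R.x b s := by
          rw [T.orb_pair hbf, (R.comm _ _ (show 0 ≤ R.B b (T.pi b) by rw [T.pi_orth b hbf]) _ _).eq]
        have g₀1 : R.coef h q1 g₀ = R.coef h q g₀ := by rw [h1o g₀ hg₀.2 (by rw [bg]; norm_num), hc₀]
        refine ⟨T.orb b s * c, mul_mem hx hc, ?_, ?_, ?_, fun g hg => ?_⟩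
        all_goals rw [show T.orb b s * c * q * (T.orb b s * c)⁻¹ = T.orb b s * q' * (T.orb b s)⁻¹ by
          simp only [q']; group]
        all_goals try rw [show T.orb b s * q' * (T.orb b s)⁻¹ = R.x (T.pi b) (T.phi s) * q1 * (R.x (T.pi b) (T.phi s))⁻¹
          by rw [horb, hq1def]; group]
        · exact hq2
        · rw [hq1def, show R.x (T.pi b) (T.phi s) * (R.x b s * q' * (R.x b s)⁻¹) * (R.x (T.pi b) (T.phi s))⁻¹ =
            (R.x (T.pi b) (T.phi s) * R.x b s) * q' * (R.x (T.pi b) (T.phi s) * R.x b s)⁻¹ by group, ← horb]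
          exact T.sigma_conj hx hcs
        · rw [h2o g₀ hg₀.2 (by rw [bg']; norm_num), g₀1]
        · obtain ⟨hgl, hg1⟩ := hM g hg
          by_cases e : g = T.pi m
          · subst e
            rw [h2m, g₀1, h1g _ hm'.2 hm1' hne', T.coef_fixed (A := A) hh hm.2 hcq hcs]
            have : T.phi s * R.coef h q g₀ = T.phi (R.coef h q' m) := by
              simp only [s, map_div₀, hα]; rw [div_mul_cancel₀ _ hne]
            rw [this, R.add_self_F]
          · rw [h2g g hgl.2 hg1 e]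
            by_cases e' : g = m
            · subst e'; rw [h1m, hc₀, div_mul_cancel₀ _ hne, R.add_self_F]
            · rw [h1g g hgl.2 hg1 e', hcM g ((List.mem_cons.1 hg).resolve_left e')]

/-- The case of a nonzero coordinate at a fixed layer root. -/
theorem rad_fixed (hA : T.Ctx A) (hT : R.Top A h) (hh : T.pi h = h) {g₀ : ι} (hg₀ : R.Lay A h g₀)
    (hπ : T.pi g₀ = g₀) (IH : T.Good (insert g₀ A)) {q : G} (hq : q ∈ R.gen (R.Rad A h)) (hs : T.sigma q = q)
    (h2 : q * q = 1) (hne : R.coef h q g₀ ≠ 0) :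
    ∃ g ∈ T.fgen (R.Perp A), ∃ L : List (ι × F), T.Par L ∧ (∀ p ∈ T.expand L, R.Perp A p.1) ∧
      R.Orth (T.expand L) ∧ g * q * g⁻¹ = R.prodX (T.expand L) := by
  obtain ⟨c, hc, hcq, hcs, hc₀, hcM⟩ := T.clear_layer_fixed hA hT hh hg₀ hπ
    (Finset.univ.filter fun g => R.Lay A h g ∧ R.B g g₀ = 1).toList (fun g hg => by simpa using hg) hq hs hne
  set q₁ := c * q * c⁻¹
  set α := R.coef h q g₀
  have hα : T.phi α = α := by
    have := T.coef_fixed (A := A) hh hg₀.2 hq hs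
    rw [hπ] at this
    exact this.symm
  set g' := R.co h g₀ with hg'
  have hg'l : R.Lay A h g' := Sys.co_lay hT.1 hg₀
  have hgB : R.B g' g₀ = -1 := co_ne hg₀.2
  have hg'π : T.pi g' = g' := by
    apply eq_co (T.lay_pi hA hh hg'l).2 hg₀.2
    rw [T.B_pi, hπ, hgB]
  set b := R.coef h q₁ g'
  have m0 : R.x g₀ α ∈ R.gen (R.Rad A h) := R.x_mem_gen (Or.inr hg₀) _
  have m' : R.x g' b ∈ R.gen (R.Rad A h) := R.x_mem_gen (Or.inr hg'l) _
  obtain ⟨y, hy, z, hyz⟩ := Sys.exists_form (P := fun g => R.B g g₀ = 0) (mul_mem (mul_mem hcq m0) m') fun g hg hne' => by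
    rw [Sys.coef_mul (A := A) (mul_mem hcq m0) m', Sys.coef_mul (A := A) hcq m0, Sys.coef_x hg₀.2,
      Sys.coef_x hg'l.2] at hne'
    rcases pair_B hg.2 hg₀.2 with e | e | e | e
    · exfalso
      obtain rfl : g = g' := eq_co hg.2 hg₀.2 e
      rw [if_neg (fun e2 => by rw [e2] at hgB; rw [R.B_self] at hgB; omega), if_pos rfl, add_zero] at hne'
      exact hne' (R.add_self_F _)
    · exact e
    · exfalso
      rw [if_neg (fun e2 => by rw [← e2, R.B_self] at e; omega), if_neg (fun e2 => by rw [← e2, hgB] at e; omega),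
        hcM g (by simp [hg, e])] at hne'
      simp at hne'
    · exfalso
      subst e
      rw [if_pos rfl, if_neg (fun e2 => by rw [e2, R.B_self] at hgB; omega), add_zero, hc₀] at hne'
      exact hne' (R.add_self_F _)
  have hc0 : Commute y (R.x g₀ α) := R.gen_commute (fun r hr => hr.2.ge) hy _
  have hc' : ∀ u, Commute y (R.x g' u) := fun u => R.gen_commute (fun r hr => by
    rw [hg', Sys.B_co hg₀.2 hr.1.2, hr.2]; norm_num) hy u
  have hch : ∀ {w}, w ∈ R.gen (R.Rad A h) → ∀ u, Commute w (R.x h u) := fun hw u => Sys.rad_commute (A := A) hw u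
  have hyR : y ∈ R.gen (R.Rad A h) := R.gen_mono (fun r hr => Or.inr hr.1) hy
  have hq₁ : q₁ = y * R.x h z * R.x g' b * R.x g₀ α := by
    rw [← hyz, mul_assoc (q₁ * R.x g₀ α), R.x_mul_self, mul_one, mul_assoc, R.x_mul_self, mul_one]
  have h21 : q₁ * q₁ = 1 := by rw [conj_mul, h2, mul_one, mul_inv_cancel]
  have hy2 := (Sys.layer_commute hT hg₀.2 hy).1
  have hterm : ∀ u v, R.x g₀ v * R.x g' u = R.x g' u * R.x g₀ v * R.x h (u * v) := fun u v =>
    R.term g' g₀ h hgB (by rw [hg', Sys.vec_co hg₀.2]; abel) u v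
  have hb : b = 0 := by
    have hP : R.x g' b * R.x g₀ α * (R.x g' b * R.x g₀ α) = R.x h (b * α) := by
      calc R.x g' b * R.x g₀ α * (R.x g' b * R.x g₀ α) = R.x g' b * (R.x g₀ α * R.x g' b) * R.x g₀ α := by group
        _ = R.x g' b * R.x g' b * R.x g₀ α * (R.x h (b * α) * R.x g₀ α) := by rw [hterm b α]; group
        _ = R.x h (b * α) := by
            rw [R.x_mul_self, one_mul, ← (hch m0 _).eq, ← mul_assoc, R.x_mul_self, one_mul]
    have hP' : Commute (y * R.x h z) (R.x g' b * R.x g₀ α) :=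
      Commute.mul_left ((hc' b).mul_right hc0) (hch (mul_mem m' m0) z).symm
    have hyzsq : y * R.x h z * (y * R.x h z) = 1 := by
      rw [(hch hyR z).symm.mul_mul_mul_comm, hy2, R.x_mul_self, one_mul]
    rw [hq₁, mul_assoc (y * R.x h z) (R.x g' b), hP'.symm.mul_mul_mul_comm, hyzsq, one_mul, hP] at h21
    exact (mul_eq_zero.1 (R.inj_x h _ h21)).resolve_right hne
  rw [hb, R.x_zero, mul_one] at hq₁
  -- σ fixes the two factors
  have hys : T.sigma y ∈ R.gen (fun g => R.Lay A h g ∧ R.B g g₀ = 0) :=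
    T.sigma_gen (fun r hr => ⟨T.lay_pi hA hh hr.1, by rw [T.B_pi, hπ, hr.2]⟩) hy
  have hyS : T.sigma y * R.x h (T.phi z) = y * R.x h z := by
    have := hcs
    rw [hq₁, map_mul, map_mul, T.sigma_x, T.sigma_x, hπ, hh, hα] at this
    exact mul_right_cancel this
  have hfix : T.sigma y = y ∧ T.phi z = z := by
    have hcoef : ∀ {w}, w ∈ R.gen (fun g => R.Lay A h g ∧ R.B g g₀ = 0) → w ∈ R.gen (R.Rad A h) :=
      fun hw => R.gen_mono (fun r hr => Or.inr hr.1) hw
    have e : y⁻¹ * T.sigma y = R.x h (z + T.phi z) := by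
      calc y⁻¹ * T.sigma y = y⁻¹ * (T.sigma y * R.x h (T.phi z)) * R.x h (T.phi z) := by
            rw [mul_assoc, mul_assoc, R.x_mul_self, mul_one]
        _ = R.x h (z + T.phi z) := by rw [hyS, ← mul_assoc, inv_mul_cancel, one_mul, R.add]
    have hzero : z + T.phi z = 0 := by
      refine R.inj_x h _ (R.inter g₀ _ ?_ ?_)
      · rw [← e]
        exact R.gen_mono (fun r hr => hr.2) (mul_mem (inv_mem hy) hys)
      · exact R.x_mem_gen (P := fun r => 1 ≤ R.B r g₀) (by rw [R.B_symm, hg₀.2]) _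
    have hz : T.phi z = z := by
      calc T.phi z = z + (z + T.phi z) := by rw [← add_assoc, R.add_self_F, zero_add]
        _ = z := by rw [hzero, add_zero]
    rw [hz] at hyS
    exact ⟨mul_right_cancel hyS, hz⟩
  have hzf : T.phi (z / α) = z / α := by rw [map_div₀, hfix.2, hα]
  have hx : R.x g' (z / α) ∈ T.fgen (R.Perp A) := by
    rw [← T.orb_fix hg'π]; exact T.orb_mem hg'l.1 (by rw [hg'π]; exact hg'l.1) fun _ => hzf
  have hconj : R.x g' (z / α) * q₁ * (R.x g' (z / α))⁻¹ = y * R.x g₀ α := by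
    rw [hq₁, R.x_inv]
    calc R.x g' (z / α) * (y * R.x h z * R.x g₀ α) * R.x g' (z / α)
        = (R.x g' (z / α) * y) * R.x h z * (R.x g₀ α * R.x g' (z / α)) := by group
      _ = y * (R.x g' (z / α) * R.x h z * R.x g' (z / α)) * R.x g₀ α * R.x h (z / α * α) := by
          rw [← (hc' _).eq, hterm]; group
      _ = y * R.x h z * (R.x g₀ α * R.x h z) := by
          rw [(hch (R.x_mem_gen (Or.inr hg'l) _) z).eq, mul_assoc (R.x h z), R.x_mul_self, mul_one,
            div_mul_cancel₀ _ hne, mul_assoc]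
      _ = y * R.x g₀ α := by rw [(hch m0 z).eq, ← mul_assoc, mul_assoc y, R.x_mul_self, mul_one]
  obtain ⟨g, hg, L, hLp, hLA, ho, hgy⟩ := IH y (R.gen_mono (fun r hr => ⟨hT.one_pos hr.1.1 hr.1.2,
    R.perp_insert.2 ⟨hr.2, hr.1.1⟩⟩) hy) hfix.1 hy2
  have hgc : Commute g (R.x g₀ α) :=
    R.gen_commute (fun r hr => (R.perp_insert.1 hr).1.ge) (T.fgen_le_gen _ hg) _
  have he : T.expand [(g₀, α)] = [(g₀, α)] := by simp [expand, expand1, hπ]
  refine ⟨g * R.x g' (z / α) * c, mul_mem (mul_mem (T.fgen_mono (fun r hr => (R.perp_insert.1 hr).2) hg) hx) hc,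
    L ++ [(g₀, α)], ?_, ?_, ?_, ?_⟩
  · intro p hp
    rcases List.mem_append.1 hp with hp | hp
    · exact hLp p hp
    · obtain rfl := List.mem_singleton.1 hp
      exact ⟨hne, fun _ => hα⟩
  · intro p hp
    rw [T.expand_append, he] at hp
    rcases List.mem_append.1 hp with hp | hp
    · exact (R.perp_insert.1 (hLA p hp)).2
    · obtain rfl := List.mem_singleton.1 hp
      exact hg₀.1
  · rw [T.expand_append, he]
    refine List.pairwise_append.2 ⟨ho, List.pairwise_singleton _ _, fun p hp p' hp' => ?_⟩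
    obtain rfl := List.mem_singleton.1 hp'
    exact (R.perp_insert.1 (hLA p hp)).1
  · rw [show g * R.x g' (z / α) * c * q * (g * R.x g' (z / α) * c)⁻¹ =
      g * (R.x g' (z / α) * q₁ * (R.x g' (z / α))⁻¹) * g⁻¹ by simp only [q₁]; group, hconj, ← conj_mul, hgy,
      hgc.eq, mul_inv_cancel_right, T.expand_append, he, Sys.prodX_append, Sys.prodX_cons, Sys.prodX_nil, mul_one]

/-- Clearing the neighbours of a pair of layer roots without common neighbours. -/
theorem clear_layer_pair (hA : T.Ctx A) (hT : R.Top A h) (hh : T.pi h = h) {g₀ : ι} (hg₀ : R.Lay A h g₀)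
    (hπ : T.pi g₀ ≠ g₀) (hno : ∀ f, R.Lay A h f → R.B f g₀ = 1 → R.B f (T.pi g₀) = 1 → False) :
    ∀ M : List ι, (∀ g ∈ M, R.Lay A h g ∧ R.B g g₀ = 1 ∧ R.B g (T.pi g₀) = 0) →
      ∀ {q : G}, q ∈ R.gen (R.Rad A h) → T.sigma q = q → R.coef h q g₀ ≠ 0 →
      ∃ c ∈ T.fgen (R.Perp A), c * q * c⁻¹ ∈ R.gen (R.Rad A h) ∧ T.sigma (c * q * c⁻¹) = c * q * c⁻¹ ∧
        R.coef h (c * q * c⁻¹) g₀ = R.coef h q g₀ ∧ ∀ g ∈ M, R.coef h (c * q * c⁻¹) g = 0 := by
  intro M
  induction M with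
  | nil => exact fun _ {q} hq hs _ => ⟨1, one_mem _, by simpa using hq, by simpa using hs, by simp, by simp⟩
  | cons m M ih =>
      intro hM q hq hs hne
      obtain ⟨c, hc, hcq, hcs, hc₀, hcM⟩ := ih (fun g hg => hM g (List.mem_cons_of_mem _ hg)) hq hs hne
      obtain ⟨hm, hm1, hm0⟩ := hM m List.mem_cons_self
      set g₁ := T.pi g₀ with hg1def
      have hg₁ : R.Lay A h g₁ := T.lay_pi hA hh hg₀
      have horth : R.B g₀ g₁ = 0 := T.pi_orth g₀ hπ
      obtain ⟨b, hb⟩ := R.exists_sub hm1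
      set q' := c * q * c⁻¹
      set s := R.coef h q' m / R.coef h q g₀
      have hb' : R.vec (T.pi b) = R.vec (T.pi m) - R.vec g₁ := by
        rw [T.pi_sum b g₀ m (by rw [hb]; abel)]; abel
      have hm' := T.lay_pi hA hh hm
      have hm1' : R.B (T.pi m) g₁ = 1 := by rw [hg1def, T.pi_B, hm1]
      have hm0' : R.B (T.pi m) g₀ = 0 := by rw [T.B_pi, hm0]
      have bg : R.B g₀ b = -1 := by rw [R.B_symm, R.B_sub hb, hm1, R.B_self]; norm_num
      have bg' : R.B g₀ (T.pi b) = 0 := by rw [R.B_symm, R.B_sub hb', hm0', R.B_symm g₁ g₀, horth]; norm_num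
      have bg1 : R.B g₁ b = 0 := by rw [R.B_symm, R.B_sub hb, hm0, horth]; norm_num
      have hbf : T.pi b ≠ b := fun e => by rw [e] at bg'; omega
      obtain ⟨hbl, hq1, h1m, h1o, h1g⟩ := step_coef hT hg₀ hm hb hm1 s hcq
      set q1 := R.x b s * q' * (R.x b s)⁻¹ with hq1def
      obtain ⟨hbl', hq2, h2m, h2o, h2g⟩ := step_coef hT hg₁ hm' hb' hm1' (T.phi s) hq1
      have hx : T.orb b s ∈ T.fgen (R.Perp A) := T.orb_mem hbl.1 hbl'.1 (fun e => absurd e hbf)
      have horb : T.orb b s = R.x (T.pi b) (T.phi s) * R.x b s := by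
        rw [T.orb_pair hbf, (R.comm _ _ (show 0 ≤ R.B b (T.pi b) by rw [T.pi_orth b hbf]) _ _).eq]
      refine ⟨T.orb b s * c, mul_mem hx hc, ?_, ?_, ?_, fun g hg => ?_⟩
      all_goals rw [show T.orb b s * c * q * (T.orb b s * c)⁻¹ = T.orb b s * q' * (T.orb b s)⁻¹ by
        simp only [q']; group]
      all_goals try rw [show T.orb b s * q' * (T.orb b s)⁻¹ = R.x (T.pi b) (T.phi s) * q1 * (R.x (T.pi b) (T.phi s))⁻¹
        by rw [horb, hq1def]; group]
      · exact hq2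
      · rw [hq1def, show R.x (T.pi b) (T.phi s) * (R.x b s * q' * (R.x b s)⁻¹) * (R.x (T.pi b) (T.phi s))⁻¹ =
          (R.x (T.pi b) (T.phi s) * R.x b s) * q' * (R.x (T.pi b) (T.phi s) * R.x b s)⁻¹ by group, ← horb]
        exact T.sigma_conj hx hcs
      · rw [h2o g₀ hg₀.2 (by rw [bg']; norm_num), h1o g₀ hg₀.2 (by rw [bg]; norm_num), hc₀]
      · obtain ⟨hgl, hg1, hg0⟩ := hM g hg
        have hgb : R.B g (T.pi b) ≠ 1 := by
          intro e
          obtain ⟨k, hk⟩ := R.exists_sub e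
          have k1 : R.B k g₁ = 1 := by
            rw [R.B_sub hk, hg0, R.B_sub hb', hm1', R.B_self]; norm_num
          have k0 : R.B k g₀ = 1 := by
            rw [R.B_sub hk, hg1, R.B_symm (T.pi b) g₀, bg']; norm_num
          exact hno k ⟨R.perp_sub hk hgl.1 hbl'.1, by rw [R.B_sub hk, hgl.2, hbl'.2]; norm_num⟩ k0 k1
        rw [h2o g hgl.2 hgb]
        by_cases e' : g = m
        · subst e'; rw [h1m, hc₀, div_mul_cancel₀ _ hne, R.add_self_F]
        · rw [h1g g hgl.2 hg1 e', hcM g ((List.mem_cons.1 hg).resolve_left e')]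

theorem orb_mul_self {r : ι} (t : F) : T.orb r t * T.orb r t = 1 := by
  by_cases e : T.pi r = r
  · rw [T.orb_fix e, R.x_mul_self]
  · rw [T.orb_pair e, (R.comm _ _ (show 0 ≤ R.B (T.pi r) r by rw [R.B_symm, T.pi_orth r e]) _ _).mul_mul_mul_comm,
      R.x_mul_self, R.x_mul_self, one_mul]

/-- The normal form of an element whose coordinates near a pair of layer roots have been cleared. -/
theorem pair_form (hA : T.Ctx A) (hT : R.Top A h) (hh : T.pi h = h) {g₀ : ι} (hg₀ : R.Lay A h g₀)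
    (hπ : T.pi g₀ ≠ g₀) (hno : ∀ f, R.Lay A h f → R.B f g₀ = 1 → R.B f (T.pi g₀) = 1 → False)
    {q : G} (hq : q ∈ R.gen (R.Rad A h)) (hs : T.sigma q = q) (h2 : q * q = 1)
    (hM : ∀ g, R.Lay A h g → R.B g g₀ = 1 → R.B g (T.pi g₀) = 0 → R.coef h q g = 0) :
    R.coef h q g₀ * R.coef h q (R.co h g₀) + T.phi (R.coef h q g₀ * R.coef h q (R.co h g₀)) = 0 ∧
    ∃ y ∈ R.gen (fun g => R.Lay A h g ∧ R.B g g₀ = 0 ∧ R.B g (T.pi g₀) = 0), ∃ z, T.phi z = z ∧ T.sigma y = y ∧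
      y * y = 1 ∧ q = y * R.x h z * T.orb (R.co h g₀) (R.coef h q (R.co h g₀)) * T.orb g₀ (R.coef h q g₀) := by
  set g₁ := T.pi g₀ with hg1def
  set α := R.coef h q g₀ with hα
  set c₀ := R.co h g₀ with hc0def
  set b := R.coef h q c₀ with hbdef
  have hg₁ : R.Lay A h g₁ := T.lay_pi hA hh hg₀
  have horth : R.B g₀ g₁ = 0 := T.pi_orth g₀ hπ
  have hc₀l : R.Lay A h c₀ := Sys.co_lay hT.1 hg₀
  have hc00 : R.B c₀ g₀ = -1 := co_ne hg₀.2
  have hc01 : R.B c₀ g₁ = 1 := by rw [hc0def, Sys.co_B hg₀.2, R.B_symm h g₁, hg₁.2, horth]; norm_num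
  have hc₁l : R.Lay A h (T.pi c₀) := T.lay_pi hA hh hc₀l
  have hc10 : R.B (T.pi c₀) g₀ = 1 := by rw [T.B_pi, hc01]
  have hc11 : R.B (T.pi c₀) g₁ = -1 := by rw [hg1def, T.pi_B, hc00]
  have hcπ : T.pi c₀ ≠ c₀ := fun e => by rw [e, hc00] at hc10; omega
  have hα1 : R.coef h q g₁ = T.phi α := T.coef_fixed (A := A) hh hg₀.2 hq hs
  have hb1 : R.coef h q (T.pi c₀) = T.phi b := T.coef_fixed (A := A) hh hc₀l.2 hq hs
  have eg : T.orb g₀ α = R.x g₀ α * R.x g₁ (T.phi α) := T.orb_pair hπ _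
  have ec : T.orb c₀ b = R.x c₀ b * R.x (T.pi c₀) (T.phi b) := T.orb_pair hcπ _
  have m0 : T.orb g₀ α ∈ R.gen (R.Rad A h) := by
    rw [eg]; exact mul_mem (R.x_mem_gen (Or.inr hg₀) _) (R.x_mem_gen (Or.inr hg₁) _)
  have m' : T.orb c₀ b ∈ R.gen (R.Rad A h) := by
    rw [ec]; exact mul_mem (R.x_mem_gen (Or.inr hc₀l) _) (R.x_mem_gen (Or.inr hc₁l) _)
  obtain ⟨y, hy, z, hyz⟩ := Sys.exists_form (P := fun g => R.B g g₀ = 0 ∧ R.B g g₁ = 0)
    (mul_mem (mul_mem hq m0) m') fun g hg hne => by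
    by_contra hne0
    apply hne
    rw [Sys.coef_mul (A := A) (mul_mem hq m0) m', Sys.coef_mul (A := A) hq m0, T.coef_orb hg₀ hg₁,
      T.coef_orb hc₀l hc₁l]
    -- g is one of the four roots or has coordinate zero
    by_cases n1 : g = g₀
    · subst n1
      rw [if_pos rfl, if_neg (fun e => hπ e.2), if_neg (fun e => by rw [e, R.B_self] at hc00; omega),
        if_neg (fun e => by rw [e.2, R.B_self] at hc10; omega), ← hα]
      simp [R.add_self_F]
    by_cases n2 : g = g₁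
    · subst n2
      rw [if_neg (Ne.symm n1), if_pos ⟨hπ, rfl⟩, if_neg (fun e => by rw [e, R.B_self] at hc01; omega),
        if_neg (fun e => by rw [e.2, R.B_self] at hc11; omega), hα1]
      simp [R.add_self_F]
    by_cases n3 : g = c₀
    · subst n3
      rw [if_neg (Ne.symm n1), if_neg (fun e => n2 e.2.symm), if_pos rfl, if_neg (fun e => hcπ e.2), ← hbdef]
      simp [R.add_self_F]
    by_cases n4 : g = T.pi c₀
    · subst n4
      rw [if_neg (Ne.symm n1), if_neg (fun e => n2 e.2.symm), if_neg (Ne.symm n3), if_pos ⟨hcπ, rfl⟩, hb1]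
      simp [R.add_self_F]
    rw [if_neg (Ne.symm n1), if_neg (fun e => n2 e.2.symm), if_neg (Ne.symm n3), if_neg (fun e => n4 e.2.symm)]
    simp only [add_zero]
    have e0 : R.B g g₀ ≠ -1 := fun e => n3 (eq_co hg.2 hg₀.2 e)
    have e1 : R.B g g₁ ≠ -1 := fun e => n4 (by
      have := eq_co (T.lay_pi hA hh hg).2 hg₀.2 (show R.B (T.pi g) g₀ = -1 by rw [T.B_pi, ← hg1def, e])
      rw [hc0def, ← this, T.pi_pi])
    rcases pair_B hg.2 hg₀.2 with a0 | a0 | a0 | a0
    · exact absurd a0 e0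
    · rcases pair_B hg.2 hg₁.2 with a1 | a1 | a1 | a1
      · exact absurd a1 e1
      · exact absurd ⟨a0, a1⟩ hne0
      · have h' : R.coef h q (T.pi g) = 0 := hM (T.pi g) (T.lay_pi hA hh hg) (by rw [T.B_pi, ← hg1def, a1])
          (by rw [hg1def, T.pi_B, a0])
        rw [T.coef_fixed (A := A) hh hg.2 hq hs] at h'
        exact T.phi.injective (h'.trans (map_zero _).symm)
      · exact absurd a1 n2
    · rcases pair_B hg.2 hg₁.2 with a1 | a1 | a1 | a1
      · exact absurd a1 e1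
      · exact hM g hg a0 a1
      · exact (hno g hg a0 a1).elim
      · exact absurd a1 n2
    · exact absurd a0 n1
  have hch : ∀ {w}, w ∈ R.gen (R.Rad A h) → ∀ u, Commute w (R.x h u) := fun hw u => Sys.rad_commute (A := A) hw u
  have hyR : y ∈ R.gen (R.Rad A h) := R.gen_mono (fun r hr => Or.inr hr.1) hy
  have hyg : ∀ u, Commute y (R.x g₀ u) := fun u => R.gen_commute (fun r hr => hr.2.1.ge) hy u
  have hyg1 : ∀ u, Commute y (R.x g₁ u) := fun u => R.gen_commute (fun r hr => hr.2.2.ge) hy u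
  have hyc : ∀ u, Commute y (R.x c₀ u) := fun u => R.gen_commute (fun r hr => by
    rw [hc0def, Sys.B_co hg₀.2 hr.1.2, hr.2.1]; norm_num) hy u
  have hyc1 : ∀ u, Commute y (R.x (T.pi c₀) u) := fun u => R.gen_commute (fun r hr => by
    rw [← T.B_pi, hc0def, Sys.B_co hg₀.2 (T.lay_pi hA hh hr.1).2, T.B_pi, ← hg1def, hr.2.2]; norm_num) hy u
  have hq' : q = y * R.x h z * T.orb c₀ b * T.orb g₀ α := by
    rw [← hyz, mul_assoc (q * T.orb g₀ α), T.orb_mul_self, mul_one, mul_assoc, T.orb_mul_self, mul_one]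
  have hy2 : y * y = 1 := (Sys.layer_commute hT hg₀.2 (R.gen_mono (fun r hr => ⟨hr.1, hr.2.1⟩) hy)).1
  have k00 : ∀ u v, R.x g₀ v * R.x c₀ u = R.x c₀ u * R.x g₀ v * R.x h (u * v) := fun u v =>
    R.term c₀ g₀ h hc00 (by rw [hc0def, Sys.vec_co hg₀.2]; abel) u v
  have k11 : ∀ u v, R.x g₁ v * R.x (T.pi c₀) u = R.x (T.pi c₀) u * R.x g₁ v * R.x h (u * v) := fun u v =>
    R.term (T.pi c₀) g₁ h hc11 (by
      have := T.pi_sum c₀ g₀ h (by rw [hc0def, Sys.vec_co hg₀.2]; abel)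
      rwa [hh] at this) u v
  have hP : T.orb c₀ b * T.orb g₀ α * (T.orb c₀ b * T.orb g₀ α) = R.x h (b * α + T.phi b * T.phi α) := by
    have mh : ∀ {r}, R.Lay A h r → ∀ a u, Commute (R.x h u) (R.x r a) := fun hr a u =>
      (hch (R.x_mem_gen (Or.inr hr) a) u).symm
    have hswap : T.orb g₀ α * T.orb c₀ b = T.orb c₀ b * T.orb g₀ α * R.x h (b * α + T.phi b * T.phi α) := by
      rw [eg, ec]
      have c01 : Commute (R.x g₁ (T.phi α)) (R.x c₀ b) :=
        R.comm _ _ (show 0 ≤ R.B g₁ c₀ by rw [R.B_symm, hc01]; norm_num) _ _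
      have c10 : Commute (R.x g₀ α) (R.x (T.pi c₀) (T.phi b)) :=
        R.comm _ _ (show 0 ≤ R.B g₀ (T.pi c₀) by rw [R.B_symm, hc10]; norm_num) _ _
      calc R.x g₀ α * R.x g₁ (T.phi α) * (R.x c₀ b * R.x (T.pi c₀) (T.phi b))
          = R.x g₀ α * R.x c₀ b * (R.x g₁ (T.phi α) * R.x (T.pi c₀) (T.phi b)) := c01.mul_mul_mul_comm _ _
        _ = R.x c₀ b * R.x g₀ α * (R.x h (b * α) * R.x (T.pi c₀) (T.phi b)) *
            (R.x g₁ (T.phi α) * R.x h (T.phi b * T.phi α)) := by rw [k00, k11]; group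
        _ = R.x c₀ b * (R.x g₀ α * R.x (T.pi c₀) (T.phi b)) * (R.x h (b * α) * R.x g₁ (T.phi α)) *
            R.x h (T.phi b * T.phi α) := by rw [(mh hc₁l _ _).eq]; group
        _ = R.x c₀ b * R.x (T.pi c₀) (T.phi b) * (R.x g₀ α * R.x g₁ (T.phi α)) *
            R.x h (b * α + T.phi b * T.phi α) := by rw [c10.eq, (mh hg₁ _ _).eq, ← R.add]; group
    calc T.orb c₀ b * T.orb g₀ α * (T.orb c₀ b * T.orb g₀ α)
        = T.orb c₀ b * (T.orb g₀ α * T.orb c₀ b) * T.orb g₀ α := by group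
      _ = (T.orb c₀ b * T.orb c₀ b) * T.orb g₀ α * (R.x h (b * α + T.phi b * T.phi α) * T.orb g₀ α) := by
          rw [hswap]; group
      _ = R.x h (b * α + T.phi b * T.phi α) := by
          rw [T.orb_mul_self, one_mul, ← (hch m0 _).eq, ← mul_assoc, T.orb_mul_self, one_mul]
  have hyT : Commute (y * R.x h z) (T.orb c₀ b * T.orb g₀ α) := by
    refine Commute.mul_left (Commute.mul_right ?_ ?_) (hch (mul_mem m' m0) z).symm
    · rw [ec]; exact (hyc _).mul_right (hyc1 _)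
    · rw [eg]; exact (hyg _).mul_right (hyg1 _)
  have hyzsq : y * R.x h z * (y * R.x h z) = 1 := by
    rw [(hch hyR z).symm.mul_mul_mul_comm, hy2, R.x_mul_self, one_mul]
  have h22 := h2
  rw [hq', mul_assoc (y * R.x h z) (T.orb c₀ b), hyT.symm.mul_mul_mul_comm, hyzsq, one_mul, hP] at h22
  have htr := R.inj_x h _ h22
  refine ⟨by rw [map_mul, mul_comm α b, mul_comm (T.phi α) (T.phi b)]; exact htr, y, hy, z, ?_⟩
  have hys : T.sigma y ∈ R.gen (fun g => R.Lay A h g ∧ R.B g g₀ = 0 ∧ R.B g g₁ = 0) :=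
    T.sigma_gen (fun r hr => ⟨T.lay_pi hA hh hr.1, by rw [T.B_pi, ← hg1def]; exact hr.2.2,
      by rw [hg1def, T.pi_B]; exact hr.2.1⟩) hy
  have hyS : T.sigma y * R.x h (T.phi z) = y * R.x h z := by
    have := hs
    rw [hq', map_mul, map_mul, map_mul, T.sigma_x, hh, T.sigma_orb (fun e => absurd e hcπ),
      T.sigma_orb (fun e => absurd e hπ)] at this
    exact mul_right_cancel (mul_right_cancel this)
  have e : y⁻¹ * T.sigma y = R.x h (z + T.phi z) := by
    calc y⁻¹ * T.sigma y = y⁻¹ * (T.sigma y * R.x h (T.phi z)) * R.x h (T.phi z) := by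
          rw [mul_assoc, mul_assoc, R.x_mul_self, mul_one]
      _ = R.x h (z + T.phi z) := by rw [hyS, ← mul_assoc, inv_mul_cancel, one_mul, R.add]
  have hzero : z + T.phi z = 0 := by
    refine R.inj_x h _ (R.inter g₀ _ ?_ ?_)
    · rw [← e]
      exact R.gen_mono (fun r hr => hr.2.1) (mul_mem (inv_mem hy) hys)
    · exact R.x_mem_gen (P := fun r => 1 ≤ R.B r g₀) (by rw [R.B_symm, hg₀.2]) _
  have hz : T.phi z = z := by
    calc T.phi z = z + (z + T.phi z) := by rw [← add_assoc, R.add_self_F, zero_add]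
      _ = z := by rw [hzero, add_zero]
  rw [hz] at hyS
  exact ⟨hz, mul_right_cancel hyS, hy2, hq'⟩

/-- The case of a nonzero coordinate at a pair of layer roots without common neighbours. -/
theorem rad_pair (hA : T.Ctx A) (hT : R.Top A h) (hh : T.pi h = h) {g₀ : ι} (hg₀ : R.Lay A h g₀)
    (hπ : T.pi g₀ ≠ g₀) (hno : ∀ f, R.Lay A h f → R.B f g₀ = 1 → R.B f (T.pi g₀) = 1 → False)
    (IH : T.Good (insert g₀ (insert (T.pi g₀) A))) {q : G} (hq : q ∈ R.gen (R.Rad A h)) (hs : T.sigma q = q)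
    (h2 : q * q = 1) (hne : R.coef h q g₀ ≠ 0) :
    ∃ g ∈ T.fgen (R.Perp A), ∃ L : List (ι × F), T.Par L ∧ (∀ p ∈ T.expand L, R.Perp A p.1) ∧
      R.Orth (T.expand L) ∧ g * q * g⁻¹ = R.prodX (T.expand L) := by
  set g₁ := T.pi g₀ with hg1def
  have hg₁ : R.Lay A h g₁ := T.lay_pi hA hh hg₀
  have horth : R.B g₀ g₁ = 0 := T.pi_orth g₀ hπ
  obtain ⟨c, hc, hcq, hcs, hc₀, hcM⟩ := T.clear_layer_pair hA hT hh hg₀ hπ hno
    (Finset.univ.filter fun g => R.Lay A h g ∧ R.B g g₀ = 1 ∧ R.B g g₁ = 0).toList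
    (fun g hg => by simpa using hg) hq hs hne
  set q₁ := c * q * c⁻¹ with hq1def
  set α := R.coef h q g₀ with hαdef
  have hM1 : ∀ g, R.Lay A h g → R.B g g₀ = 1 → R.B g g₁ = 0 → R.coef h q₁ g = 0 :=
    fun g a b e => hcM g (by simp [a, b, e])
  have h21 : q₁ * q₁ = 1 := by rw [hq1def, conj_mul, h2, mul_one, mul_inv_cancel]
  obtain ⟨htr, -⟩ := T.pair_form hA hT hh hg₀ hπ hno hcq hcs h21 hM1
  set c₀ := R.co h g₀ with hc0def
  have hc₀l : R.Lay A h c₀ := Sys.co_lay hT.1 hg₀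
  set b := R.coef h q₁ c₀
  rw [hc₀] at htr
  have hc01 : R.B c₀ g₁ = 1 := by rw [hc0def, Sys.co_B hg₀.2, R.B_symm h g₁, hg₁.2, horth]; norm_num
  obtain ⟨d, hd⟩ := R.exists_sub hc01
  have hdl : R.Lev A h d := ⟨R.perp_sub hd hc₀l.1 hg₁.1, by rw [R.B_sub hd, hc₀l.2, hg₁.2, sub_self]⟩
  have hdπ : T.pi d = d := by
    apply R.inj
    have hv1 : R.vec h = R.vec c₀ + R.vec g₀ := by rw [hc0def, Sys.vec_co hg₀.2]; abel
    have hv2 : R.vec c₀ = R.vec d + R.vec g₁ := by rw [hd]; abel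
    have e1 := T.pi_sum _ _ _ hv1
    have e2 := T.pi_sum _ _ _ hv2
    rw [hh, ← hg1def] at e1
    rw [hg1def, T.pi_pi] at e2
    have e3 := e1
    rw [e2, hv1, hv2] at e3
    linear_combination (norm := module) (-1 : ℤ) • e3
  set s := b / T.phi α
  have hαne : T.phi α ≠ 0 := fun e => hne (T.phi.injective (e.trans (map_zero _).symm))
  have hprod : T.phi (α * b) = α * b := by
    calc T.phi (α * b) = α * b + (α * b + T.phi (α * b)) := by rw [← add_assoc, R.add_self_F, zero_add]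
      _ = α * b := by rw [htr, add_zero]
  have hsfix : T.phi s = s := by
    simp only [s, map_div₀, T.phi_phi]
    rw [div_eq_div_iff hne hαne, ← map_mul, mul_comm b α, hprod]
  have hx : R.x d s ∈ T.fgen (R.Perp A) := by
    rw [← T.orb_fix hdπ]; exact T.orb_mem hdl.1 (by rw [hdπ]; exact hdl.1) fun _ => hsfix
  set q₂ := R.x d s * q₁ * (R.x d s)⁻¹ with hq2def
  have hq2m : q₂ ∈ R.gen (R.Rad A h) := hT.lev_conj hdl s hcq
  have hq2s : T.sigma q₂ = q₂ := T.sigma_conj hx hcs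
  have hdg0 : R.B g₀ d = -1 := by
    rw [R.B_symm, R.B_sub hd, co_ne hg₀.2, R.B_symm g₁ g₀, horth]; norm_num
  have h2g0 : R.coef h q₂ g₀ = α := by
    rw [(hT.coef_conj hdl s hcq hg₀.2).2 (by rw [hdg0]; norm_num), hc₀]
  have hM2 : ∀ g, R.Lay A h g → R.B g g₀ = 1 → R.B g g₁ = 0 → R.coef h q₂ g = 0 := by
    intro g hg a a'
    rw [(hT.coef_conj hdl s hcq hg.2).2 ?_, hM1 g hg a a']
    rw [R.B_symm, R.B_sub hd, R.B_symm c₀ g, hc0def, Sys.B_co hg₀.2 hg.2, a, R.B_symm g₁ g, a']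
    norm_num
  have hb2 : R.coef h q₂ c₀ = 0 := by
    rw [(hT.coef_conj hdl s hcq hc₀l.2).1 g₁ (by rw [hd]; abel)
      (by rw [R.B_symm, R.B_sub hd, R.B_self, R.B_symm g₁ c₀, hc01]; norm_num),
      T.coef_fixed (A := A) hh hg₀.2 hcq hcs, hc₀, div_mul_cancel₀ _ hαne, R.add_self_F]
  have h22 : q₂ * q₂ = 1 := by rw [hq2def, conj_mul, h21, mul_one, mul_inv_cancel]
  obtain ⟨-, y, hy, z, hz, hys, hy2, hq2⟩ := T.pair_form hA hT hh hg₀ hπ hno hq2m hq2s h22 hM2
  rw [hb2, h2g0] at *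
  have hc00 : R.B c₀ g₀ = -1 := co_ne hg₀.2
  have hc₁l : R.Lay A h (T.pi c₀) := T.lay_pi hA hh hc₀l
  have hc10 : R.B (T.pi c₀) g₀ = 1 := by rw [T.B_pi, ← hg1def, hc01]
  have hcπ : T.pi c₀ ≠ c₀ := fun e => by rw [e, hc00] at hc10; omega
  have horb0 : T.orb c₀ 0 = 1 := by rw [T.orb_pair hcπ, map_zero, R.x_zero, R.x_zero, one_mul]
  rw [horb0, mul_one] at hq2
  -- removing the central coordinate
  obtain ⟨a, ha⟩ := T.trace
  set v := a * z / α
  have hxv : T.orb c₀ v ∈ T.fgen (R.Perp A) := T.orb_mem hc₀l.1 hc₁l.1 fun e => absurd e hcπ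
  have hzv : v * α + T.phi v * T.phi α = z := by
    rw [← map_mul, div_mul_cancel₀ _ hne, map_mul, hz, ← add_mul, ha, one_mul]
  have hconj : T.orb c₀ v * q₂ * (T.orb c₀ v)⁻¹ = y * T.orb g₀ α := by
    have hch : ∀ {w}, w ∈ R.gen (R.Rad A h) → ∀ u, Commute w (R.x h u) := fun hw u =>
      Sys.rad_commute (A := A) hw u
    have hyc : Commute (T.orb c₀ v) y := by
      rw [T.orb_pair hcπ]
      refine Commute.mul_left (R.gen_commute (fun r hr => by
          rw [hc0def, Sys.B_co hg₀.2 hr.1.2, hr.2.1]; norm_num) hy _).symm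
        (R.gen_commute (fun r hr => by
          rw [← T.B_pi, hc0def, Sys.B_co hg₀.2 (T.lay_pi hA hh hr.1).2, T.B_pi, ← hg1def, hr.2.2]
          norm_num) hy _).symm
    have mc : T.orb c₀ v ∈ R.gen (R.Rad A h) := by
      rw [T.orb_pair hcπ]; exact mul_mem (R.x_mem_gen (Or.inr hc₀l) _) (R.x_mem_gen (Or.inr hc₁l) _)
    have mg : T.orb g₀ α ∈ R.gen (R.Rad A h) := by
      rw [T.orb_pair hπ]; exact mul_mem (R.x_mem_gen (Or.inr hg₀) _) (R.x_mem_gen (Or.inr hg₁) _)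
    have hswap : T.orb g₀ α * T.orb c₀ v = T.orb c₀ v * T.orb g₀ α * R.x h z := by
      have k00 := R.term c₀ g₀ h hc00 (by rw [hc0def, Sys.vec_co hg₀.2]; abel) v α
      have hc11 : R.B (T.pi c₀) g₁ = -1 := by rw [hg1def, T.pi_B, hc00]
      have k11 := R.term (T.pi c₀) g₁ h hc11 (by
        have := T.pi_sum c₀ g₀ h (by rw [hc0def, Sys.vec_co hg₀.2]; abel)
        rwa [hh, ← hg1def] at this) (T.phi v) (T.phi α)
      have c01 : Commute (R.x g₁ (T.phi α)) (R.x c₀ v) :=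
        R.comm _ _ (show 0 ≤ R.B g₁ c₀ by rw [R.B_symm, hc01]; norm_num) _ _
      have c10 : Commute (R.x g₀ α) (R.x (T.pi c₀) (T.phi v)) :=
        R.comm _ _ (show 0 ≤ R.B g₀ (T.pi c₀) by rw [R.B_symm, hc10]; norm_num) _ _
      rw [T.orb_pair hπ, T.orb_pair hcπ, ← hg1def]
      calc R.x g₀ α * R.x g₁ (T.phi α) * (R.x c₀ v * R.x (T.pi c₀) (T.phi v))
          = R.x g₀ α * R.x c₀ v * (R.x g₁ (T.phi α) * R.x (T.pi c₀) (T.phi v)) := c01.mul_mul_mul_comm _ _
        _ = R.x c₀ v * R.x g₀ α * (R.x h (v * α) * R.x (T.pi c₀) (T.phi v)) *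
            (R.x g₁ (T.phi α) * R.x h (T.phi v * T.phi α)) := by rw [k00, k11]; group
        _ = R.x c₀ v * (R.x g₀ α * R.x (T.pi c₀) (T.phi v)) * (R.x h (v * α) * R.x g₁ (T.phi α)) *
            R.x h (T.phi v * T.phi α) := by rw [← (hch (R.x_mem_gen (Or.inr hc₁l) _) _).eq]; group
        _ = R.x c₀ v * R.x (T.pi c₀) (T.phi v) * (R.x g₀ α * R.x g₁ (T.phi α)) * R.x h z := by
            rw [c10.eq, ← (hch (R.x_mem_gen (Or.inr hg₁) _) _).eq, ← hzv, ← R.add]; group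
    rw [hq2, show (T.orb c₀ v)⁻¹ = T.orb c₀ v from inv_eq_of_mul_eq_one_right (T.orb_mul_self v)]
    calc T.orb c₀ v * (y * R.x h z * T.orb g₀ α) * T.orb c₀ v
        = (T.orb c₀ v * y) * R.x h z * (T.orb g₀ α * T.orb c₀ v) := by group
      _ = y * (T.orb c₀ v * R.x h z * T.orb c₀ v) * T.orb g₀ α * R.x h z := by rw [hyc.eq, hswap]; group
      _ = y * R.x h z * (T.orb g₀ α * R.x h z) := by
          rw [(hch mc z).eq, mul_assoc (R.x h z), T.orb_mul_self, mul_one, mul_assoc]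
      _ = y * T.orb g₀ α := by rw [(hch mg z).eq, ← mul_assoc, mul_assoc y, R.x_mul_self, mul_one]
  obtain ⟨g, hg, L, hLp, hLA, ho, hgy⟩ := IH y (R.gen_mono (fun r hr => ⟨hT.one_pos hr.1.1 hr.1.2,
    R.perp_insert.2 ⟨hr.2.1, R.perp_insert.2 ⟨hr.2.2, hr.1.1⟩⟩⟩) hy) hys hy2
  have hg0 : ∀ r, R.Perp (insert g₀ (insert g₁ A)) r → R.B r g₀ = 0 ∧ R.B r g₁ = 0 ∧ R.Perp A r := fun r hr =>
    ⟨(R.perp_insert.1 hr).1, (R.perp_insert.1 (R.perp_insert.1 hr).2).1, (R.perp_insert.1 (R.perp_insert.1 hr).2).2⟩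
  have hgc : Commute g (T.orb g₀ α) := by
    rw [T.orb_pair hπ]
    exact (R.gen_commute (fun r hr => (hg0 r hr).1.ge) (T.fgen_le_gen _ hg) _).mul_right
      (R.gen_commute (fun r hr => (hg0 r hr).2.1.ge) (T.fgen_le_gen _ hg) _)
  refine ⟨g * T.orb c₀ v * (R.x d s * c),
    mul_mem (mul_mem (T.fgen_mono (fun r hr => (hg0 r hr).2.2) hg) hxv) (mul_mem hx hc), L ++ [(g₀, α)], ?_, ?_, ?_, ?_⟩
  · intro p hp
    rcases List.mem_append.1 hp with hp | hp
    · exact hLp p hp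
    · obtain rfl := List.mem_singleton.1 hp
      exact ⟨hne, fun e => absurd e hπ⟩
  · intro p hp
    rw [T.expand_append] at hp
    rcases List.mem_append.1 hp with hp | hp
    · exact (hg0 _ (hLA p hp)).2.2
    · rw [T.expand_cons, show T.expand [] = [] from rfl, List.append_nil] at hp
      rcases T.mem_expand1 hp with rfl | ⟨-, rfl⟩
      · exact hg₀.1
      · exact hg₁.1
  · rw [T.expand_append]
    refine List.pairwise_append.2 ⟨ho, ?_, fun p hp p' hp' => ?_⟩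
    · rw [T.expand_cons, show T.expand [] = [] from rfl, List.append_nil]
      exact T.orb_self _
    · rw [T.expand_cons, show T.expand [] = [] from rfl, List.append_nil] at hp'
      rcases T.mem_expand1 hp' with rfl | ⟨-, rfl⟩
      · exact (hg0 _ (hLA p hp)).1
      · exact (hg0 _ (hLA p hp)).2.1
  · rw [show g * T.orb c₀ v * (R.x d s * c) * q * (g * T.orb c₀ v * (R.x d s * c))⁻¹ =
      g * (T.orb c₀ v * q₂ * (T.orb c₀ v)⁻¹) * g⁻¹ by simp only [hq2def, hq1def]; group, hconj, ← conj_mul, hgy,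
      hgc.eq, mul_inv_cancel_right, T.expand_append, Sys.prodX_append, T.expand_cons,
      show T.expand [] = [] from rfl, List.append_nil, T.prod_expand1]

/-- The case of a fixed involution inside the unipotent radical. -/
theorem rad_case (hA : T.Ctx A) (hT : R.Top A h) (hh : T.pi h = h)
    (IH : ∀ g₀, R.Lay A h g₀ → T.Good (insert g₀ (insert (T.pi g₀) A))) {q : G} (hq : q ∈ R.gen (R.Rad A h))
    (hs : T.sigma q = q) (h2 : q * q = 1) :
    ∃ g ∈ T.fgen (R.Perp A), ∃ L : List (ι × F), T.Par L ∧ (∀ p ∈ T.expand L, R.Perp A p.1) ∧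
      R.Orth (T.expand L) ∧ g * q * g⁻¹ = R.prodX (T.expand L) := by
  have fix : ∀ g₀, R.Lay A h g₀ → T.pi g₀ = g₀ → ∀ {q : G}, q ∈ R.gen (R.Rad A h) → T.sigma q = q → q * q = 1 →
      R.coef h q g₀ ≠ 0 → ∃ g ∈ T.fgen (R.Perp A), ∃ L : List (ι × F), T.Par L ∧
        (∀ p ∈ T.expand L, R.Perp A p.1) ∧ R.Orth (T.expand L) ∧ g * q * g⁻¹ = R.prodX (T.expand L) := by
    intro g₀ hg₀ hπ q hq hs h2 hne
    have := IH g₀ hg₀
    rw [hπ, Finset.insert_idem] at this
    exact T.rad_fixed hA hT hh hg₀ hπ this hq hs h2 hne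
  by_cases hz : ∀ g, R.Lay A h g → R.coef h q g = 0
  · obtain ⟨y, hy, z, rfl⟩ := Sys.exists_form (P := fun _ => False) hq fun g hg hne => hne (hz g hg)
    obtain rfl : y = 1 := Subgroup.mem_bot.1
      (R.gen_le (P := fun g => R.Lay A h g ∧ False) (H := ⊥) (fun r t hr => hr.2.elim) hy)
    by_cases e : z = 0
    · exact ⟨1, one_mem _, [], by simp [Par], by simp [expand], List.Pairwise.nil,
        by simp [e, R.x_zero, expand, Sys.prodX_nil]⟩
    · have hzf : T.phi z = z := by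
        rw [one_mul, T.sigma_x, hh] at hs
        exact Sys.x_inj hs
      have he : T.expand [(h, z)] = [(h, z)] := by simp [expand, expand1, hh]
      exact ⟨1, one_mem _, [(h, z)], by simp [Par, e, hzf], by simp [he, hT.1], by rw [he]; exact List.pairwise_singleton _ _,
        by simp [he, Sys.prodX_cons, Sys.prodX_nil]⟩
  by_cases hf : ∃ g₀, R.Lay A h g₀ ∧ T.pi g₀ = g₀ ∧ R.coef h q g₀ ≠ 0
  · obtain ⟨g₀, hg₀, hπ, hne⟩ := hf
    exact fix g₀ hg₀ hπ hq hs h2 hne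
  push Not at hz hf
  obtain ⟨g₀, hg₀, hne⟩ := hz
  have hπ : T.pi g₀ ≠ g₀ := fun e => hne (hf g₀ hg₀ e)
  rcases T.ctx_layer A h hA hT hh g₀ hg₀ hπ with ⟨f, hfl, hfπ, hf1⟩ | hno
  swap
  · exact T.rad_pair hA hT hh hg₀ hπ hno (IH g₀ hg₀) hq hs h2 hne
  set g₁ := T.pi g₀ with hg1def
  have hg₁ : R.Lay A h g₁ := T.lay_pi hA hh hg₀
  have horth : R.B g₀ g₁ = 0 := T.pi_orth g₀ hπ
  have hf1' : R.B f g₁ = 1 := by rw [hg1def, ← T.B_pi, hfπ, hf1]
  obtain ⟨b, hb⟩ := R.exists_sub hf1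
  have hb' : R.vec (T.pi b) = R.vec f - R.vec g₁ := by
    have := T.pi_sum b g₀ f (by rw [hb]; abel)
    rw [hfπ] at this
    rw [this]; abel
  have hbf : T.pi b ≠ b := by
    intro e
    have h0 : R.B b g₀ = -1 := by rw [R.B_sub hb, hf1, R.B_self]; norm_num
    have h1 : R.B (T.pi b) g₀ = 1 := by rw [R.B_sub hb', hf1, R.B_symm g₁ g₀, horth]; norm_num
    rw [e, h0] at h1
    omega
  obtain ⟨a, ha⟩ := T.trace
  set α := R.coef h q g₀
  set s := a / α
  obtain ⟨hbl, hq1, h1m, h1o, h1g⟩ := step_coef hT hg₀ hfl hb hf1 s hq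
  obtain ⟨hbl', hq2, h2m, -, -⟩ := step_coef hT hg₁ hfl hb' hf1' (T.phi s) hq1
  have hx : T.orb b s ∈ T.fgen (R.Perp A) := T.orb_mem hbl.1 hbl'.1 fun e => absurd e hbf
  have horbeq : T.orb b s * q * (T.orb b s)⁻¹ =
      R.x (T.pi b) (T.phi s) * (R.x b s * q * (R.x b s)⁻¹) * (R.x (T.pi b) (T.phi s))⁻¹ := by
    rw [T.orb_pair hbf, (R.comm _ _ (show 0 ≤ R.B b (T.pi b) by rw [T.pi_orth b hbf]) _ _).eq]; group
  have hg1v : R.coef h (R.x b s * q * (R.x b s)⁻¹) g₁ = T.phi α := by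
    have hb1 : R.B g₁ b = 1 := by rw [R.B_symm, R.B_sub hb, hf1', horth]; norm_num
    obtain ⟨k, hk⟩ := R.exists_sub hb1
    have hk1 : R.B k h = 1 := by rw [R.B_sub hk, hg₁.2, hbl.2]; norm_num
    have hkl : R.Lay A h k := ⟨R.perp_sub hk hg₁.1 hbl.1, hk1⟩
    have hkπ : T.pi k = k := by
      apply R.inj
      have e := T.pi_sum b k g₁ (by rw [hk]; abel)
      rw [hg1def, T.pi_pi] at e
      rw [hk, hb, show R.vec (T.pi k) = R.vec g₀ - R.vec (T.pi b) by rw [e]; abel, hb']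
      abel
    rw [(hT.coef_conj hbl s hq hg₁.2).1 k (by rw [hk]; abel) hb1, hf k hkl hkπ, mul_zero, add_zero]
    exact T.coef_fixed (A := A) hh hg₀.2 hq hs
  have hne' : R.coef h (T.orb b s * q * (T.orb b s)⁻¹) f ≠ 0 := by
    rw [horbeq, h2m, hg1v, h1m, hf f hfl hfπ, zero_add, ← map_mul, div_mul_cancel₀ _ hne, ha]
    exact one_ne_zero
  obtain ⟨g, hg, L, hLp, hLA, ho, hgq⟩ := fix f hfl hfπ (by rw [horbeq]; exact hq2) (T.sigma_conj hx hs)
    (by rw [conj_mul, h2, mul_one, mul_inv_cancel]) hne'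
  exact ⟨g * T.orb b s, mul_mem hg hx, L, hLp, hLA, ho, by rw [← hgq]; group⟩

theorem ctx_union {S : Finset ι} :
    ∀ L : List (ι × F), R.Orth (T.expand L) → T.Ctx S → (∀ p ∈ T.expand L, R.Perp S p.1) →
      T.Ctx (S ∪ ((T.expand L).map Prod.fst).toFinset) := by
  intro L
  induction L generalizing S with
  | nil => intro _ hS _; simpa [expand] using hS
  | cons p L ih =>
      intro ho hS hperp
      rw [T.expand_cons] at ho hperp ⊢
      obtain ⟨-, ho2, ho12⟩ := List.pairwise_append.1 ho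
      have hp : p ∈ T.expand1 p := by
        by_cases e : T.pi p.1 = p.1 <;> simp [expand1, e]
      have h1 := T.ctx_insert S p.1 hS (hperp p (List.mem_append_left _ hp))
      have hkey : ∀ q ∈ T.expand L, R.Perp (insert p.1 (insert (T.pi p.1) S)) q.1 := by
        intro q hq
        refine R.perp_insert.2 ⟨by rw [R.B_symm]; exact ho12 p hp q hq, R.perp_insert.2 ⟨?_,
          hperp q (List.mem_append_right _ hq)⟩⟩
        by_cases e : T.pi p.1 = p.1
        · rw [e, R.B_symm]; exact ho12 p hp q hq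
        · rw [R.B_symm]; exact ho12 (T.pi p.1, T.phi p.2) (by simp [expand1, e]) q hq
      have := ih ho2 h1 hkey
      have heq : insert p.1 (insert (T.pi p.1) S) ∪ ((T.expand L).map Prod.fst).toFinset =
          S ∪ ((T.expand1 p ++ T.expand L).map Prod.fst).toFinset := by
        ext x
        by_cases e : T.pi p.1 = p.1 <;> simp [expand1, e] <;> tauto
      rwa [heq] at this

/-- Every fixed involution is conjugate to a product over orthogonal orbits. -/
theorem good : ∀ (A : Finset ι), T.Ctx A → T.Good A := by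
  intro A
  induction hn : (Finset.univ.filter (R.Perp A)).card using Nat.strong_induction_on generalizing A with
  | _ N ih =>
    intro hA
    have hlt : ∀ (B : Finset ι) (r : ι), T.Ctx B → A ⊆ B → R.Perp A r → ¬R.Perp B r → T.Good B := by
      intro B r hB hsub hr hr'
      refine ih _ ?_ B rfl hB
      rw [← hn]
      refine Finset.card_lt_card (Finset.ssubset_iff_of_subset ?_ |>.2 ⟨r, ?_, ?_⟩)
      · intro x hx
        simp only [Finset.mem_filter, Finset.mem_univ, true_and] at hx ⊢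
        exact fun a ha => hx a (hsub ha)
      · simpa using hr
      · simpa using hr'
    intro u hu hus h2
    by_cases hne : ∃ r, R.Perp A r
    swap
    · have hu1 : u = 1 := Subgroup.mem_bot.1 (R.gen_le (H := ⊥) (fun r t hr => (hne ⟨r, hr.2⟩).elim) hu)
      exact ⟨1, one_mem _, [], by simp [Par], by simp [expand], List.Pairwise.nil,
        by simp [hu1, expand, Sys.prodX_nil]⟩
    obtain ⟨h, hT, hh⟩ := T.ctx_top A hA hne
    obtain ⟨l, hl, q, hq, rfl⟩ := hT.decomp hu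
    have hl' : l ∈ R.gen (R.Lev A h) := R.gen_mono (fun r hr => hr.2) hl
    have hsl : T.sigma l ∈ R.gen (R.Lev A h) := T.sigma_gen (fun r hr => T.lev_pi hA hh hr) hl'
    have hsq : T.sigma q ∈ R.gen (R.Rad A h) := T.sigma_gen (fun r hr => T.rad_pi hA hh hr) hq
    have hls : T.sigma l = l := by
      have e : l⁻¹ * T.sigma l = q * (T.sigma q)⁻¹ := by
        rw [map_mul] at hus
        calc l⁻¹ * T.sigma l = l⁻¹ * (T.sigma l * T.sigma q) * (T.sigma q)⁻¹ := by group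
          _ = q * (T.sigma q)⁻¹ := by rw [hus]; group
      refine (inv_mul_eq_one.1 (R.inter h _ (R.gen_mono (fun r hr => hr.2) (mul_mem (inv_mem hl') hsl)) ?_)).symm
      rw [e]
      exact R.gen_mono (fun r hr => Sys.rad_B hr) (mul_mem hq (inv_mem hsq))
    have hqs : T.sigma q = q := by
      rw [map_mul, hls] at hus
      exact mul_left_cancel hus
    have hll : l * l = 1 := by
      refine R.inter h _ (R.gen_mono (fun r hr => hr.2) (mul_mem hl' hl')) ?_
      have hc := hT.lev_normalize hl' q hq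
      have e : l * l = (l * q * l⁻¹)⁻¹ * q⁻¹ := by
        have h' : l * q * l⁻¹ * (l * l) * q = 1 := by rw [← h2]; group
        calc l * l = (l * q * l⁻¹)⁻¹ * (l * q * l⁻¹ * (l * l) * q) * q⁻¹ := by group
          _ = (l * q * l⁻¹)⁻¹ * q⁻¹ := by rw [h', mul_one]
      rw [e]
      exact R.gen_mono (fun r hr => Sys.rad_B hr) (mul_mem (inv_mem hc) (inv_mem hq))
    obtain ⟨g, hg, L, hLp, hLA, ho, hgl⟩ := hlt (insert h A) h (T.ctx_insert_fix hA hT.1 hh)
      (Finset.subset_insert _ _) hT.1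
      (fun e => by have := e h (Finset.mem_insert_self _ _); rw [R.B_self] at this; omega) l
      (R.gen_mono (fun r hr => ⟨hr.1, R.perp_insert.2 ⟨hr.2.2, hr.2.1⟩⟩) hl) hls hll
    have hgA : g ∈ T.fgen (R.Perp A) := T.fgen_mono (fun r hr => (R.perp_insert.1 hr).2) hg
    have hg' : g ∈ R.gen (R.Lev A h) :=
      R.gen_mono (fun r hr => ⟨(R.perp_insert.1 hr).2, (R.perp_insert.1 hr).1⟩) (T.fgen_le_gen _ hg)
    have hq1 := hT.lev_normalize hg' q hq
    have hqs1 : T.sigma (g * q * g⁻¹) = g * q * g⁻¹ := T.sigma_conj hg hqs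
    have hw : g * (l * q) * g⁻¹ = R.prodX (T.expand L) * (g * q * g⁻¹) := by rw [← conj_mul, hgl]
    have h2' : R.prodX (T.expand L) * (g * q * g⁻¹) * (R.prodX (T.expand L) * (g * q * g⁻¹)) = 1 := by
      rw [← hw, conj_mul, h2, mul_one, mul_inv_cancel]
    by_cases hLn : L = []
    · subst hLn
      rw [show T.expand ([] : List (ι × F)) = [] from rfl, Sys.prodX_nil, one_mul] at hw h2'
      obtain ⟨g₂, hg₂, M, hMp, hMA, hoM, hgM⟩ := T.rad_case hA hT hh (fun g₀ hg₀ => hlt _ g₀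
        (T.ctx_insert A g₀ hA hg₀.1) ((Finset.subset_insert _ _).trans (Finset.subset_insert _ _)) hg₀.1
        (fun e => by have := e g₀ (Finset.mem_insert_self _ _); rw [R.B_self] at this; omega)) hq1 hqs1 h2'
      refine ⟨g₂ * g, mul_mem hg₂ hgA, M, hMp, hMA, hoM, ?_⟩
      rw [show g₂ * g * (l * q) * (g₂ * g)⁻¹ = g₂ * (g * (l * q) * g⁻¹) * g₂⁻¹ by group, hw, hgM]
    have hLlev : ∀ p ∈ T.expand L, R.Lev A h p.1 := fun p hp =>
      ⟨(R.perp_insert.1 (hLA p hp)).2, (R.perp_insert.1 (hLA p hp)).1⟩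
    obtain ⟨p, hp, hpR, q', hq', hq's, hpe, hsupp⟩ := T.clear_fixed hA hT hh hLlev (T.expand_spec hLp).1 ho
      (T.expand_spec hLp).2 (T.sigma_expand hLp) hq1 hqs1 h2'
    set S := A ∪ ((T.expand L).map Prod.fst).toFinset
    have hSc : T.Ctx S := T.ctx_union L ho hA fun b hb => (hLlev b hb).1
    have hS : ∀ r, R.Perp S r ↔ R.Perp A r ∧ ∀ a ∈ T.expand L, R.B r a.1 = 0 := by
      intro r
      simp only [Sys.Perp, S, Finset.mem_union, List.mem_toFinset, List.mem_map]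
      exact ⟨fun e => ⟨fun a ha => e a (Or.inl ha), fun a ha => e a.1 (Or.inr ⟨a, ha, rfl⟩)⟩,
        fun e a ha => ha.elim (e.1 a) fun ⟨b, hb, eb⟩ => eb ▸ e.2 b hb⟩
    obtain ⟨y, hy, z, rfl⟩ := Sys.exists_form (P := fun g => ∀ a ∈ T.expand L, R.B g a.1 = 0) hq'
      fun g hg hne => hsupp g hg.2 hne
    have hhS : R.Perp S h := (hS h).2 ⟨hT.1, fun a ha => by rw [R.B_symm]; exact (hLlev a ha).2⟩
    have hq'S : y * R.x h z ∈ R.gen (fun r => R.pos r ∧ R.Perp S r) := mul_mem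
      (R.gen_mono (fun r hr => ⟨hT.one_pos hr.1.1 hr.1.2, (hS r).2 ⟨hr.1.1, hr.2⟩⟩) hy)
      (R.x_mem_gen (P := fun r => R.pos r ∧ R.Perp S r) ⟨hT.2.1, hhS⟩ z)
    have hXc : ∀ {w}, w ∈ R.gen (R.Perp S) → Commute w (R.prodX (T.expand L)) := by
      intro w hw
      refine Commute.list_prod_right _ _ fun y hy => ?_
      obtain ⟨a, ha, rfl⟩ := List.mem_map.1 hy
      exact R.gen_commute (fun r hr => (((hS r).1 hr).2 a ha).ge) hw _
    have hq'2 : y * R.x h z * (y * R.x h z) = 1 := by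
      have hc := hXc (R.gen_mono (fun r hr => hr.2) hq'S)
      have : R.prodX (T.expand L) * (y * R.x h z) * (R.prodX (T.expand L) * (y * R.x h z)) = 1 := by
        rw [← hpe, conj_mul, h2', mul_one, mul_inv_cancel]
      rwa [hc.mul_mul_mul_comm, Sys.prodX_sq ho, one_mul] at this
    obtain ⟨a, haL⟩ : ∃ a, a ∈ T.expand L := by
      obtain ⟨b, hb⟩ := List.exists_mem_of_ne_nil L hLn
      refine ⟨b, List.mem_flatMap.2 ⟨b, hb, ?_⟩⟩
      by_cases e : T.pi b.1 = b.1 <;> simp [expand1, e]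
    obtain ⟨g₂, hg₂, M, hMp, hMA, hoM, hgM⟩ := hlt S a.1 hSc Finset.subset_union_left (hLlev a haL).1
      (fun e => by have := ((hS a.1).1 e).2 a haL; rw [R.B_self] at this; omega) _ hq'S hq's hq'2
    refine ⟨g₂ * p * g, mul_mem (mul_mem (T.fgen_mono (fun r hr => ((hS r).1 hr).1) hg₂) hp) hgA,
      L ++ M, ?_, ?_, ?_, ?_⟩
    · intro b hb
      rcases List.mem_append.1 hb with hb | hb
      · exact hLp b hb
      · exact hMp b hb
    · intro b hb
      rw [T.expand_append] at hb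
      rcases List.mem_append.1 hb with hb | hb
      · exact (hLlev b hb).1
      · exact ((hS b.1).1 (hMA b hb)).1
    · rw [T.expand_append]
      exact List.pairwise_append.2 ⟨ho, hoM, fun b hb c hc => by
        rw [R.B_symm]; exact ((hS c.1).1 (hMA c hc)).2 b hb⟩
    · rw [show g₂ * p * g * (l * q) * (g₂ * p * g)⁻¹ = g₂ * (p * (g * (l * q) * g⁻¹) * p⁻¹) * g₂⁻¹ by group, hw, hpe,
        ← conj_mul, hgM, (hXc (T.fgen_le_gen _ hg₂)).eq, mul_inv_cancel_right, T.expand_append, Sys.prodX_append]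

/-- Every fixed involution of the positive unipotent group is conjugate to a product over orthogonal orbits. -/
theorem exists_conj {u : G} (hu : u ∈ R.gen R.pos) (hs : T.sigma u = u) (h2 : u * u = 1) :
    ∃ g ∈ T.fgen (fun _ => True), ∃ L : List (ι × F),
      T.Par L ∧ R.Orth (T.expand L) ∧ g * u * g⁻¹ = R.prodX (T.expand L) := by
  obtain ⟨g, hg, L, hL, -, ho, e⟩ := T.good ∅ T.ctx_empty u
    (R.gen_mono (fun r hr => ⟨hr, by simp [Sys.Perp]⟩) hu) hs h2
  exact ⟨g, T.fgen_mono (fun _ _ => trivial) hg, L, hL, ho, e⟩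

/-- Two orthogonal fixed roots give the class of a pair. -/
theorem long_pair {r s g₀ : ι} (hr : T.pi r = r) (hs : T.pi s = s) (hg : T.pi g₀ ≠ g₀) (hrs : R.B r s = 0)
    (hrg : R.B r g₀ = 1) (hv : R.vec r + R.vec s = R.vec g₀ + R.vec (T.pi g₀)) :
    ∃ g ∈ T.fgen (fun w => ∀ z, R.B z r = 0 → R.B z g₀ = 0 → R.B z (T.pi g₀) = 0 → R.B w z = 0),
      g * (R.x r 1 * R.x s 1) * g⁻¹ = R.x g₀ 1 * R.x (T.pi g₀) 1 := by
  set g₁ := T.pi g₀ with hg1def
  have horth : R.B g₀ g₁ = 0 := T.pi_orth g₀ hg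
  have hrg' : R.B r g₁ = 1 := by rw [hg1def, ← T.B_pi, hr, hrg]
  have hsb : ∀ z, R.B s z = R.B g₀ z + R.B g₁ z - R.B r z := fun z => by
    have := congrArg (fun v => R.bil v (R.vec z)) hv
    simp only [map_add, AddMonoidHom.add_apply] at this
    simp only [Sys.B]
    omega
  obtain ⟨e, he⟩ := R.exists_sub hrg
  obtain ⟨d, hd⟩ := R.exists_sub (r := g₀) (s := r) (by rw [R.B_symm, hrg])
  have hsum : ∀ {a b c : ι}, R.vec a = R.vec b - R.vec c → R.vec b = R.vec a + R.vec c := fun h => by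
    rw [h]; abel
  have he' : R.vec (T.pi e) = R.vec r - R.vec g₁ := by
    have := T.pi_sum e g₀ r (hsum he)
    rw [hr] at this; rw [this]; abel
  have hd' : R.vec (T.pi d) = R.vec g₁ - R.vec r := by
    have := T.pi_sum d r g₀ (hsum hd)
    rw [hr] at this; rw [hg1def, this]; abel
  have sg0 : R.B s g₀ = 1 := by rw [hsb, R.B_self, R.B_symm g₁ g₀, horth, hrg]; norm_num
  have sg1 : R.B s g₁ = 1 := by rw [hsb, R.B_self, horth, hrg']; norm_num
  have dr : R.B d r = -1 := by rw [R.B_sub hd, R.B_symm g₀ r, hrg, R.B_self]; norm_num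
  have d'r : R.B (T.pi d) r = -1 := by rw [R.B_sub hd', R.B_symm g₁ r, hrg', R.B_self]; norm_num
  have ds : R.B d s = 1 := by rw [R.B_sub hd, R.B_symm g₀ s, sg0, hrs]; norm_num
  have d's : R.B (T.pi d) s = 1 := by rw [R.B_sub hd', R.B_symm g₁ s, sg1, hrs]; norm_num
  have dg0 : R.B d g₀ = 1 := by rw [R.B_sub hd, R.B_self, hrg]; norm_num
  have dg1 : R.B d g₁ = -1 := by rw [R.B_sub hd, horth, hrg']; norm_num
  have hdne : T.pi d ≠ d := fun h => by
    have := R.B_sub hd' g₀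
    rw [h, dg0, R.B_symm g₁ g₀, horth, hrg] at this
    omega
  have hene : T.pi e ≠ e := fun h => by
    have h1 : R.B e g₀ = -1 := by rw [R.B_sub he, hrg, R.B_self]; norm_num
    have h2 := R.B_sub he' g₀
    rw [h, h1, hrg, R.B_symm g₁ g₀, horth] at h2
    omega
  have hdv : R.vec g₀ = R.vec d + R.vec r := hsum hd
  have hd'v : R.vec g₁ = R.vec (T.pi d) + R.vec r := hsum hd'
  have hsv : R.vec s = R.vec d + R.vec g₁ := by
    rw [hd, show R.vec g₀ - R.vec r + R.vec g₁ = R.vec g₀ + R.vec g₁ - R.vec r by abel, ← hv]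
    abel
  obtain ⟨a, ha⟩ := T.trace
  have zd : ∀ z, R.B z r = 0 → R.B z g₀ = 0 → R.B z g₁ = 0 → R.B d z = 0 ∧ R.B (T.pi d) z = 0 ∧
      R.B e z = 0 ∧ R.B (T.pi e) z = 0 := by
    intro z a b c
    have a' : R.B r z = 0 := (R.B_symm r z).trans a
    have b' : R.B g₀ z = 0 := (R.B_symm g₀ z).trans b
    have c' : R.B g₁ z = 0 := (R.B_symm g₁ z).trans c
    refine ⟨?_, ?_, ?_, ?_⟩
    · rw [R.B_sub hd, a', b']; norm_num
    · rw [R.B_sub hd', a', c']; norm_num
    · rw [R.B_sub he, a', b']; norm_num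
    · rw [R.B_sub he', a', c']; norm_num
  refine ⟨T.orb e a * T.orb d 1, mul_mem ?_ ?_, ?_⟩
  · exact T.orb_mem (fun z x y w => (zd z x y w).2.2.1) (fun z x y w => (zd z x y w).2.2.2) fun h => absurd h hene
  · exact T.orb_mem (fun z x y w => (zd z x y w).1) (fun z x y w => (zd z x y w).2.1) fun h => absurd h hdne
  have C : ∀ {b c : ι} {u v : F}, 0 ≤ R.B b c → R.x b u * R.x c v * (R.x b u)⁻¹ = R.x c v :=
    fun h => R.conj_comm h _ _
  have cm : ∀ {b c : ι} (u v : F), 0 ≤ R.B b c → Commute (R.x b u) (R.x c v) := fun u v h => R.comm _ _ h u v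
  have step : ∀ (c u v : G), c * (u * v) * c⁻¹ = c * u * c⁻¹ * (c * v * c⁻¹) := fun c u v => by group
  have s1 : T.orb d 1 * (R.x r 1 * R.x s 1) * (T.orb d 1)⁻¹ = R.x r 1 * R.x g₀ 1 * R.x g₁ 1 := by
    rw [T.orb_pair hdne, map_one,
      show R.x d 1 * R.x (T.pi d) 1 * (R.x r 1 * R.x s 1) * (R.x d 1 * R.x (T.pi d) 1)⁻¹ =
        R.x d 1 * (R.x (T.pi d) 1 * (R.x r 1 * R.x s 1) * (R.x (T.pi d) 1)⁻¹) * (R.x d 1)⁻¹ by group]
    rw [step (R.x (T.pi d) 1), R.conj_term d'r hd'v, C (by omega : 0 ≤ R.B (T.pi d) s), one_mul]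
    simp only [step (R.x d 1)]
    rw [R.conj_term dr hdv, R.conj_term dg1 hsv, C (by omega : 0 ≤ R.B d s), one_mul, mul_assoc (R.x r 1 * R.x g₀ 1),
      mul_assoc (R.x g₁ 1), R.x_mul_self, mul_one]
  have er : R.B e r = 1 := by rw [R.B_sub he, R.B_self, R.B_symm g₀ r, hrg]; norm_num
  have e'r : R.B (T.pi e) r = 1 := by rw [R.B_sub he', R.B_self, R.B_symm g₁ r, hrg']; norm_num
  have eg0 : R.B e g₀ = -1 := by rw [R.B_sub he, hrg, R.B_self]; norm_num
  have e'g1 : R.B (T.pi e) g₁ = -1 := by rw [R.B_sub he', hrg', R.B_self]; norm_num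
  have eg1 : R.B e g₁ = 1 := by rw [R.B_sub he, hrg', horth]; norm_num
  have e'g0 : R.B (T.pi e) g₀ = 1 := by rw [R.B_sub he', hrg, R.B_symm g₁ g₀, horth]; norm_num
  have hev : R.vec r = R.vec e + R.vec g₀ := hsum he
  have he'v : R.vec r = R.vec (T.pi e) + R.vec g₁ := hsum he'
  rw [show T.orb e a * T.orb d 1 * (R.x r 1 * R.x s 1) * (T.orb e a * T.orb d 1)⁻¹ =
    T.orb e a * (T.orb d 1 * (R.x r 1 * R.x s 1) * (T.orb d 1)⁻¹) * (T.orb e a)⁻¹ by group, s1, T.orb_pair hene,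
    show R.x e a * R.x (T.pi e) (T.phi a) * (R.x r 1 * R.x g₀ 1 * R.x g₁ 1) * (R.x e a * R.x (T.pi e) (T.phi a))⁻¹ =
      R.x e a * (R.x (T.pi e) (T.phi a) * (R.x r 1 * R.x g₀ 1 * R.x g₁ 1) * (R.x (T.pi e) (T.phi a))⁻¹) * (R.x e a)⁻¹
      by group]
  simp only [step (R.x (T.pi e) (T.phi a))]
  rw [C (by omega : 0 ≤ R.B (T.pi e) r), C (by omega : 0 ≤ R.B (T.pi e) g₀), R.conj_term e'g1 he'v, mul_one]
  simp only [step (R.x e a)]
  rw [C (by omega : 0 ≤ R.B e r), R.conj_term eg0 hev, C (by omega : 0 ≤ R.B e g₁), mul_one,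
    C (by omega : 0 ≤ R.B e r)]
  have k0 : ∀ u v, Commute (R.x r u) (R.x g₀ v) := fun u v => cm u v (by omega)
  have k1 : ∀ u v, Commute (R.x r u) (R.x g₁ v) := fun u v => cm u v (by omega)
  calc R.x r 1 * (R.x g₀ 1 * R.x r a) * (R.x g₁ 1 * R.x r (T.phi a))
      = (R.x r 1 * R.x g₀ 1) * (R.x r a * R.x g₁ 1) * R.x r (T.phi a) := by group
    _ = R.x g₀ 1 * (R.x r 1 * R.x g₁ 1) * (R.x r a * R.x r (T.phi a)) := by
        rw [(k0 1 1).eq, (k1 a 1).eq]; group
    _ = R.x g₀ 1 * R.x g₁ 1 := by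
        rw [R.add, ha, (k1 1 1).eq, mul_assoc (R.x g₀ 1), mul_assoc (R.x g₁ 1), R.x_mul_self, mul_one]

end Tw

end CfsgLib.InvolSL
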