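import Cfsg.Agent.Lib.InvolSL.DataE6
import Cfsg.Agent.Lib.InvolSL.CertE6T
import Cfsg.Agent.Lib.InvolSL.RankDataE6T
import Cfsg.Agent.Lib.InvolSL.MasksE6T
import Cfsg.Agent.Lib.Twisted.E6Group

/-!
The finite checks for the involutions of the twisted group of type E6.
-/

set_option autoImplicit false

namespace CfsgLib.InvolSL.E6T

open Cfsg.Lie CfsgLib.Chev CfsgLib.Twisted
open CfsgLib.Twisted.E6 (sym)

local notation "D" => chevE6
local notation "T6" => CfsgLib.Chev.E6.tabs

local notation "P6" => pairZ chevE6 CfsgLib.Chev.E6.tabs

/-- The check of the table of orthogonal roots. -/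
noncomputable def perpTest : Bool :=
  allNat 72 fun r => allNat 72 fun s => decide ((perpM.getD r 0).testBit s = decide (P6 r s = 0))

/-- The check that a root is maximal among the roots of a mask. -/
noncomputable def topAt (m h : ℕ) : Bool :=
  cond (m.testBit h) (cond (decide (36 ≤ h ∧ sym.img h = h))
    (allNat 72 fun r => cond (m.testBit r && decide (36 ≤ r)) (decide (0 ≤ P6 r h)) true) false) false

/-- The check of one root of the layer. -/
noncomputable def layerAt (m h g : ℕ) : Bool :=
  cond (m.testBit g && decide (P6 g h = 1 ∧ sym.img g ≠ g))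
    ((List.range 72).any (fun f => m.testBit f && decide (P6 f h = 1 ∧ sym.img f = f ∧ P6 f g = 1)) ||
      allNat 72 fun f => !(m.testBit f && decide (P6 f h = 1 ∧ P6 f g = 1 ∧ P6 f (sym.img g) = 1))) true

/-- The check of the sets met in the induction. -/
noncomputable def maskTest : Bool :=
  masks.contains (2 ^ 72 - 1) && masks.all fun m =>
    (decide (m = 0) || (List.range 72).any fun h => topAt m h) &&
    allNat 72 (fun r => cond (m.testBit r)
      (masks.contains (Nat.land (Nat.land m (perpM.getD r 0)) (perpM.getD (sym.img r) 0))) true) &&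
    allNat 72 (fun h => cond (topAt m h) (allNat 72 fun g => layerAt m h g) true)

/-- The check of the symmetry. -/
noncomputable def symTestE6 : Bool :=
  allNat 72 fun r =>
    decide (sym.img (sym.img r) = r ∧ (sym.sgn r = 1 ∨ sym.sgn r = -1) ∧ (sym.img r ≠ r → P6 r (sym.img r) = 0)) &&
    allNat 6 (fun i => decide (wt D T6 (sym.img r) i = wt D T6 r (sym.node i))) &&
    allNat 72 fun s => decide (P6 (sym.img r) (sym.img s) = P6 r s)

/-- The check of the reflections of the orbits of nodes. -/
noncomputable def wordTestE6 : Bool :=
  allNat 4 fun i => allNat 72 fun r => allNat 72 fun s => decide (P6 (sym.wO i r) (sym.wO i s) = P6 r s)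

/-- The orbit of a root. -/
def ex1 (r : ℕ) : List ℕ := if sym.img r = r then [r] else [r, sym.img r]

/-- The action of a word. -/
def wAct (w : List ℕ) (r : ℕ) : ℕ := w.foldr (fun i s => sym.wO i s) r

/-- The check of the transitions. -/
noncomputable def transTest : Bool :=
  (trans.map Prod.fst).contains [] && trans.all fun c =>
    c.1.all (fun a => decide (a < 72)) &&
    allNat 72 fun r => cond (c.1.all fun a => decide (P6 a r = 0 ∧ P6 a (sym.img r) = 0))
      (match c.2.lookup r with
        | none => false
        | some w => w.all (fun i => decide (i < 4)) &&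
            (trans.map Prod.fst).any fun C => ((ex1 r ++ c.1).map (wAct w)).isPerm C) true

/-- The roots left after removing a pair or a quadruple. -/
def dropL (S L : List ℕ) : List ℕ := L.foldl List.erase S

/-- The effect of a step. -/
def applyMove (S : List ℕ) : Move → List ℕ
  | .pair g a b => a :: b :: dropL S [g, sym.img g]
  | .quad a b d k _ => b :: d :: k :: dropL S [a, b, d, k]
  | .word w => S.map (wAct w)

/-- The roots are mutually orthogonal. -/
noncomputable def orthB (S : List ℕ) : Bool :=
  S.all (fun a => decide (a < 72)) &&
    (List.range S.length).all fun i => (List.range S.length).all fun j =>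
      decide (i < j → P6 (S.getD i 0) (S.getD j 0) = 0)

/-- The check of a step. -/
noncomputable def moveOK (S : List ℕ) : Move → Bool
  | .pair g a b =>
      let rest := dropL S [g, sym.img g]
      (g :: sym.img g :: rest).isPerm S &&
      decide (g < 72 ∧ a < 72 ∧ b < 72 ∧ sym.img g ≠ g ∧ sym.img a = a ∧ sym.img b = b ∧ P6 a b = 0 ∧ P6 a g = 1) &&
      allNat 6 (fun i => decide (wt D T6 a i + wt D T6 b i = wt D T6 g i + wt D T6 (sym.img g) i)) &&
      rest.all fun z => decide (P6 z a = 0)
  | .quad a b d k p =>
      (a :: b :: d :: k :: dropL S [a, b, d, k]).isPerm S &&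
      decide (a < 72 ∧ b < 72 ∧ d < 72 ∧ k < 72 ∧ p < 72 ∧
        sym.img a = a ∧ sym.img b = b ∧ sym.img d = d ∧ sym.img k = k) &&
      allNat 6 fun i => decide (wt D T6 p i + wt D T6 p i = wt D T6 a i + wt D T6 b i - wt D T6 d i - wt D T6 k i)
  | .word w => w.all fun i => decide (i < 4)

/-- The check of a list of steps. -/
noncomputable def runOK : List Move → List ℕ → List ℕ → Bool
  | [], S, R => S.isPerm R
  | m :: ms, S, R => moveOK S m && (orthB (applyMove S m) && runOK ms (applyMove S m) R)

/-- The representatives. -/
def reps : List (List ℕ) := ranks.map RankCert.rep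

/-- The check of the reductions. -/
noncomputable def finalTest : Bool :=
  (trans.map Prod.fst).all (fun C => decide (C = []) || finals.any fun e => decide (e.1 = C)) &&
  finals.all (fun e => orthB e.1 && (runOK e.2.1 e.1 e.2.2 && reps.contains e.2.2)) &&
  reps.all fun R => orthB R && R.all fun r => decide (sym.img r = r)

theorem perp_ok : perpTest = true := by decide +kernel

theorem sym_ok : symTestE6 = true := by decide +kernel

theorem word_ok : wordTestE6 = true := by decide +kernel

theorem mask_ok : maskTest = true := by decide +kernel

theorem trans_ok : transTest = true := by decide +kernel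

theorem final_ok : finalTest = true := by decide +kernel

theorem rank_ok : (ranks.all fun c => rankTest D T6 c) = true := by decide +kernel

theorem ranks_distinct : (ranks.map RankCert.k).Nodup ∧ ranks.length = 3 ∧ ∀ c ∈ ranks, c.k ≠ 0 := by decide

end CfsgLib.InvolSL.E6T
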