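import Cfsg.Agent.Lib.InvolSL.TwistClassify
import Cfsg.Agent.Lib.InvolSL.TwistE6Data
import Cfsg.Agent.Lib.TwistOut.E6
import Cfsg.Agent.Lib.Twisted.E6U

/-!
The classes of involutions of the twisted group of type E6 in characteristic two.
-/

set_option autoImplicit false
set_option linter.unusedSectionVars false

namespace CfsgLib.InvolSL.E6T

open Cfsg.Lie CfsgLib.Chev CfsgLib.Twisted
open CfsgLib.Twisted.E6 (sym sym_test sym_nodeTest)

attribute [local instance 10] Classical.propDecidable

local notation "D" => chevE6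
local notation "T6" => CfsgLib.Chev.E6.tabs
local notation "hc" => CfsgLib.Chev.E6.checked
local notation "hcomm" => CfsgLib.Twisted.E6.comm_one
local notation "P6" => pairZ chevE6 CfsgLib.Chev.E6.tabs
local notation "hsl" => CfsgLib.InvolSL.E6.sl_ok

theorem nroots_eq : chevE6.nroots = 72 := rfl

theorem rank_eq : chevE6.rank = 6 := rfl

theorem perp_spec {r s : ℕ} (hr : r < 72) (hs : s < 72) : (perpM.getD r 0).testBit s = true ↔ P6 r s = 0 := by
  have := allNat_iff.1 (allNat_iff.1 perp_ok r hr) s hs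
  simp only [decide_eq_true_iff] at this
  rw [this, decide_eq_true_iff]

theorem sym_spec {r : ℕ} (hr : r < 72) : sym.img (sym.img r) = r ∧ (sym.sgn r = 1 ∨ sym.sgn r = -1) ∧
    (sym.img r ≠ r → P6 r (sym.img r) = 0) ∧ (∀ i < 6, wt D T6 (sym.img r) i = wt D T6 r (sym.node i)) ∧
    ∀ s < 72, P6 (sym.img r) (sym.img s) = P6 r s := by
  have h := allNat_iff.1 sym_ok r hr
  simp only [Bool.and_eq_true, decide_eq_true_iff, allNat_iff] at h
  exact ⟨h.1.1.1, h.1.1.2.1, h.1.1.2.2, h.1.2, h.2⟩

theorem img_lt {r : ℕ} (hr : r < 72) : sym.img r < 72 := TwistSym.img_lt sym_test hr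

theorem node_lt {i : ℕ} (hi : i < 6) : sym.node i < 6 := TwistSym.node_lt sym_test hi

theorem wO_pair {i r s : ℕ} (hi : i < 4) (hr : r < 72) (hs : s < 72) :
    P6 (sym.wO i r) (sym.wO i s) = P6 r s := by
  have := allNat_iff.1 (allNat_iff.1 (allNat_iff.1 word_ok i hi) r hr) s hs
  simpa using this

theorem rv_img {r : ℕ} (hr : r < 72) (i : Fin chevE6.rank) :
    rv D T6 (sym.img r) i = rv D T6 r ⟨sym.node i, node_lt i.2⟩ := (sym_spec hr).2.2.2.1 i i.2

variable (K : Type*) [Field K] [CharP K 2]

/-- The system of type E6. -/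
noncomputable abbrev R6 : Sys (Fin chevE6.nroots) chevE6.rank K (GL chevE6.Idx K) := mkSys hc hsl hcomm K

instance : Inhabited (Fin chevE6.nroots) := ⟨⟨0, by decide⟩⟩

/-- The symmetry of the roots. -/
def piR (r : Fin chevE6.nroots) : Fin chevE6.nroots := ⟨sym.img r, img_lt r.2⟩

theorem B_eq (r s : Fin chevE6.nroots) : (R6 K).B r s = P6 r s := mkSys_B hc hsl hcomm K r s

/-- The invariant of the induction. -/
def CtxE (A : Finset (Fin chevE6.nroots)) : Prop :=
  (∀ a ∈ A, piR a ∈ A) ∧ ∃ m ∈ masks, ∀ r : Fin chevE6.nroots, (R6 K).Perp A r ↔ m.testBit r = true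

theorem mask_spec {m : ℕ} (hm : m ∈ masks) :
    (m = 0 ∨ ∃ h < 72, topAt m h = true) ∧
    (∀ r < 72, m.testBit r = true →
      Nat.land (Nat.land m (perpM.getD r 0)) (perpM.getD (sym.img r) 0) ∈ masks) ∧
    (∀ h < 72, topAt m h = true → ∀ g < 72, layerAt m h g = true) := by
  have h := mask_ok
  simp only [maskTest, Bool.and_eq_true, List.all_eq_true, Bool.or_eq_true, decide_eq_true_iff, List.any_eq_true,
    List.mem_range, allNat_iff, List.contains_iff_mem] at h
  obtain ⟨⟨h1, h2⟩, h3⟩ := h.2 m hm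
  refine ⟨h1, fun r hr e => ?_, fun a ha e g hg => ?_⟩
  · have := h2 r hr; rw [e, cond_true, List.contains_iff_mem] at this; exact this
  · have := h3 a ha; rw [e, cond_true, allNat_iff] at this; exact this g hg

theorem topAt_of {A : Finset (Fin chevE6.nroots)} {m : ℕ} (hm : ∀ r, (R6 K).Perp A r ↔ m.testBit r = true)
    {h : Fin chevE6.nroots} (hT : (R6 K).Top A h) (hh : piR h = h) : topAt m h = true := by
  obtain ⟨h1, h2, h3⟩ := hT
  have e1 : m.testBit h = true := (hm h).1 h1
  have e2 : (36 : ℕ) ≤ h ∧ sym.img h = h := ⟨h2, congrArg Fin.val hh⟩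
  simp only [topAt, e1, e2, cond_true, decide_true, allNat_iff, and_self]
  intro r hr
  by_cases e : m.testBit r = true ∧ 36 ≤ r
  · rw [e.1, decide_eq_true e.2, Bool.and_self, cond_true, decide_eq_true_iff]
    have := h3 ⟨r, hr⟩ ((hm _).2 e.1) e.2
    rwa [B_eq K] at this
  · rw [show (m.testBit r && decide (36 ≤ r)) = false by simpa using fun a => Nat.not_le.1 fun b => e ⟨a, b⟩,
      cond_false]

theorem top_of {A : Finset (Fin chevE6.nroots)} {m h : ℕ} (hm : ∀ r, (R6 K).Perp A r ↔ m.testBit r = true)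
    (hh : h < 72) (e : topAt m h = true) : (R6 K).Top A ⟨h, hh⟩ ∧ piR ⟨h, hh⟩ = ⟨h, hh⟩ := by
  simp only [topAt, cond_false_iff, decide_eq_true_iff, allNat_iff] at e
  obtain ⟨e1, ⟨e2, e3⟩, e4⟩ := e
  refine ⟨⟨(hm _).2 e1, e2, fun r hr hp => ?_⟩, Fin.ext e3⟩
  have := e4 r r.2
  rw [(hm r).1 hr, decide_eq_true (show 36 ≤ r.val from hp), Bool.and_self, cond_true, decide_eq_true_iff] at this
  rwa [B_eq K]

variable {K} (φ : K ≃+* K) (hφφ : ∀ x, φ (φ x) = x) (htr : ∃ a : K, a + φ a = 1)

/-- The twist of type E6. -/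
noncomputable def twist : Tw (R6 K) where
  pi := piR
  pi_pi r := Fin.ext (sym_spec r.2).1
  pi_B r s := by rw [B_eq K, B_eq K]; exact (sym_spec r.2).2.2.2.2 s s.2
  pi_sum r s k e := funext fun i => by
    show rv D T6 (sym.img k) i = rv D T6 (sym.img r) i + rv D T6 (sym.img s) i
    rw [rv_img k.2, rv_img r.2, rv_img s.2]
    exact congrFun e _
  pi_pos r hr := ((TwistSym.orbit_spec sym_test r.2).2.2.1).1 hr
  pi_orth r hr := by
    rw [B_eq K]
    exact (sym_spec r.2).2.2.1 fun e => hr (Fin.ext e)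
  phi := φ
  phi_phi := hφφ
  trace := htr
  sigma := (twistSigma sym sym_test φ).toMonoidHom
  sigma_x r t := by
    show twistSigma sym sym_test φ (elX D K r t) = elX D K (sym.img r) (φ t)
    rw [twistSigma_elX hc sym_test φ r.2]
    rcases (sym_spec r.2).2.1 with e | e <;> rw [e] <;> simp [CharTwo.neg_eq]
  Ctx := CtxE K
  ctx_empty := by
    refine ⟨by simp, 2 ^ 72 - 1, ?_, fun r => ?_⟩
    · have h := mask_ok
      simp only [maskTest, Bool.and_eq_true, List.contains_iff_mem] at h
      exact h.1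
    · rw [Nat.testBit_two_pow_sub_one]
      simp [Sys.Perp]
      exact r.2
  ctx_insert A r hA hr := by
    obtain ⟨hst, m, hm, hmr⟩ := hA
    refine ⟨fun a ha => ?_, _, (mask_spec hm).2.1 r r.2 ((hmr r).1 hr), fun s => ?_⟩
    · simp only [Finset.mem_insert] at ha ⊢
      rcases ha with rfl | rfl | ha
      · exact Or.inr (Or.inl rfl)
      · exact Or.inl (Fin.ext (sym_spec r.2).1)
      · exact Or.inr (Or.inr (hst a ha))
    · rw [Sys.perp_insert, Sys.perp_insert, hmr, B_eq K, B_eq K]
      show _ ↔ (m &&& perpM.getD r 0 &&& perpM.getD (sym.img r) 0).testBit s = true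
      rw [Nat.testBit_and, Nat.testBit_and, Bool.and_eq_true, Bool.and_eq_true, perp_spec r.2 s.2,
        perp_spec (img_lt r.2) s.2]
      have a1 : P6 s r = P6 r s := by rw [← B_eq K, ← B_eq K, (R6 K).B_symm]
      have a2 : P6 s (piR r) = P6 (sym.img r) s := by rw [← B_eq K, (R6 K).B_symm, B_eq K]; rfl
      rw [a1, a2]
      tauto
  ctx_stable A hA := hA.1
  ctx_top A hA := by
    rintro ⟨r, hr⟩
    obtain ⟨-, m, hm, hmr⟩ := hA
    rcases (mask_spec hm).1 with e | ⟨h, hh, e⟩
    · have := (hmr r).1 hr; simp [e] at this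
    · exact ⟨_, (top_of K hmr hh e).1, (top_of K hmr hh e).2⟩
  ctx_layer A h hA hT hh g hg hgπ := by
    obtain ⟨-, m, hm, hmr⟩ := hA
    have e := (mask_spec hm).2.2 h h.2 (topAt_of K hmr hT hh) g g.2
    have hg2 : P6 g h = 1 ∧ sym.img g ≠ g := ⟨by rw [← B_eq K]; exact hg.2, fun e => hgπ (Fin.ext e)⟩
    simp only [layerAt, (hmr g).1 hg.1, decide_eq_true hg2, Bool.and_self, cond_true, Bool.or_eq_true,
      List.any_eq_true, List.mem_range, Bool.and_eq_true, decide_eq_true_iff, allNat_iff, Bool.not_eq_true',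
      Bool.and_eq_false_iff, decide_eq_false_iff_not] at e
    rcases e with ⟨f, hf, f1, f2, f3, f4⟩ | e
    · exact Or.inl ⟨⟨f, hf⟩, ⟨(hmr _).2 f1, by rw [B_eq K]; exact f2⟩, Fin.ext f3, by rw [B_eq K]; exact f4⟩
    · refine Or.inr fun f hf a b => ?_
      rcases e f f.2 with e' | e'
      · rw [(hmr f).1 hf.1] at e'; exact Bool.noConfusion e'
      · exact e' ⟨by rw [← B_eq K]; exact hf.2, by rw [← B_eq K]; exact a,
          (B_eq K f (piR g)).symm.trans b⟩

local notation "TG" => twistGrp sym_test φ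

theorem olen_fix {r : ℕ} (e : sym.img r = r) : sym.olen r = 1 := by rw [TwistSym.olen, if_pos e]

theorem olen_pair {r : ℕ} (e : sym.img r ≠ r) : sym.olen r = 2 := by rw [TwistSym.olen, if_neg e]; rfl

theorem orb_fix_mem {r : ℕ} (hr : r < 72) (e : sym.img r = r) {t : K} (ht : φ t = t) : elX D K r t ∈ TG := by
  have := orbX_mem hc sym_test φ sym_nodeTest hr (t := t) (by rw [IsPar, olen_fix e, Function.iterate_one, ht])
  rwa [orbX, olen_fix e, orbProd_one] at this

include hφφ in
theorem orb_pair_mem {r : ℕ} (hr : r < 72) (e : sym.img r ≠ r) (t : K) :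
    elX D K r t * elX D K (sym.img r) (φ t) ∈ TG := by
  have := orbX_mem hc sym_test φ sym_nodeTest hr (t := t) (by
    rw [IsPar, olen_pair e, Function.iterate_succ_apply', Function.iterate_one, hφφ])
  rw [orbX, olen_pair e, orbProd_succ, orbProd_one, Function.iterate_one, twistSigma_elX hc sym_test φ hr] at this
  rcases (sym_spec hr).2.1 with h | h <;> rw [h] at this <;> simpa [CharTwo.neg_eq] using this

local notation "TW" => twist φ hφφ htr

theorem fgen_le (P : Fin chevE6.nroots → Prop) : (TW).fgen P ≤ TG := by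
  refine (Subgroup.closure_le _).2 ?_
  rintro _ ⟨r, t, -, -, ht, rfl⟩
  by_cases e : sym.img r = r
  · rw [(TW).orb_fix (Fin.ext e)]
    exact orb_fix_mem φ r.2 e (ht (Fin.ext e))
  · rw [(TW).orb_pair fun h => e (congrArg Fin.val h)]
    exact orb_pair_mem φ hφφ r.2 e t

/-! ### Conjugacy in the twisted group -/

/-- Conjugacy by an element of the twisted group. -/
def CT (u v : GL chevE6.Idx K) : Prop := ∃ g ∈ twistGrp sym_test φ, g * u * g⁻¹ = v

theorem CT.trans {u v w : GL chevE6.Idx K} : CT φ u v → CT φ v w → CT φ u w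
  | ⟨g, hg, e⟩, ⟨g', hg', e'⟩ => ⟨g' * g, mul_mem hg' hg, by rw [← e', ← e]; group⟩

theorem CT.refl (u : GL chevE6.Idx K) : CT φ u u := ⟨1, one_mem _, by group⟩

theorem orthB_spec {S : List ℕ} (h : orthB S = true) : OrthN D T6 S := by
  simp only [orthB, Bool.and_eq_true, List.all_eq_true, decide_eq_true_iff, List.mem_range] at h
  refine ⟨h.1, List.pairwise_iff_getElem.2 fun i j hi hj hij => ?_⟩
  have := h.2 i hi j hj hij
  rwa [List.getD_eq_getElem _ _ hi, List.getD_eq_getElem _ _ hj] at this

theorem X1_append (L M : List ℕ) : X1 D K (L ++ M) = X1 D K L * X1 D K M := by simp [X1]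

theorem wAct_lt {w : List ℕ} (hw : ∀ i ∈ w, i < 4) {r : ℕ} (hr : r < 72) : wAct w r < 72 := by
  induction w with
  | nil => exact hr
  | cons i w ih =>
      exact wO_lt hc sym_test (show i < chevE6.rank by have := hw i (by simp); rw [rank_eq]; omega)
        (ih fun j hj => hw j (List.mem_cons_of_mem _ hj))

theorem wAct_pair {w : List ℕ} (hw : ∀ i ∈ w, i < 4) {r s : ℕ} (hr : r < 72) (hs : s < 72) :
    P6 (wAct w r) (wAct w s) = P6 r s := by
  induction w with
  | nil => rfl
  | cons i w ih =>
      have hw' : ∀ j ∈ w, j < 4 := fun j hj => hw j (List.mem_cons_of_mem _ hj)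
      exact (wO_pair (hw i (by simp)) (wAct_lt hw' hr) (wAct_lt hw' hs)).trans (ih hw')

theorem wAct_img {w : List ℕ} (hw : ∀ i ∈ w, i < 4) {r : ℕ} (hr : r < 72) :
    wAct w (sym.img r) = sym.img (wAct w r) := by
  induction w with
  | nil => rfl
  | cons i w ih =>
      have hw' : ∀ j ∈ w, j < 4 := fun j hj => hw j (List.mem_cons_of_mem _ hj)
      show sym.wO i (wAct w (sym.img r)) = sym.img (sym.wO i (wAct w r))
      rw [ih hw']
      exact (TwistSym.wO_spec sym_nodeTest (show i < chevE6.rank by have := hw i (by simp); rw [rank_eq]; omega)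
        (wAct_lt hw' hr)).1

theorem map_ex1 {w : List ℕ} (hw : ∀ i ∈ w, i < 4) {r : ℕ} (hr : r < 72) :
    (ex1 r).map (wAct w) = ex1 (wAct w r) := by
  by_cases e : sym.img r = r
  · have : sym.img (wAct w r) = wAct w r := by rw [← wAct_img hw hr, e]
    simp [ex1, e, this]
  · have hinj : sym.img (wAct w r) ≠ wAct w r := by
      intro h
      rw [← wAct_img hw hr] at h
      induction w with
      | nil => exact e h
      | cons i w ih =>
          have hw' : ∀ j ∈ w, j < 4 := fun j hj => hw j (List.mem_cons_of_mem _ hj)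
          have hi : i < chevE6.rank := by have := hw i (by simp); rw [rank_eq]; omega
          have h' := congrArg (sym.wO i) h
          change sym.wO i (sym.wO i (wAct w (sym.img r))) = sym.wO i (sym.wO i (wAct w r)) at h'
          rw [(TwistSym.wO_spec sym_nodeTest hi (wAct_lt hw' (img_lt hr))).2.1,
            (TwistSym.wO_spec sym_nodeTest hi (wAct_lt hw' hr)).2.1] at h'
          exact ih hw' h'
    simp [ex1, e, hinj, wAct_img hw hr]

theorem word_conj {w : List ℕ} (hw : ∀ i ∈ w, i < 4) {M : List ℕ} (hM : ∀ r ∈ M, r < 72) :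
    CT φ (X1 D K M) (X1 D K (M.map (wAct w))) := by
  induction w with
  | nil => rw [show (M.map (wAct [])) = M from List.map_id' M]; exact CT.refl φ _
  | cons i w ih =>
      have hw' : ∀ j ∈ w, j < 4 := fun j hj => hw j (List.mem_cons_of_mem _ hj)
      have hi : i < chevE6.rank := by have := hw i (by simp); rw [rank_eq]; omega
      refine (ih hw').trans φ ⟨nOrb sym_test φ i, nOrb_mem hc sym_test φ sym_nodeTest hi, ?_⟩
      rw [show M.map (wAct (i :: w)) = (M.map (wAct w)).map (sym.wO i) by rw [List.map_map]; rfl]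
      have hlt : ∀ r ∈ M.map (wAct w), r < 72 := fun r hr => by
        obtain ⟨s, hs, rfl⟩ := List.mem_map.1 hr
        exact wAct_lt hw' (hM s hs)
      generalize M.map (wAct w) = N0 at hlt ⊢
      induction N0 with
      | nil => simp [X1]
      | cons r N ihN =>
          obtain ⟨-, c, hc1, hcx⟩ := wK_conj hc sym_test φ (sym.olen (chevE6.simple i)) hi (hlt r (by simp)) (1 : K)
          have h2 := ihN fun s hs => hlt s (List.mem_cons_of_mem _ hs)
          simp only [X1, List.map_cons, List.prod_cons] at h2 ⊢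
          rw [← conj_mul, h2]
          congr 1
          refine hcx.trans ?_
          rcases hc1 with e | e <;> simp [e, CharTwo.neg_eq] <;> rfl

theorem perm_conj {L M : List ℕ} (hL : OrthN D T6 L) (e : L.Perm M) : CT φ (X1 D K L) (X1 D K M) := by
  rw [X1_perm hc hsl hcomm hL e]; exact CT.refl φ _

include hφφ htr in
theorem move_conj [Fintype K] {S : List ℕ} {m : Move} (hS : OrthN D T6 S) (hm : moveOK S m = true) :
    CT φ (X1 D K S) (X1 D K (applyMove S m)) := by
  cases m with
  | word w =>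
      simp only [moveOK, List.all_eq_true, decide_eq_true_iff] at hm
      exact word_conj φ hm hS.1
  | pair g a b =>
      simp only [moveOK, Bool.and_eq_true, List.isPerm_iff, decide_eq_true_iff, allNat_iff, List.all_eq_true] at hm
      obtain ⟨⟨⟨hp, hg, ha, hb, hgπ, haπ, hbπ, hab, hag⟩, hv⟩, hrest⟩ := hm
      set rest := dropL S [g, sym.img g] with hrdef
      have hS' := OrthN.perm hc hsl hS hp.symm
      refine (perm_conj φ hS hp.symm).trans φ ?_
      obtain ⟨x, hx, hxe⟩ := (TW).long_pair (r := ⟨a, ha⟩) (s := ⟨b, hb⟩) (g₀ := ⟨g, hg⟩) (Fin.ext haπ) (Fin.ext hbπ)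
        (fun e => hgπ (congrArg Fin.val e)) ((B_eq K _ _).trans hab) ((B_eq K _ _).trans hag)
        (funext fun i => hv i i.2)
      refine ⟨x⁻¹, inv_mem (fgen_le φ hφφ htr _ hx), ?_⟩
      have hcm : Commute x (X1 D K rest) := by
        refine Commute.list_prod_right _ _ fun y hy => ?_
        obtain ⟨z, hz, rfl⟩ := List.mem_map.1 hy
        have hz' : z < 72 := hS'.1 z (by simp [hz])
        have hpw := hS'.2
        simp only [List.pairwise_cons, List.mem_cons, forall_eq_or_imp] at hpw
        refine (R6 K).gen_commute (a := ⟨z, hz'⟩) (fun w hw => (hw ⟨z, hz'⟩ ?_ ?_ ?_).ge) ((TW).fgen_le_gen _ hx) 1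
        · rw [B_eq K]; exact hrest z hz
        · rw [(R6 K).B_symm, B_eq K]; exact hpw.1.2 z hz
        · rw [(R6 K).B_symm]
          exact (B_eq K (piR ⟨g, hg⟩) ⟨z, hz'⟩).trans (hpw.2.1 z hz)
      change x⁻¹ * X1 D K (g :: sym.img g :: rest) * x⁻¹⁻¹ = X1 D K (a :: b :: rest)
      have hxe' : x * (elX D K a 1 * elX D K b 1) * x⁻¹ = elX D K g 1 * elX D K (sym.img g) 1 := hxe
      simp only [X1, List.map_cons, List.prod_cons] at hcm ⊢
      rw [← mul_assoc (elX D K g 1), ← hxe', inv_inv, ← mul_assoc (elX D K a 1)]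
      set P := elX D K a (1 : K) * elX D K b 1
      set Q := (rest.map fun r => elX D K r (1 : K)).prod
      calc x⁻¹ * (x * P * x⁻¹ * Q) * x = P * (x⁻¹ * (Q * x)) := by group
        _ = P * Q := by rw [← hcm.eq, inv_mul_cancel_left]
  | quad a b d k p =>
      simp only [moveOK, Bool.and_eq_true, List.isPerm_iff, decide_eq_true_iff, allNat_iff] at hm
      obtain ⟨⟨hp, ha, hb, hd, hk, hpl, haπ, hbπ, hdπ, hkπ⟩, hv⟩ := hm
      set rest := dropL S [a, b, d, k] with hrdef
      have hS' := OrthN.perm hc hsl hS hp.symm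
      refine (perm_conj φ hS hp.symm).trans φ ?_
      have hpw := hS'.2
      simp only [List.pairwise_cons, List.mem_cons, forall_eq_or_imp] at hpw
      obtain ⟨⟨ab, ad, ak, aM⟩, ⟨bd, bk, bM⟩, ⟨dk, dM⟩, kM, -⟩ := hpw
      obtain ⟨x, hx, hxe⟩ := Sys.quadF (R := R6 K) (a := ⟨a, ha⟩) (b := ⟨b, hb⟩) (d := ⟨d, hd⟩) (k := ⟨k, hk⟩)
        (p := ⟨p, hpl⟩) ((B_eq K _ _).trans ab) ((B_eq K _ _).trans ad) ((B_eq K _ _).trans ak)
        ((B_eq K _ _).trans bd) ((B_eq K _ _).trans bk) ((B_eq K _ _).trans dk) (funext fun i => hv i i.2)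
      have hfix : x ∈ TG := by
        refine (Subgroup.closure_le _).2 ?_ hx
        rintro _ ⟨r, -, hr, rfl⟩
        refine orb_fix_mem φ r.2 ?_ (map_one φ)
        refine rv_inj hc (img_lt r.2) r.2 (funext fun i => ?_)
        rw [rv_img r.2]
        let f : (Fin chevE6.rank → ℤ) →+ ℤ :=
          AddMonoidHom.mk' (fun v => v ⟨sym.node i, node_lt i.2⟩ - v i) fun v w => by simp; ring
        have hf : ∀ z, z < 72 → sym.img z = z → f (rv D T6 z) = 0 := fun z hz e => by
          show rv D T6 z _ - rv D T6 z i = 0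
          rw [← rv_img hz, e, sub_self]
        have := hr f (hf a ha haπ) (hf b hb hbπ) (hf d hd hdπ) (hf k hk hkπ)
        change rv D T6 r _ - rv D T6 r i = 0 at this
        omega
      refine ⟨x, hfix, ?_⟩
      have hle : x ∈ (R6 K).gen (fun r => ∀ z, (R6 K).B z ⟨a, ha⟩ = 0 → (R6 K).B z ⟨b, hb⟩ = 0 →
          (R6 K).B z ⟨d, hd⟩ = 0 → (R6 K).B z ⟨k, hk⟩ = 0 → (R6 K).B r z = 0) := by
        refine (Subgroup.closure_le _).2 ?_ hx
        rintro _ ⟨r, hr, -, rfl⟩
        exact Subgroup.subset_closure ⟨r, 1, hr, rfl⟩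
      have hcm : Commute x (X1 D K rest) := by
        refine Commute.list_prod_right _ _ fun y hy => ?_
        obtain ⟨z, hz, rfl⟩ := List.mem_map.1 hy
        have hz' : z < 72 := hS'.1 z (by simp [hz])
        refine (R6 K).gen_commute (a := ⟨z, hz'⟩) (fun w hw => (hw ⟨z, hz'⟩ ?_ ?_ ?_ ?_).ge) hle 1
        all_goals rw [(R6 K).B_symm, B_eq K]
        exacts [aM z hz, bM z hz, dM z hz, kM z hz]
      change x * X1 D K (a :: b :: d :: k :: rest) * x⁻¹ = X1 D K (b :: d :: k :: rest)
      simp only [X1, List.map_cons, List.prod_cons] at hcm ⊢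
      rw [← mul_assoc (elX D K a 1), ← mul_assoc _ (elX D K d 1), ← mul_assoc _ (elX D K k 1), ← conj_mul,
        show x * (elX D K a 1 * elX D K b 1 * elX D K d 1 * elX D K k 1) * x⁻¹ =
          elX D K b 1 * elX D K d 1 * elX D K k 1 from hxe,
        hcm.eq, mul_inv_cancel_right]
      simp only [mul_assoc]

include hφφ htr in
theorem run_conj [Fintype K] : ∀ (ms : List Move) (S R : List ℕ), OrthN D T6 S → runOK ms S R = true →
    CT φ (X1 D K S) (X1 D K R)
  | [], S, R, hS, h => perm_conj φ hS (List.isPerm_iff.1 h)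
  | m :: ms, S, R, hS, h => by
      simp only [runOK, Bool.and_eq_true] at h
      exact (move_conj φ hφφ htr hS h.1).trans φ (run_conj ms _ R (orthB_spec h.2.1) h.2.2)

theorem exists_trans : ∀ (m : ℕ) (M C : List ℕ), M.length = m → C ∈ trans.map Prod.fst → (∀ r ∈ M, r < 72) →
    OrthN D T6 (C ++ M.flatMap ex1) →
    ∃ C' ∈ trans.map Prod.fst, CT φ (X1 D K (C ++ M.flatMap ex1)) (X1 D K C') := by
  intro m
  induction m with
  | zero =>
      intro M C hM hC _ _
      rw [List.length_eq_zero_iff.1 hM]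
      exact ⟨C, hC, by simpa using CT.refl φ _⟩
  | succ m ih =>
      intro M C hlen hC hlt ho
      obtain ⟨r, N, rfl⟩ : ∃ r N, M = r :: N := by
        cases M with
        | nil => simp at hlen
        | cons r N => exact ⟨r, N, rfl⟩
      obtain ⟨⟨C, es⟩, hcm, rfl⟩ := List.mem_map.1 hC
      have ht := trans_ok
      simp only [transTest, Bool.and_eq_true, List.all_eq_true, allNat_iff] at ht
      have hent := (ht.2 _ hcm).2 r (hlt r (by simp))
      simp only at ho ⊢
      rw [List.flatMap_cons] at ho ⊢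
      have hperp : C.all (fun a => decide (P6 a r = 0 ∧ P6 a (sym.img r) = 0)) = true := by
        rw [List.all_eq_true]
        intro a ha
        have hz := (List.pairwise_append.1 ho.2).2.2 a ha
        have h1 := hz r (by simp [ex1]; split <;> simp)
        refine decide_eq_true ⟨h1, ?_⟩
        by_cases e : sym.img r = r
        · rwa [e]
        · exact hz _ (by simp [ex1, e])
      simp only at hent
      rw [hperp, cond_true] at hent
      cases hl : es.lookup r with
      | none => rw [hl] at hent; simp at hent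
      | some w =>
          rw [hl] at hent
          simp only [Bool.and_eq_true, List.all_eq_true, decide_eq_true_iff, List.any_eq_true, List.isPerm_iff] at hent
          obtain ⟨hw, C₁, hC₁, hp⟩ := hent
          have e1 : (C ++ (ex1 r ++ N.flatMap ex1)).Perm ((ex1 r ++ C) ++ N.flatMap ex1) := by
            rw [← List.append_assoc]
            exact List.perm_append_comm.append_right _
          have ho1 := OrthN.perm hc hsl ho e1
          have step1 := perm_conj φ ho e1
          have step2 := word_conj φ hw ho1.1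
          have ho2 : OrthN D T6 (((ex1 r ++ C) ++ N.flatMap ex1).map (wAct w)) := by
            refine ⟨fun s hs => ?_, ?_⟩
            · obtain ⟨z, hz, rfl⟩ := List.mem_map.1 hs
              exact wAct_lt hw (ho1.1 z hz)
            · rw [List.pairwise_map]
              exact ho1.2.imp_of_mem fun hx hy e => (wAct_pair hw (ho1.1 _ hx) (ho1.1 _ hy)).trans e
          have hflat : (N.flatMap ex1).map (wAct w) = (N.map (wAct w)).flatMap ex1 := by
            have hN : ∀ s ∈ N, s < 72 := fun s hs => hlt s (List.mem_cons_of_mem _ hs)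
            clear ho ho1 step1 step2 ho2 e1 hlen hlt
            induction N with
            | nil => rfl
            | cons s N ihN =>
                rw [List.flatMap_cons, List.map_append, map_ex1 hw (hN s (by simp)), List.map_cons, List.flatMap_cons,
                  ihN fun z hz => hN z (List.mem_cons_of_mem _ hz)]
          rw [List.map_append, hflat] at step2 ho2
          have e2 : ((ex1 r ++ C).map (wAct w) ++ (N.map (wAct w)).flatMap ex1).Perm
              (C₁ ++ (N.map (wAct w)).flatMap ex1) := hp.append_right _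
          have step3 := perm_conj φ ho2 e2
          obtain ⟨C', hC', step4⟩ := ih (N.map (wAct w)) C₁ (by simpa using hlen) hC₁ (fun s hs => by
            obtain ⟨z, hz, rfl⟩ := List.mem_map.1 hs
            exact wAct_lt hw (hlt z (List.mem_cons_of_mem _ hz))) (OrthN.perm hc hsl ho2 e2)
          exact ⟨C', hC', ((step1.trans φ step2).trans φ step3).trans φ step4⟩

/-! ### Scaling -/

include hφφ in
theorem torus_fix_mem {r : ℕ} (hr : r < 72) (e : sym.img r = r) (c : Kˣ) (hcf : φ c = c) :
    torus D T6 K (corChar D T6 r c) ∈ TG := by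
  rw [← elH_eq_torus hc hr, elH]
  have hn : sym.img (chevE6.neg r) = chevE6.neg r := by rw [← TwistSym.neg_img sym_test hr, e]
  have hN : ∀ t : K, φ t = t → elN D K r t ∈ TG := fun t ht =>
    mul_mem (mul_mem (orb_fix_mem φ hr e ht)
      (orb_fix_mem φ (neg_lt hc hr) hn (by rw [map_neg, map_inv₀, ht]))) (orb_fix_mem φ hr e ht)
  exact mul_mem (hN _ hcf) (hN _ (by rw [map_neg, map_one]))

include hφφ in
theorem torus_pair_mem {r : ℕ} (hr : r < 72) (e : sym.img r ≠ r) (c c' : Kˣ) (hcc : φ c = c') :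
    torus D T6 K (corChar D T6 r c * corChar D T6 (sym.img r) c') ∈ TG := by
  have hr' := img_lt hr
  rw [map_mul, ← elH_eq_torus hc hr, ← elH_eq_torus hc hr', elH, elH]
  set s := sym.img r with hs
  have hn : sym.img (chevE6.neg r) = chevE6.neg s := by rw [hs, TwistSym.neg_img sym_test hr]
  have hne : sym.img (chevE6.neg r) ≠ chevE6.neg r := fun h => e (by
    have := congrArg chevE6.neg (hn.symm.trans h)
    rwa [neg_neg_root hc hr', neg_neg_root hc hr] at this)
  have prs : P6 r s = 0 := (sym_spec hr).2.2.1 e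
  have psr : P6 s r = 0 := by rw [← (pair_spec hc hsl hr hr').1]; exact prs
  have pneg : ∀ {a b : ℕ} (ha : a < 72) (hb : b < 72), P6 a b = 0 →
      P6 (chevE6.neg a) b = 0 ∧ P6 a (chevE6.neg b) = 0 := by
    intro a b ha hb h
    rw [← bilC_rv hc a hb] at h
    constructor
    · rw [← bilC_rv hc _ hb, rv_neg hc ha, map_neg, AddMonoidHom.neg_apply, h, neg_zero]
    · rw [← bilC_rv hc _ (neg_lt hc hb), rv_neg hc hb, map_neg, h, neg_zero]
  have cm : ∀ {a b : ℕ} (ha : a < 72) (hb : b < 72), P6 a b = 0 → ∀ t u : K, Commute (elX D K a t) (elX D K b u) :=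
    fun ha hb h t u => elX_commute hc hsl hcomm K ha hb h.ge t u
  have hN : ∀ t : K, elN D K r t * elN D K s (φ t) ∈ TG := by
    intro t
    have h1 := orb_pair_mem φ hφφ hr e t
    have h2 := orb_pair_mem φ hφφ (neg_lt hc hr) hne (-t⁻¹)
    rw [map_neg, map_inv₀, hn] at h2
    have h3 := mul_mem (mul_mem h1 h2) h1
    rw [← hs] at h3
    convert h3 using 1
    simp only [elN]
    have a1 : Commute (elX D K s (φ t)) (elX D K (chevE6.neg r) (-t⁻¹)) :=
      cm hr' (neg_lt hc hr) (pneg hr' hr psr).2 _ _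
    have a2 : Commute (elX D K s (φ t) * elX D K (chevE6.neg s) (-(φ t)⁻¹)) (elX D K r t) :=
      (cm hr' hr psr _ _).mul_left (cm (neg_lt hc hr') hr (pneg hr' hr psr).1 _ _)
    rw [a1.symm.symm.mul_mul_mul_comm, a2.mul_mul_mul_comm]
  have b1 : Commute (elN D K r (-1)) (elN D K s (c' : K)) := by
    simp only [elN]
    have q1 := cm hr hr' prs
    have q2 := cm hr (neg_lt hc hr') (pneg hr hr' prs).2
    have q3 := cm (neg_lt hc hr) hr' (pneg hr hr' prs).1
    have q4 := cm (neg_lt hc hr) (neg_lt hc hr') (pneg (neg_lt hc hr) hr' (pneg hr hr' prs).1).2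
    exact Commute.mul_left (Commute.mul_left
      (((q1 _ _).mul_right (q2 _ _)).mul_right (q1 _ _)) (((q3 _ _).mul_right (q4 _ _)).mul_right (q3 _ _)))
      (((q1 _ _).mul_right (q2 _ _)).mul_right (q1 _ _))
  rw [b1.mul_mul_mul_comm]
  have h1 := hN (c : K)
  have h2 := hN (-1)
  rw [hcc] at h1
  rw [map_neg, map_one] at h2
  exact mul_mem h1 h2

theorem chi_cor {a z : ℕ} (ha : a < 72) (hz : z < 72) (c : Kˣ) :
    chi (corChar D T6 a c) (rv D T6 z) = c ^ P6 a z := by
  rw [chi_corChar hc hz, pairZ, pairSum_eq]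
  congr 1
  exact Finset.sum_congr rfl fun i _ => by rw [cv_eq hc hsl ha, cval_eq hc i.2 hz]

theorem exists_scale [Fintype K] : ∀ (L : List (Fin chevE6.nroots × K)), (TW).Par L → (R6 K).Orth ((TW).expand L) →
    ∃ g ∈ TG, g * (R6 K).prodX ((TW).expand L) * g⁻¹ = X1 D K ((L.map fun p => p.1.val).flatMap ex1) ∧
      ∀ z : Fin chevE6.nroots, (∀ p ∈ (TW).expand L, (R6 K).B p.1 z = 0) → ∀ u, Commute g ((R6 K).x z u)
  | [], _, _ => ⟨1, one_mem _, by simp [Tw.expand, Sys.prodX, X1], fun z _ u => Commute.one_left _⟩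
  | (a, t) :: L, hP, hO => by
      obtain ⟨g, hg, hge, hgc⟩ := exists_scale L (fun p hp => hP p (List.mem_cons_of_mem _ hp))
        (List.Pairwise.sublist (List.sublist_append_right _ _) hO)
      obtain ⟨ht, hfix⟩ := hP (a, t) List.mem_cons_self
      simp only at ht hfix
      obtain ⟨c, hsq⟩ : ∃ c, t⁻¹ = c * c := FiniteField.isSquare_of_char_two (ringChar.eq K 2) t⁻¹
      have hc0 : c ≠ 0 := by rintro rfl; simp [ht] at hsq
      have hct : c * c * t = 1 := by rw [← hsq, inv_mul_cancel₀ ht]
      set u := Units.mk0 c hc0 with hu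
      -- the torus element
      obtain ⟨τ, hτ, hhead, htail⟩ : ∃ τ ∈ TG, (τ * (R6 K).prodX ((TW).expand1 (a, t)) * τ⁻¹ = X1 D K (ex1 a)) ∧
          ∀ z : Fin chevE6.nroots, (∀ p ∈ (TW).expand1 (a, t), (R6 K).B p.1 z = 0) →
            ∀ v, Commute τ ((R6 K).x z v) := by
        by_cases e : sym.img a = a
        · have hφt : φ t = t := hfix (Fin.ext e)
          have hcf : φ c = c := by
            have h1 : φ c * φ c = c * c := by rw [← map_mul, ← hsq, map_inv₀, hφt]
            rcases mul_self_eq_mul_self_iff.1 h1 with h | h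
            · exact h
            · rwa [CharTwo.neg_eq] at h
          have hex : (TW).expand1 (a, t) = [(a, t)] := if_pos (Fin.ext e)
          refine ⟨_, torus_fix_mem φ hφφ a.2 e u hcf, ?_, fun z hz v => ?_⟩
          · rw [hex, Sys.prodX]
            simp only [List.map_cons, List.map_nil, List.prod_cons, List.prod_nil, mul_one, X1, ex1, e, if_true]
            show torus D T6 K _ * elX D K a t * _ = _
            rw [torus_conj_elX hc _ a.2, chi_cor a.2 a.2, pair_self hc hsl a.2]
            congr 1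
            simpa [sq, hu] using hct
          · have h0 : P6 a z = 0 := by rw [← B_eq K]; exact hz (a, t) (by rw [hex]; simp)
            show Commute _ (elX D K z v)
            have := torus_conj_elX hc (F := K) (corChar D T6 a u) z.2 v
            rw [chi_cor a.2 z.2, h0, zpow_zero, Units.val_one, one_mul] at this
            exact mul_inv_eq_iff_eq_mul.1 this
        · have hne : piR a ≠ a := fun h => e (congrArg Fin.val h)
          have hex : (TW).expand1 (a, t) = [(a, t), (piR a, φ t)] := if_neg hne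
          set u' : Kˣ := Units.mk0 (φ c) (by simpa using hc0) with hu'
          refine ⟨_, torus_pair_mem φ hφφ a.2 e u u' rfl, ?_, fun z hz v => ?_⟩
          · rw [hex, Sys.prodX]
            simp only [List.map_cons, List.map_nil, List.prod_cons, List.prod_nil, mul_one, X1, ex1, e, if_false]
            show torus D T6 K _ * (elX D K a t * elX D K (sym.img a) (φ t)) * _ = _
            have hp := (sym_spec a.2).2.2.1 e
            have hp' : P6 (sym.img a) a = 0 := by rw [← (pair_spec hc hsl a.2 (img_lt a.2)).1]; exact hp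
            rw [← conj_mul, torus_conj_elX hc _ a.2, torus_conj_elX hc _ (img_lt a.2), chi_mul, chi_mul,
              chi_cor a.2 a.2, chi_cor (img_lt a.2) a.2, chi_cor a.2 (img_lt a.2),
              chi_cor (img_lt a.2) (img_lt a.2), pair_self hc hsl a.2, pair_self hc hsl (img_lt a.2), hp, hp']
            congr 2
            · simpa [sq, hu] using hct
            · have := congrArg φ hct
              simp only [map_mul, map_one] at this
              simpa [sq, hu, hu'] using this
          · have h0 : P6 a z = 0 := by rw [← B_eq K]; exact hz (a, t) (by rw [hex]; simp)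
            have h1 : P6 (sym.img a) z = 0 := by
              have := hz (piR a, φ t) (by rw [hex]; simp)
              rwa [B_eq K] at this
            show Commute _ (elX D K z v)
            have := torus_conj_elX hc (F := K) (corChar D T6 a u * corChar D T6 (sym.img a) u') z.2 v
            rw [chi_mul, chi_cor a.2 z.2, chi_cor (img_lt a.2) z.2, h0, h1, zpow_zero, zpow_zero, mul_one,
              Units.val_one, one_mul] at this
            exact mul_inv_eq_iff_eq_mul.1 this
      have hO' := List.pairwise_append.1 hO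
      refine ⟨τ * g, mul_mem hτ hg, ?_, fun z hz v => ?_⟩
      · have hga : Commute g ((R6 K).prodX ((TW).expand1 (a, t))) := by
          refine Commute.list_prod_right _ _ fun y hy => ?_
          obtain ⟨p, hp, rfl⟩ := List.mem_map.1 hy
          exact hgc p.1 (fun q hq => by rw [(R6 K).B_symm]; exact hO'.2.2 p hp q hq) p.2
        have hτX : Commute τ (X1 D K ((L.map fun p => p.1.val).flatMap ex1)) := by
          refine Commute.list_prod_right _ _ fun y hy => ?_
          obtain ⟨z, hz, rfl⟩ := List.mem_map.1 hy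
          simp only [List.mem_flatMap, List.mem_map] at hz
          obtain ⟨_, ⟨p, hp, rfl⟩, hz⟩ := hz
          have hmem : ∃ q ∈ (TW).expand L, q.1.val = z := by
            unfold ex1 at hz
            by_cases e : sym.img p.1 = p.1
            · rw [if_pos e, List.mem_singleton] at hz
              exact ⟨p, List.mem_flatMap.2 ⟨p, hp, by simp [Tw.expand1]; split <;> simp⟩, hz.symm⟩
            · rw [if_neg e, List.mem_cons, List.mem_singleton] at hz
              have hne : (TW).pi p.1 ≠ p.1 := fun h => e (congrArg Fin.val h)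
              rcases hz with rfl | rfl
              · exact ⟨p, List.mem_flatMap.2 ⟨p, hp, by simp [Tw.expand1, hne]⟩, rfl⟩
              · exact ⟨(piR p.1, φ p.2), List.mem_flatMap.2 ⟨p, hp, by simp [Tw.expand1, hne]; exact Or.inr ⟨rfl, rfl⟩⟩, rfl⟩
          obtain ⟨q, hq, rfl⟩ := hmem
          exact htail q.1 (fun r hr => hO'.2.2 r hr q hq) 1
        rw [List.map_cons, List.flatMap_cons, Tw.expand_cons, Sys.prodX_append, X1_append,
          show τ * g * ((R6 K).prodX ((TW).expand1 (a, t)) * (R6 K).prodX ((TW).expand L)) * (τ * g)⁻¹ =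
            τ * ((g * (R6 K).prodX ((TW).expand1 (a, t)) * g⁻¹) * (g * (R6 K).prodX ((TW).expand L) * g⁻¹)) * τ⁻¹
            by group, hga.eq, mul_inv_cancel_right, hge, ← conj_mul, hhead, hτX.eq, mul_inv_cancel_right]
      · exact (htail z (fun p hp => hz p (List.mem_append_left _ hp)) v).mul_left
          (hgc z (fun p hp => hz p (List.mem_append_right _ hp)) v)

include hφφ htr in
theorem exists_rep [Fintype K] {u : GL chevE6.Idx K} (hu : u ∈ (R6 K).gen (R6 K).pos)
    (hs : twistSigma sym sym_test φ u = u) (h2 : u * u = 1) (h1 : u ≠ 1) :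
    ∃ R ∈ reps, CT φ u (X1 D K R) := by
  obtain ⟨g, hg, L, hL, ho, e⟩ := (TW).exists_conj hu hs h2
  obtain ⟨g', hg', e', -⟩ := exists_scale φ hφφ htr L hL ho
  set M := L.map fun p => p.1.val
  have h0 : CT φ u (X1 D K (M.flatMap ex1)) :=
    ⟨g' * g, mul_mem hg' (fgen_le φ hφφ htr _ hg), by rw [← e', ← e]; group⟩
  have hom : M.flatMap ex1 = ((TW).expand L).map fun p => p.1.val := by
    simp only [M, Tw.expand]
    clear e e' h0 ho hL
    induction L with
    | nil => rfl
    | cons p L ihL =>
        rw [List.map_cons, List.flatMap_cons, List.flatMap_cons, List.map_append, ← ihL]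
        congr 1
        by_cases e : sym.img p.1 = p.1
        · simp [ex1, e, Tw.expand1, show (TW).pi p.1 = p.1 from Fin.ext e]
        · have hne : (TW).pi p.1 ≠ p.1 := fun h => e (congrArg Fin.val h)
          simp [ex1, e, Tw.expand1, hne]
          rfl
  have hO : OrthN D T6 (M.flatMap ex1) := by
    rw [hom]
    refine ⟨fun r hr => ?_, ?_⟩
    · obtain ⟨p, -, rfl⟩ := List.mem_map.1 hr; exact p.1.2
    · rw [List.pairwise_map]
      exact ho.imp fun h => (B_eq K _ _).symm.trans h
  have hnil : ([] : List ℕ) ∈ trans.map Prod.fst := by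
    have ht := trans_ok
    simp only [transTest, Bool.and_eq_true, List.contains_iff_mem] at ht
    exact ht.1
  obtain ⟨C, hC, hconj⟩ := exists_trans φ _ M [] rfl hnil
    (fun r hr => by obtain ⟨p, -, rfl⟩ := List.mem_map.1 hr; exact p.1.2) (by simpa using hO)
  rw [List.nil_append] at hconj
  have h3 := h0.trans φ hconj
  have hne : C ≠ [] := fun h => by
    obtain ⟨x, -, hx⟩ := h3
    rw [h] at hx
    exact h1 (conj_eq_one_iff.1 (hx.trans (by simp [X1])))
  have hf := final_ok
  simp only [finalTest, Bool.and_eq_true, List.all_eq_true, Bool.or_eq_true, decide_eq_true_iff, List.any_eq_true,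
    List.contains_iff_mem] at hf
  obtain ⟨⟨hcov, hrun⟩, -⟩ := hf
  obtain ⟨en, hen, rfl⟩ := (hcov C hC).resolve_left hne
  obtain ⟨ho', hr', hR⟩ := hrun en hen
  exact ⟨_, hR, h3.trans φ (run_conj φ hφφ htr _ _ _ (orthB_spec ho') hr')⟩

/-! ### The count -/

omit φ in
theorem exists_trace [Fintype K] (φ : K ≃+* K) (hφφ : ∀ x, φ (φ x) = x) {q : ℕ} (hφ : ∀ x, φ x = x ^ q)
    (hq : IsPrimePow q) (hK : Fintype.card K = q ^ 2) : ∃ a : K, a + φ a = 1 := by
  obtain ⟨b, hb⟩ : ∃ b : K, φ b ≠ b := by
    by_contra hcon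
    push Not at hcon
    have h1 : Nat.card {x : K // x ^ q = x} = Fintype.card K := by
      rw [← Nat.card_eq_fintype_card]
      exact Nat.card_congr (Equiv.subtypeUnivEquiv fun x => (hφ x).symm.trans (hcon x))
    rw [Twisted.card_fixed hq two_ne_zero hK, hK] at h1
    have := hq.two_le
    nlinarith
  have hs : φ b + b ≠ 0 := fun h => hb (by rw [add_eq_zero_iff_eq_neg, CharTwo.neg_eq] at h; exact h)
  refine ⟨b / (φ b + b), ?_⟩
  rw [map_div₀, map_add, hφφ, add_comm b (φ b), ← add_div, add_comm b (φ b), div_self hs]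

theorem reps_spec {R : List ℕ} (hR : R ∈ reps) : OrthN D T6 R ∧ ∀ r ∈ R, sym.img r = r := by
  have hf := final_ok
  simp only [finalTest, Bool.and_eq_true, List.all_eq_true, decide_eq_true_iff] at hf
  exact ⟨orthB_spec (hf.2 R hR).1, (hf.2 R hR).2⟩

theorem rep_mem {R : List ℕ} (hR : R ∈ reps) : X1 D K R ∈ TG := by
  refine list_prod_mem fun y hy => ?_
  obtain ⟨r, hr, rfl⟩ := List.mem_map.1 hy
  exact orb_fix_mem φ ((reps_spec hR).1.1 r hr) ((reps_spec hR).2 r hr) (map_one φ)

/-- There are three classes of involutions. -/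
theorem count [Fintype K] {q : ℕ} (hK : Fintype.card K = q ^ 2) :
    (ConjClasses.mk '' {g : ↥(twistedE6 K q) | orderOf g = 2}).ncard = 3 := by
  have hq : IsPrimePow q := (isPrimePow_pow_iff two_ne_zero).1 (hK ▸ Fintype.isPrimePow_card_of_field)
  obtain ⟨ψ, hψ⟩ := Twisted.exists_frob hq two_ne_zero hK
  have hψψ : ∀ x, ψ (ψ x) = x := Twisted.iterate_frob_card hψ hK
  have htr' := exists_trace ψ hψψ hψ hq hK
  rw [Twisted.E6.twistedE6_eq hK ψ hψ]
  haveI := Fact.mk Nat.prime_two
  set G := twistGrp sym_test ψ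
  obtain ⟨P, hP⟩ := CfsgLib.TwistOut.sylow_U CfsgLib.TwistOut.E6.ctx ψ 2
  have hex : ∀ g : ↥G, orderOf g = 2 → ∃ R ∈ reps, CT ψ (g : GL chevE6.Idx K) (X1 D K R) := by
    intro g h2
    have hz : IsPGroup 2 (Subgroup.zpowers g) := IsPGroup.of_card (n := 1) (by rw [Nat.card_zpowers, pow_one]; exact h2)
    obtain ⟨Q, hQ⟩ := hz.exists_le_sylow
    obtain ⟨k, hk⟩ := MulAction.exists_smul_eq ↥G Q P
    have hm : k * g * k⁻¹ ∈ (P : Subgroup ↥G) := by
      rw [← hk]
      exact ⟨g, hQ (Subgroup.mem_zpowers _), rfl⟩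
    rw [hP, Subgroup.mem_subgroupOf] at hm
    set v := k * g * k⁻¹ with hv
    have hgg : g * g = 1 := by rw [← sq, ← h2, pow_orderOf_eq_one]
    have hvv : v * v = 1 := by rw [hv, conj_mul, hgg, mul_one, mul_inv_cancel]
    have hv1 : (v : GL chevE6.Idx K) ≠ 1 := fun h => by
      have : g = 1 := conj_eq_one_iff.1 (Subtype.ext h : v = 1)
      rw [this, orderOf_one] at h2; omega
    obtain ⟨R, hR, x, hx, e⟩ := exists_rep ψ hψψ htr' (mkSys_gen_pos hc hsl hcomm K (by
      rw [posUnipotent_eq hc]; exact hm)) (twistGrp_le_fixed hc sym_test ψ v.2) (congrArg Subtype.val hvv) hv1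
    refine ⟨R, hR, x * k, mul_mem hx k.2, ?_⟩
    rw [← e]
    simp only [hv, Subgroup.coe_mul, Subgroup.coe_inv]
    group
  obtain ⟨hd, hl, hnz⟩ := ranks_distinct
  have hrank : ∀ c ∈ ranks, ((((X1 D K c.rep : GL chevE6.Idx K) : Matrix chevE6.Idx chevE6.Idx K)) - 1).rank = c.k :=
    fun c hc' => rank_X1 K hc (List.all_eq_true.1 rank_ok c hc')
  let y : Fin ranks.length → ↥G := fun i => ⟨X1 D K (ranks.get i).rep, rep_mem ψ (List.mem_map_of_mem (List.get_mem _ _))⟩
  have hinj : Function.Injective fun i => ConjClasses.mk (y i) := by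
    intro i j e
    obtain ⟨h, he⟩ := isConj_iff.1 (ConjClasses.mk_eq_mk_iff_isConj.1 e)
    have he' := congrArg Subtype.val he
    simp only [y, Subgroup.coe_mul, Subgroup.coe_inv] at he'
    have hk : (ranks.get i).k = (ranks.get j).k := by
      rw [← hrank _ (List.get_mem _ _), ← hrank _ (List.get_mem _ _), rank_conj K he']
    apply Fin.ext
    have := (List.Nodup.getElem_inj_iff hd (hi := by simp) (hj := by simp)).1
      (show (ranks.map RankCert.k)[i.val]'(by simp) = (ranks.map RankCert.k)[j.val]'(by simp) by simpa using hk)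
    exact this
  have himg : ConjClasses.mk '' {g : ↥G | orderOf g = 2} = Set.range fun i => ConjClasses.mk (y i) := by
    refine Set.Subset.antisymm ?_ ?_
    · rintro _ ⟨g, hg, rfl⟩
      obtain ⟨R, hR, x, hx, e⟩ := hex g hg
      obtain ⟨c, hc', rfl⟩ := List.mem_map.1 hR
      obtain ⟨i, rfl⟩ := List.get_of_mem hc'
      exact ⟨i, (ConjClasses.mk_eq_mk_iff_isConj.2 (isConj_iff.2 ⟨⟨x, hx⟩, Subtype.ext e⟩)).symm⟩
    · rintro _ ⟨i, rfl⟩
      refine ⟨y i, ?_, rfl⟩
      show orderOf (y i) = 2
      rw [← Subgroup.orderOf_coe]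
      have hmem : ranks.get i ∈ ranks := List.get_mem _ _
      refine orderOf_eq_prime ?_ fun e => hnz _ hmem ?_
      · rw [sq]; exact CfsgLib.InvolSL.E6.data.sq K (reps_spec (List.mem_map_of_mem hmem)).1
      · have := hrank _ hmem
        rw [show X1 D K (ranks.get i).rep = 1 from e, Units.val_one, sub_self, Matrix.rank_zero] at this
        exact this.symm
  rw [himg, Set.ncard_range_of_injective hinj, Nat.card_eq_fintype_card, Fintype.card_fin, hl]

end CfsgLib.InvolSL.E6T
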