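import Cfsg.Agent.Lib.InvolSL.Concrete

/-!
Every involution of a simply laced Chevalley group in characteristic two is conjugate to one of the products given by
a checked certificate.
-/

set_option autoImplicit false
set_option linter.unusedSectionVars false

namespace CfsgLib.InvolSL

open Cfsg.Lie CfsgLib.Chev

/-- One step of a certificate: an optional quadruple with its root, and a word in the fundamental reflections. -/
structure Entry where
  /-- the quadruple and its root -/
  quad : Option (ℕ × ℕ × ℕ × ℕ × ℕ)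
  /-- the word -/
  word : List ℕ
deriving Inhabited

/-- A word of fundamental reflections. -/
def toW (D : ChevalleyDatum) (L : List ℕ) : List (Fin D.rank) :=
  L.filterMap fun i => if h : i < D.rank then some ⟨i, h⟩ else none

/-- Removing a quadruple. -/
def restOf (S : List ℕ) (a b d k : ℕ) : List ℕ := (((S.erase a).erase b).erase d).erase k

/-- The check of one step. -/
noncomputable def entryOK (D : ChevalleyDatum) (T : Tabs) (reps : List (List ℕ)) (S : List ℕ) (e : Entry) : Bool :=
  let fin : List ℕ → Bool := fun S1 => reps.any fun R => (S1.map (sigs D T (toW D e.word))).isPerm R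
  match e.quad with
  | none => fin S
  | some (a, b, d, k, p) =>
      cond ((a :: b :: d :: k :: restOf S a b d k).isPerm S)
        (cond (decide (p < D.nroots))
          (cond (allNat D.rank fun i => decide (wt D T p i + wt D T p i = wt D T a i + wt D T b i - wt D T d i - wt D T k i))
            (fin (b :: d :: k :: restOf S a b d k)) false) false) false

/-- The representatives of a certificate. -/
def repsOf (cert : List (List ℕ × List (ℕ × Entry))) : List (List ℕ) := cert.map Prod.fst

/-- The certificate test. -/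
noncomputable def certTest (D : ChevalleyDatum) (T : Tabs) (cert : List (List ℕ × List (ℕ × Entry))) : Bool :=
  cond ((repsOf cert).contains [])
    (cert.all fun c =>
      cond (c.1.all fun a => decide (a < D.nroots))
        (allNat D.nroots fun r =>
          cond (c.1.all fun a => decide (pairZ D T a r = 0))
            (entryOK D T (repsOf cert) (r :: c.1) ((c.2.lookup r).getD default)) true) false) false

/-- A product of root elements with coefficient one. -/
noncomputable def X1 (D : ChevalleyDatum) (F : Type*) [Field F] (L : List ℕ) : GL D.Idx F :=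
  (L.map fun r => elX D F r 1).prod

/-- Conjugacy by an element of the group. -/
def Cn (D : ChevalleyDatum) (F : Type*) [Field F] (u v : GL D.Idx F) : Prop := ∃ g ∈ D.group F, g * u * g⁻¹ = v

/-- A list of mutually orthogonal roots. -/
def OrthN (D : ChevalleyDatum) (T : Tabs) (L : List ℕ) : Prop :=
  (∀ r ∈ L, r < D.nroots) ∧ L.Pairwise fun r s => pairZ D T r s = 0

variable {D : ChevalleyDatum} {T : Tabs} (hc : Checked D T) (h : slCheck D T = true) (hcomm : CommOne D T)
  {F : Type*} [Field F] [CharP F 2]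

theorem Cn.trans {u v w : GL D.Idx F} : Cn D F u v → Cn D F v w → Cn D F u w
  | ⟨g, hg, e⟩, ⟨g', hg', e'⟩ => ⟨g' * g, mul_mem hg' hg, by rw [← e', ← e]; group⟩

theorem Cn.refl (u : GL D.Idx F) : Cn D F u u := ⟨1, one_mem _, by group⟩

theorem OrthN.sublist {L M : List ℕ} (hM : OrthN D T M) (e : L.Sublist M) : OrthN D T L :=
  ⟨fun r hr => hM.1 r (e.subset hr), hM.2.sublist e⟩

include hc h

theorem OrthN.perm {L M : List ℕ} (hL : OrthN D T L) (e : L.Perm M) : OrthN D T M :=
  ⟨fun r hr => hL.1 r (e.mem_iff.2 hr), by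
    have h2 : L.Pairwise fun r s => r < D.nroots ∧ s < D.nroots ∧ pairZ D T r s = 0 :=
      hL.2.imp_of_mem fun hr hs e' => ⟨hL.1 _ hr, hL.1 _ hs, e'⟩
    exact (h2.perm e fun {x y} ⟨a, b, c⟩ => ⟨b, a, (pair_spec hc h a b).1 ▸ c⟩).imp fun e' => e'.2.2⟩

include hcomm

theorem X1_perm {L M : List ℕ} (hL : OrthN D T L) (e : L.Perm M) : X1 D F L = X1 D F M := by
  refine (e.map _).prod_eq' ?_
  rw [List.pairwise_map]
  exact hL.2.imp_of_mem fun hr hs e' => elX_commute hc h hcomm F (hL.1 _ hr) (hL.1 _ hs) e'.ge 1 1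

theorem nProd_mem (L : List (Fin D.rank)) : nProd D F L ∈ D.group F := by
  refine list_prod_mem fun y hy => ?_
  obtain ⟨i, -, rfl⟩ := List.mem_map.1 hy
  exact elN_mem_group hc (simple_lt hc i.2) 1

theorem weyl_conj (L : List (Fin D.rank)) {M : List ℕ} (hM : ∀ r ∈ M, r < D.nroots) :
    Cn D F (X1 D F M) (X1 D F (M.map (sigs D T L))) := by
  refine ⟨nProd D F L, nProd_mem hc h hcomm L, ?_⟩
  induction M with
  | nil => simp [X1]
  | cons r M ih =>
      obtain ⟨c, hc1, hcx⟩ := nProd_conj_elX hc (F := F) L (hM r List.mem_cons_self)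
      have ih' := ih fun s hs => hM s (List.mem_cons_of_mem _ hs)
      simp only [X1, List.map_cons, List.prod_cons] at ih' ⊢
      rw [← conj_mul, ih', hcx]
      rcases hc1 with e | e <;> simp [e, CharTwo.neg_eq]

theorem weyl_orth (L : List (Fin D.rank)) {M : List ℕ} (hM : OrthN D T M) : OrthN D T (M.map (sigs D T L)) := by
  refine ⟨fun r hr => ?_, ?_⟩
  · obtain ⟨s, hs, rfl⟩ := List.mem_map.1 hr
    exact sigs_lt hc L (hM.1 s hs)
  · rw [List.pairwise_map]
    exact hM.2.imp_of_mem fun hr hs e => (sigs_pair hc h L (hM.1 _ hr) (hM.1 _ hs)).trans e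

theorem quad_conj [Fintype F] {a b d k p : ℕ} {M : List ℕ} (hp : p < D.nroots)
    (hM : OrthN D T (a :: b :: d :: k :: M))
    (e : ∀ i < D.rank, wt D T p i + wt D T p i = wt D T a i + wt D T b i - wt D T d i - wt D T k i) :
    Cn D F (X1 D F (a :: b :: d :: k :: M)) (X1 D F (b :: d :: k :: M)) := by
  obtain ⟨hlt, hpw⟩ := hM
  have ha := hlt a (by simp)
  have hb := hlt b (by simp)
  have hd := hlt d (by simp)
  have hk := hlt k (by simp)
  simp only [List.pairwise_cons, List.mem_cons, forall_eq_or_imp] at hpw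
  obtain ⟨⟨ab, ad, ak, aM⟩, ⟨bd, bk, bM⟩, ⟨dk, dM⟩, kM, -⟩ := hpw
  set R := mkSys hc h hcomm F
  haveI : Inhabited (Fin D.nroots) := ⟨⟨a, ha⟩⟩
  have hB : ∀ {r s : ℕ} (hr : r < D.nroots) (hs : s < D.nroots), R.B ⟨r, hr⟩ ⟨s, hs⟩ = pairZ D T r s :=
    fun hr hs => mkSys_B hc h hcomm F ⟨_, hr⟩ ⟨_, hs⟩
  obtain ⟨g, hg, hge⟩ := Sys.quad (R := R) (a := ⟨a, ha⟩) (b := ⟨b, hb⟩) (d := ⟨d, hd⟩) (k := ⟨k, hk⟩) (p := ⟨p, hp⟩)
    (by rw [hB, ab]) (by rw [hB, ad]) (by rw [hB, ak]) (by rw [hB, bd]) (by rw [hB, bk]) (by rw [hB, dk])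
    (funext fun i => e i i.2)
  refine ⟨g, mkSys_gen_le hc h hcomm F _ hg, ?_⟩
  have hcm : Commute g (X1 D F M) := by
    refine Commute.list_prod_right _ _ fun y hy => ?_
    obtain ⟨z, hz, rfl⟩ := List.mem_map.1 hy
    have hz' := hlt z (by simp [hz])
    refine R.gen_commute (a := ⟨z, hz'⟩) (fun r hr => (hr ⟨z, hz'⟩ ?_ ?_ ?_ ?_).ge) hg 1
    · rw [R.B_symm, hB, aM z hz]
    · rw [R.B_symm, hB, bM z hz]
    · rw [R.B_symm, hB, dM z hz]
    · rw [R.B_symm, hB, kM z hz]
  simp only [X1, List.map_cons, List.prod_cons] at hcm ⊢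
  rw [← mul_assoc (elX D F a 1), ← mul_assoc _ (elX D F d 1), ← mul_assoc _ (elX D F k 1), ← conj_mul,
    show g * (elX D F a 1 * elX D F b 1 * elX D F d 1 * elX D F k 1) * g⁻¹ = elX D F b 1 * elX D F d 1 * elX D F k 1
      from hge,
    hcm.eq, mul_inv_cancel_right]
  simp only [mul_assoc]

theorem exists_rep [Fintype F] {cert : List (List ℕ × List (ℕ × Entry))} (ht : certTest D T cert = true) :
    ∀ (m : ℕ) (M : List ℕ), M.length = m → ∀ R ∈ repsOf cert, OrthN D T (R ++ M) →
      ∃ R' ∈ repsOf cert, Cn D F (X1 D F (R ++ M)) (X1 D F R') := by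
  intro m
  induction m with
  | zero =>
      intro M hM R hR _
      rw [List.length_eq_zero_iff.1 hM, List.append_nil]
      exact ⟨R, hR, Cn.refl _⟩
  | succ m ih =>
      intro M hlen R hR hRM
      obtain ⟨r, M, rfl⟩ : ∃ r N, M = r :: N := by
        cases M with
        | nil => simp at hlen
        | cons r N => exact ⟨r, N, rfl⟩
      obtain ⟨⟨R, es⟩, hcm, rfl⟩ := List.mem_map.1 hR
      simp only [certTest, cond_false_iff, List.all_eq_true, allNat_iff] at ht
      obtain ⟨-, hall⟩ := ht
      obtain ⟨-, hall⟩ := hall _ hcm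
      have hr : r < D.nroots := hRM.1 r (by simp)
      have horth : R.all (fun a => decide (pairZ D T a r = 0)) = true := by
        rw [List.all_eq_true]
        intro a ha
        simpa using (List.pairwise_append.1 hRM.2).2.2 a ha r (by simp)
      have hent := hall r hr
      rw [horth, cond_true] at hent
      simp only at hent hRM ⊢
      set e : Entry := (es.lookup r).getD default
      have hperm : (R ++ r :: M).Perm ((r :: R) ++ M) := List.perm_middle
      have hS : OrthN D T ((r :: R) ++ M) := OrthN.perm hc h hRM hperm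
      rw [X1_perm hc h hcomm hRM hperm]
      -- the final step for a set with the same class
      have fin : ∀ S1 : List ℕ, OrthN D T (S1 ++ M) →
          (repsOf cert).any (fun R' => (S1.map (sigs D T (toW D e.word))).isPerm R') = true →
          Cn D F (X1 D F ((r :: R) ++ M)) (X1 D F (S1 ++ M)) →
          ∃ R' ∈ repsOf cert, Cn D F (X1 D F ((r :: R) ++ M)) (X1 D F R') := by
        intro S1 hS1 hany h12
        obtain ⟨R1, hR1, hp1⟩ := List.any_eq_true.1 hany
        rw [List.isPerm_iff] at hp1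
        have hw := weyl_conj hc h hcomm (F := F) (toW D e.word) hS1.1
        have ho := weyl_orth hc h hcomm (toW D e.word) hS1
        rw [List.map_append] at hw ho
        rw [X1_perm hc h hcomm ho (hp1.append_right _)] at hw
        obtain ⟨R', hR', hfin⟩ := ih (M.map (sigs D T (toW D e.word))) (by simpa using hlen) R1 hR1
          (OrthN.perm hc h ho (hp1.append_right _))
        exact ⟨R', hR', h12.trans (hw.trans hfin)⟩
      unfold entryOK at hent
      cases hq : e.quad with
      | none =>
          rw [hq] at hent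
          exact fin _ hS hent (Cn.refl _)
      | some v =>
          obtain ⟨a, b, d, k, p⟩ := v
          rw [hq] at hent
          simp only [cond_false_iff, allNat_iff, decide_eq_true_iff, List.isPerm_iff] at hent
          obtain ⟨hpS, hp, hw, hany⟩ := hent
          have h1 : ((r :: R) ++ M).Perm (a :: b :: d :: k :: (restOf (r :: R) a b d k ++ M)) :=
            (hpS.append_right M).symm
          have h2 := OrthN.perm hc h hS h1
          refine fin (b :: d :: k :: restOf (r :: R) a b d k) (h2.sublist (List.sublist_cons_self _ _)) hany ?_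
          rw [X1_perm hc h hcomm hS h1]
          exact quad_conj hc h hcomm hp h2 hw

theorem exists_scale [Fintype F] {L : List (ℕ × F)} (hL : OrthN D T (L.map Prod.fst)) (ht : ∀ p ∈ L, p.2 ≠ 0) :
    ∃ g ∈ D.group F, g * (L.map fun p => elX D F p.1 p.2).prod * g⁻¹ = X1 D F (L.map Prod.fst) ∧
      ∀ z, z < D.nroots → (∀ p ∈ L, pairZ D T p.1 z = 0) → ∀ u, Commute g (elX D F z u) := by
  induction L with
  | nil => exact ⟨1, one_mem _, by simp [X1], fun z _ _ u => Commute.one_left _⟩
  | cons a L ih =>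
      obtain ⟨a, t⟩ := a
      have ha : a < D.nroots := hL.1 a (by simp)
      obtain ⟨g, hg, hge, hgc⟩ := ih (hL.sublist (List.sublist_cons_self _ _))
        (fun p hp => ht p (List.mem_cons_of_mem _ hp))
      have hao := (List.pairwise_cons.1 hL.2).1
      have hmem : ∀ p ∈ L, p.1 < D.nroots ∧ pairZ D T a p.1 = 0 := fun p hp => by
        have h' : p.1 ∈ L.map Prod.fst := List.mem_map_of_mem hp
        exact ⟨hL.1 p.1 (by simp only [List.map_cons]; exact List.mem_cons_of_mem _ h'), hao p.1 h'⟩
      have hga : Commute g (elX D F a t) := hgc a ha (fun p hp => by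
        rw [(pair_spec hc h (hmem p hp).1 ha).1]
        exact (hmem p hp).2) t
      obtain ⟨c, hsq⟩ : ∃ c, t⁻¹ = c * c := FiniteField.isSquare_of_char_two (ringChar.eq F 2) t⁻¹
      have hc0 : c ≠ 0 := by rintro rfl; simp [ht (a, t) (by simp)] at hsq
      set τ := torus D T F (corChar D T a (Units.mk0 c hc0))
      have hτ : τ ∈ D.group F := diagonal_le_group hc (torus_corChar_mem hc _)
      have hconj : ∀ z, z < D.nroots → ∀ u, τ * elX D F z u * τ⁻¹ = elX D F z (c ^ pairZ D T a z * u) := by
        intro z hz u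
        rw [torus_conj_elX hc _ hz, chi_corChar hc hz, Units.val_zpow_eq_zpow_val, Units.val_mk0, pairZ, pairSum_eq]
        congr 3
        exact Finset.sum_congr rfl fun i _ => by rw [cv_eq hc h ha, cval_eq hc i.2 hz]
      refine ⟨τ * g, mul_mem hτ hg, ?_, fun z hz hzL u => ?_⟩
      · have hX : Commute τ (X1 D F (L.map Prod.fst)) := by
          refine Commute.list_prod_right _ _ fun y hy => ?_
          obtain ⟨z, hz, rfl⟩ := List.mem_map.1 hy
          have := hconj z (hL.1 z (by simp only [List.map_cons]; exact List.mem_cons_of_mem _ hz)) 1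
          rw [hao z hz, zpow_zero, one_mul] at this
          exact mul_inv_eq_iff_eq_mul.1 this
        have h1 : elX D F a (1 : F) = τ * elX D F a t * τ⁻¹ := by
          rw [hconj a ha, pair_self hc h ha]
          congr 1
          rw [zpow_ofNat, sq, ← hsq, inv_mul_cancel₀ (ht (a, t) (by simp))]
        simp only [X1, List.map_cons, List.prod_cons] at hX hge ⊢
        rw [show τ * g * (elX D F a t * (L.map fun p => elX D F p.1 p.2).prod) * (τ * g)⁻¹ =
          τ * ((g * elX D F a t * g⁻¹) * (g * (L.map fun p => elX D F p.1 p.2).prod * g⁻¹)) * τ⁻¹ by group, hga.eq,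
          mul_inv_cancel_right, hge, ← conj_mul, ← h1, hX.eq, mul_inv_cancel_right]
      · refine Commute.mul_left ?_ (hgc z hz (fun p hp => hzL p (List.mem_cons_of_mem _ hp)) u)
        have := hconj z hz u
        rw [hzL (a, t) (by simp), zpow_zero, one_mul] at this
        exact mul_inv_eq_iff_eq_mul.1 this

/-- Every involution is conjugate to one of the nontrivial representatives. -/
theorem exists_class [Fintype F] {cert : List (List ℕ × List (ℕ × Entry))} (ht : certTest D T cert = true)
    {g : GL D.Idx F} (hg : g ∈ D.group F) (h2 : orderOf g = 2) :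
    ∃ R ∈ repsOf cert, R ≠ [] ∧ Cn D F g (X1 D F R) := by
  haveI := Fact.mk Nat.prime_two
  obtain ⟨P, hP⟩ := ChevAut.sylow_pos hc hcomm (F := F) 2
  have hz : IsPGroup 2 (Subgroup.zpowers (⟨g, hg⟩ : ↥(D.group F))) :=
    IsPGroup.of_card (n := 1) (by rw [Nat.card_zpowers, ← Subgroup.orderOf_coe, pow_one]; exact h2)
  obtain ⟨Q, hQ⟩ := hz.exists_le_sylow
  obtain ⟨c, hc'⟩ := MulAction.exists_smul_eq ↥(D.group F) Q P
  have hm : c * ⟨g, hg⟩ * c⁻¹ ∈ (P : Subgroup ↥(D.group F)) := by
    rw [← hc']
    exact ⟨⟨g, hg⟩, hQ (Subgroup.mem_zpowers _), rfl⟩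
  rw [hP, Subgroup.mem_subgroupOf] at hm
  simp only [Subgroup.coe_mul, Subgroup.coe_inv] at hm
  set R := mkSys hc h hcomm F
  have hgg : g * g = 1 := by rw [← sq, ← h2, pow_orderOf_eq_one]
  have hg1 : g ≠ 1 := fun e => by rw [e, orderOf_one] at h2; omega
  set u := (c : GL D.Idx F) * g * (c : GL D.Idx F)⁻¹
  have hu : u ∈ R.gen R.pos := by
    refine mkSys_gen_pos hc h hcomm F ?_
    rw [posUnipotent_eq hc]
    exact hm
  have hu2 : u * u = 1 := by rw [conj_mul, hgg, mul_one, mul_inv_cancel]
  rcases Nat.eq_zero_or_pos D.nroots with h0 | h0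
  · exfalso
    have : u = 1 := by
      have hle : R.gen R.pos ≤ ⊥ := Sys.gen_le _ fun r => absurd r.2 (by omega)
      exact Subgroup.mem_bot.1 (hle hu)
    exact hg1 (conj_eq_one_iff.1 this)
  haveI : Inhabited (Fin D.nroots) := ⟨⟨0, h0⟩⟩
  obtain ⟨g₁, hg₁, L, hL0, hLo, hge⟩ := Sys.exists_conj hu hu2
  set L' : List (ℕ × F) := L.map fun p => ((p.1 : ℕ), p.2)
  have hL' : OrthN D T (L'.map Prod.fst) := by
    refine ⟨fun r hr => ?_, ?_⟩
    · simp only [L', List.map_map, List.mem_map] at hr
      obtain ⟨p, -, rfl⟩ := hr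
      exact p.1.2
    · simp only [L', List.map_map, List.pairwise_map]
      exact hLo.imp fun e => by rwa [mkSys_B hc h hcomm F] at e
  obtain ⟨g₂, hg₂, hge₂, -⟩ := exists_scale hc h hcomm hL' fun p hp => by
    obtain ⟨q, hq, rfl⟩ := List.mem_map.1 hp
    exact hL0 q hq
  have hnil : ([] : List ℕ) ∈ repsOf cert := by
    simp only [certTest, cond_false_iff, List.contains_iff_mem] at ht
    exact ht.1
  obtain ⟨R', hR', hfin⟩ := exists_rep hc h hcomm (F := F) ht _ (L'.map Prod.fst) rfl [] hnil (by simpa using hL')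
  have hchain : Cn D F g (X1 D F R') := by
    refine Cn.trans ?_ (by simpa using hfin)
    refine ⟨g₂ * g₁ * c, mul_mem (mul_mem hg₂ (mkSys_gen_le hc h hcomm F _ hg₁)) c.2, ?_⟩
    rw [show g₂ * g₁ * (c : GL D.Idx F) * g * (g₂ * g₁ * c)⁻¹ = g₂ * (g₁ * u * g₁⁻¹) * g₂⁻¹ by
      simp only [u]; group, hge, ← hge₂]
    simp only [L', List.map_map, Sys.prodX]
    rfl
  refine ⟨R', hR', fun e => ?_, hchain⟩
  obtain ⟨x, -, hx⟩ := hchain
  rw [e] at hx
  exact hg1 (conj_eq_one_iff.1 (hx.trans (by simp [X1])))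

end CfsgLib.InvolSL
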